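import Mathlib
import Cfsg.Agent.Lib.AutPOmega.Root
import Cfsg.Agent.Lib.Forms.SiegelOmega

/-!
Lib/MinIndexOmega/Basic: Siegel elements of `EG Q` as a total function, transports, separation
by singular vectors, a torus.
-/

set_option autoImplicit false
set_option linter.unusedSectionVars false

namespace Cfsg.Agent.Lib.MinIndexOmega

open Module QuadraticMap Cfsg.Agent.Lib.Forms Cfsg.Agent.Lib.OrthOmega Cfsg.Agent.Lib.AutPOmega
open scoped commutatorElement

variable {F : Type*} [Field F] {V : Type*} [AddCommGroup V] [Module F V]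
variable {Q : QuadraticForm F V}

theorem EG_ext {g h : EG Q} (H : ∀ x, g.1.1 x = h.1.1 x) : g = h := Subtype.ext (orth_ext H)

theorem eg_mul_apply (g h : EG Q) (x : V) : (g * h).1.1 x = g.1.1 (h.1.1 x) := rfl

theorem eg_inv_apply (g : EG Q) (x : V) : (g⁻¹).1.1 (g.1.1 x) = x := orth_inv_apply_apply g.1 x

theorem eg_apply_inv (g : EG Q) (x : V) : g.1.1 ((g⁻¹).1.1 x) = x := orth_apply_inv_apply g.1 x

theorem eg_Q (g : EG Q) (x : V) : Q (g.1.1 x) = Q x := g.1.2 x

theorem eg_polar (g : EG Q) (x y : V) : polar Q (g.1.1 x) (g.1.1 y) = polar Q x y :=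
  orth_polar g.1.2 x y

theorem eg_one_apply (x : V) : (1 : EG Q).1.1 x = x := rfl

/-! ### The Siegel element as a total function -/

open Classical in
/-- The Siegel element of `e, u`; one if they are no Siegel pair. -/
noncomputable def el (Q : QuadraticForm F V) (e u : V) : EG Q :=
  if h : SPair Q e u then rE h else 1

theorem el_eq {e u : V} (h : SPair Q e u) : el Q e u = rE h := by rw [el, dif_pos h]

theorem el_apply {e u : V} (h : SPair Q e u) (x : V) : (el Q e u).1.1 x =
    x + polar Q e x • u - (polar Q u x + Q u * polar Q e x) • e := by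
  rw [el_eq h]; rfl

theorem el_apply_perp {e u x : V} (h : SPair Q e u) (hx : polar Q e x = 0) :
    (el Q e u).1.1 x = x - polar Q u x • e := by
  rw [el_apply h, hx, zero_smul, add_zero, mul_zero, add_zero]

theorem el_fix {e u x : V} (h : SPair Q e u) (h1 : polar Q e x = 0) (h2 : polar Q u x = 0) :
    (el Q e u).1.1 x = x := by
  rw [el_apply_perp h h1, h2, zero_smul, sub_zero]

theorem el_fix_base {e u : V} (h : SPair Q e u) : (el Q e u).1.1 e = e := el_fix h h.self h.perp'

theorem el_zero (e : V) : el Q e 0 = 1 := by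
  by_cases h : SPair Q e 0
  · rw [el_eq h]; exact Subtype.ext (rho_zero h)
  · rw [el, dif_neg h]

theorem el_mul {e u w : V} (hu : SPair Q e u) (hw : SPair Q e w) :
    el Q e u * el Q e w = el Q e (u + w) := by
  rw [el_eq hu, el_eq hw, el_eq (hu.add hw), rE_mul]

theorem el_inv (e u : V) : (el Q e u)⁻¹ = el Q e (-u) := by
  by_cases h : SPair Q e u
  · rw [el_eq h, el_eq h.neg, rE_inv]
  · have h' : ¬ SPair Q e (-u) := fun h' => h (by simpa using h'.neg)
    rw [el, dif_neg h, el, dif_neg h', inv_one]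

theorem el_conj (g : EG Q) (e u : V) : g * el Q e u * g⁻¹ = el Q (g.1.1 e) (g.1.1 u) := by
  by_cases h : SPair Q e u
  · rw [el_eq h, el_eq (h.map g.1)]
    exact Subtype.ext (rho_conj g.1 h)
  · have h' : ¬ SPair Q (g.1.1 e) (g.1.1 u) := fun h' =>
      h ⟨(eg_Q g e).symm.trans h'.sing, (eg_polar g e u).symm.trans h'.perp⟩
    rw [el, dif_neg h, el, dif_neg h', mul_one, mul_inv_cancel]

theorem el_conj_inv (g : EG Q) (e u : V) : g⁻¹ * el Q e u * g = el Q (g⁻¹.1.1 e) (g⁻¹.1.1 u) := by
  have := el_conj g⁻¹ e u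
  rwa [inv_inv] at this

theorem el_smul_left {t : F} (ht : t ≠ 0) (e u : V) : el Q (t • e) u = el Q e (t • u) := by
  by_cases h : SPair Q e (t • u)
  · have h' : SPair Q (t • e) u := ⟨by rw [Q_smul, h.sing, mul_zero], by
      rw [polar_smul_left, ← polar_smul_right]; exact h.perp⟩
    rw [el_eq h, el_eq h']
    exact Subtype.ext (rho_vec_smul h' h)
  · have h' : ¬ SPair Q (t • e) u := fun h' => h ⟨by
      have := h'.sing
      rw [Q_smul, mul_eq_zero] at this
      exact this.resolve_left (mul_ne_zero ht ht), by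
      rw [polar_smul_right, ← polar_smul_left]; exact h'.perp⟩
    rw [el, dif_neg h', el, dif_neg h]

theorem el_shift {e u : V} (h : SPair Q e u) (s : F) : el Q e (u + s • e) = el Q e u := by
  have h' : SPair Q e (u + s • e) := h.add ⟨h.sing, by rw [polar_smul_right, h.self, smul_zero]⟩
  rw [el_eq h, el_eq h']
  exact Subtype.ext (rho_shift h s h')

theorem el_self {e : V} (he : Q e = 0) (s : F) : el Q e (s • e) = 1 := by
  have := el_shift (SPair.zero he) s
  rwa [zero_add, el_zero] at this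

theorem el_swap {e u : V} (he : Q e = 0) (hu : Q u = 0) (h : polar Q e u = 0) :
    el Q u e = el Q e (-u) := by
  refine EG_ext fun x => ?_
  rw [el_apply ⟨hu, (polar_comm Q u e).trans h⟩, el_apply (SPair.neg ⟨he, h⟩), he, Q_neg', hu,
    polar_neg_left]
  module
where
  Q_neg' : ∀ {x : V}, Q (-x) = Q x := fun {x} => QuadraticMap.map_neg Q x

/-- Two elements of the groups of perpendicular points have a root element as commutator. -/
theorem el_comm_mem {K : Subgroup (EG Q)} {e u y z : V} (hy : SPair Q e y) (hz : SPair Q u z)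
    (heu : polar Q e u = 0) (hyu : polar Q y u = 0) (hez : polar Q e z = 0)
    (h1 : el Q e y ∈ K) (h2 : el Q u z ∈ K) : el Q u (polar Q y z • e) ∈ K := by
  have hc := el_conj (el Q e y) u z
  rw [el_fix hy heu hyu, el_apply_perp hy hez] at hc
  have hb : SPair Q u (-(polar Q y z • e)) := SPair.neg ⟨hz.sing, by
    rw [polar_smul_right, (polar_comm Q u e).trans heu, smul_zero]⟩
  rw [sub_eq_add_neg, ← el_mul hz hb, ← el_inv] at hc
  have h3 : el Q u z * (el Q u (polar Q y z • e))⁻¹ ∈ K :=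
    hc ▸ K.mul_mem (K.mul_mem h1 h2) (K.inv_mem h1)
  exact inv_mem_iff.1 ((K.mul_mem_cancel_left h2).1 h3)

/-! ### Orthogonals -/

/-- The orthogonal of a subspace. -/
def perpS (Q : QuadraticForm F V) (S : Submodule F V) : Submodule F V :=
  LinearMap.BilinForm.orthogonal (polarBilin Q) S

theorem mem_perpS {S : Submodule F V} {v : V} : v ∈ perpS Q S ↔ ∀ x ∈ S, polar Q x v = 0 :=
  Iff.rfl

theorem mem_perpS_span {s : Set V} {v : V} :
    v ∈ perpS Q (Submodule.span F s) ↔ ∀ x ∈ s, polar Q x v = 0 := by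
  refine ⟨fun h x hx => h x (Submodule.subset_span hx), fun h x hx => ?_⟩
  induction hx using Submodule.span_induction with
  | mem y hy => exact h y hy
  | zero => exact polar_zero_left (Q := Q) v
  | add y z _ _ hy hz =>
    show polar Q (y + z) v = 0
    rw [polar_add_left, show polar Q y v = 0 from hy, show polar Q z v = 0 from hz, add_zero]
  | smul a y _ hy =>
    show polar Q (a • y) v = 0
    rw [polar_smul_left, show polar Q y v = 0 from hy, smul_zero]

theorem polarBilin_isRefl : (LinearMap.BilinForm.IsRefl (polarBilin Q)) := fun x y h =>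
  (polar_comm Q y x).trans h

theorem finrank_perpS [FiniteDimensional F V] (hQ : Nondeg Q) (S : Submodule F V) :
    finrank F (perpS Q S) = finrank F V - finrank F S :=
  LinearMap.BilinForm.finrank_orthogonal hQ.polarBilin S

theorem perpS_perpS [FiniteDimensional F V] (hQ : Nondeg Q) (S : Submodule F V) :
    perpS Q (perpS Q S) = S :=
  LinearMap.BilinForm.orthogonal_orthogonal hQ.polarBilin polarBilin_isRefl S

variable [Finite F] [FiniteDimensional F V]

/-- Three dimensions contain a singular vector. -/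
theorem exists_singular_any (W : Submodule F V) (h3 : 3 ≤ finrank F W) :
    ∃ v ∈ W, v ≠ 0 ∧ Q v = 0 := by
  suffices h : ∃ v : W, v ≠ 0 ∧ res Q W v = 0 by
    obtain ⟨v, hv0, hv⟩ := h
    exact ⟨v, v.2, fun h => hv0 (Subtype.ext h), hv⟩
  by_cases h2 : (2 : F) = 0
  · exact exists_singular_of_char_two h2 _ h3
  by_cases hN : Nondeg (res Q W)
  · exact OrthOmega.exists_singular hN h3
  · unfold Nondeg at hN
    push Not at hN
    obtain ⟨v, hv, hv0⟩ := hN
    refine ⟨v, hv0, ?_⟩
    have := hv v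
    rw [polar_self', mul_eq_zero] at this
    exact this.resolve_left h2

/-- A vector outside `S` is seen by a singular vector orthogonal to `S`. -/
theorem exists_sing_sep (hQ : Nondeg Q) {S : Submodule F V} {c : V} (hc : c ∉ S)
    (h : finrank F (S ⊓ perpS Q S : Submodule F V) + 3 ≤ finrank F (perpS Q S)) :
    ∃ z, Q z = 0 ∧ (∀ x ∈ S, polar Q x z = 0) ∧ polar Q z c ≠ 0 := by
  obtain ⟨z₀, hz₀, hz₀c⟩ : ∃ z₀ ∈ perpS Q S, polar Q z₀ c ≠ 0 := by
    by_contra hcon
    push Not at hcon
    exact hc (by rw [← perpS_perpS hQ S]; exact fun z hz => hcon z hz)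
  by_contra hcon
  push Not at hcon
  have hbad : ∀ s ∈ perpS Q S, Q s = 0 → s ∈ S := by
    intro s hs hs0
    rw [← perpS_perpS hQ S]
    intro y hy
    show polar Q y s = 0
    by_contra hne
    -- adjust `y` to see `c`
    obtain ⟨y', hy', hy's, hy'c⟩ : ∃ y' ∈ perpS Q S, polar Q y' s ≠ 0 ∧ polar Q y' c ≠ 0 := by
      by_cases hyc : polar Q y c = 0
      · by_cases hzs : polar Q z₀ s = 0
        · exact ⟨z₀ + y, add_mem hz₀ hy, by rw [polar_add_left, hzs, zero_add]; exact hne,
            by rw [polar_add_left, hyc, add_zero]; exact hz₀c⟩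
        · exact ⟨z₀, hz₀, hzs, hz₀c⟩
      · exact ⟨y, hy, hne, hyc⟩
    set t := -(Q y' / polar Q y' s)
    have hQz : Q (y' + t • s) = 0 := by
      rw [Q_add, Q_smul, hs0, polar_smul_right, smul_eq_mul]
      simp only [t]; field_simp; ring
    have h1 := hcon _ hQz (fun x hx => (add_mem hy' ((perpS Q S).smul_mem t hs) : _ ∈ perpS Q S) x hx)
    have h2 := hcon s hs0 (fun x hx => hs x hx)
    rw [polar_add_left, polar_smul_left, h2, smul_zero, add_zero] at h1
    exact hy'c h1
  obtain ⟨C, hC⟩ := Submodule.exists_isCompl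
    ((S ⊓ perpS Q S).comap (perpS Q S).subtype)
  have hdim := Submodule.finrank_add_eq_of_isCompl hC
  have he : finrank F ((S ⊓ perpS Q S).comap (perpS Q S).subtype) =
      finrank F (S ⊓ perpS Q S : Submodule F V) :=
    (Submodule.comapSubtypeEquivOfLe inf_le_right).finrank_eq
  obtain ⟨v, hv, hv0, hQv⟩ := exists_singular_any (Q := Q) (C.map (perpS Q S).subtype) (by
    rw [(Submodule.equivMapOfInjective _ Subtype.val_injective C).finrank_eq.symm]; omega)
  obtain ⟨w, hw, rfl⟩ := hv
  have h1 : w ∈ (S ⊓ perpS Q S).comap (perpS Q S).subtype := ⟨hbad _ w.2 hQv, w.2⟩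
  exact hv0 (congrArg Subtype.val ((Submodule.disjoint_def.1 hC.disjoint) w h1 hw))

/-! ### Transports -/

omit [Finite F] [FiniteDimensional F V] in
/-- Elements of `EG` of the complement of a pair extend. -/
theorem exists_lift {e f : V} {g : orth (res Q (core Q e f))}
    (hg : g ∈ EG (res Q (core Q e f))) :
    ∃ G : EG Q, G.1.1 e = e ∧ G.1.1 f = f ∧ ∀ w : core Q e f, G.1.1 w = (g.1 w : V) := by
  let H : Subgroup (orth (res Q (core Q e f))) :=
    { carrier := {h | ∃ G : EG Q, G.1.1 e = e ∧ G.1.1 f = f ∧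
        ∀ w : core Q e f, G.1.1 w = (h.1 w : V)}
      one_mem' := ⟨1, rfl, rfl, fun _ => rfl⟩
      mul_mem' := by
        rintro a b ⟨A, hA1, hA2, hA⟩ ⟨B, hB1, hB2, hB⟩
        refine ⟨A * B, by rw [eg_mul_apply, hB1, hA1], by rw [eg_mul_apply, hB2, hA2], fun w => ?_⟩
        rw [eg_mul_apply, hB, hA]; rfl
      inv_mem' := by
        rintro a ⟨A, hA1, hA2, hA⟩
        refine ⟨A⁻¹, ?_, ?_, fun w => ?_⟩
        · conv_lhs => rw [← hA1, eg_inv_apply]
        · conv_lhs => rw [← hA2, eg_inv_apply]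
        · have := hA (a⁻¹.1 w)
          rw [orth_apply_inv_apply] at this
          rw [← this, eg_inv_apply] }
  refine (EG_le (H := H) fun x u hu => ?_) hg
  have h' : SPair Q (x : V) (u : V) := ⟨hu.sing, hu.perp⟩
  refine ⟨rE h', ?_, ?_, fun w => ?_⟩
  · exact rho_fix h' ((polar_comm Q _ _).trans (mem_core.1 x.2).1)
      ((polar_comm Q _ _).trans (mem_core.1 u.2).1)
  · exact rho_fix h' ((polar_comm Q _ _).trans (mem_core.1 x.2).2)
      ((polar_comm Q _ _).trans (mem_core.1 u.2).2)
  · show (rho h').1 (w : V) = _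
    rw [rho_apply, rho_apply]
    rfl

/-- `EG Q` is transitive on a singular vector with an orthogonal vector of given value. -/
theorem exists_map_pair (hQ : Nondeg Q) (h6 : 6 ≤ finrank F V) {e e' a b : V} (he0 : e ≠ 0)
    (he : Q e = 0) (he'0 : e' ≠ 0) (he' : Q e' = 0) (ha : polar Q e a = 0)
    (hb : polar Q e' b = 0) (ha' : ∀ t : F, a ≠ t • e) (hb' : ∀ t : F, b ≠ t • e')
    (hab : Q a = Q b) : ∃ g : EG Q, g.1.1 e = e' ∧ g.1.1 a = b := by
  obtain ⟨g₁, hg₁, hg₁e⟩ := conn_of_eq hQ (by omega) he0 he'0 (he.trans he'.symm)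
  set G₁ : EG Q := ⟨g₁, hg₁⟩
  have hG₁ : G₁.1.1 e = e' := hg₁e
  obtain ⟨f, hp⟩ := exists_hypPair hQ he'0 he'
  have hfr := hp.finrank_core
  have hcore := hp.nondeg_core hQ
  -- the parts in the complement
  have proj : ∀ x, polar Q e' x = 0 → (∀ t : F, x ≠ t • e') →
      ∃ w : core Q e' f, w ≠ 0 ∧ Q (w : V) = Q x ∧ x = (w : V) + polar Q f x • e' := by
    intro x hx hx'
    have hm := hp.proj_mem x
    rw [hx, zero_smul, sub_zero] at hm
    refine ⟨⟨_, hm⟩, fun h0 => hx' (polar Q f x) (sub_eq_zero.1 (congrArg Subtype.val h0)), ?_,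
      (sub_add_cancel _ _).symm⟩
    show Q (x - polar Q f x • e') = Q x
    rw [sub_eq_add_neg, ← neg_smul, Q_add, Q_smul, he', polar_smul_right, (polar_comm Q x e').trans hx]
    simp
  have ha1 : polar Q e' (G₁.1.1 a) = 0 := by rw [← hG₁, eg_polar]; exact ha
  have ha1' : ∀ t : F, G₁.1.1 a ≠ t • e' := fun t ht => ha' t (G₁.1.1.injective (by
    rw [ht, map_smul, hG₁]))
  obtain ⟨a₀, ha₀, hQa₀, haa⟩ := proj _ ha1 ha1'
  obtain ⟨b₀, hb₀, hQb₀, hbb⟩ := proj b hb hb'
  obtain ⟨h, hh, hha⟩ := conn_of_eq hcore (by omega) ha₀ hb₀ (by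
    show Q (a₀ : V) = Q (b₀ : V)
    rw [hQa₀, hQb₀, eg_Q, hab])
  obtain ⟨G₂, hG₂e, -, hG₂⟩ := exists_lift hh
  set c := polar Q f (G₁.1.1 a) - polar Q f b
  obtain ⟨w, hw⟩ := exists_polar_eq_one hcore hb₀
  have hS : SPair Q e' (c • (w : V)) :=
    ⟨he', by rw [polar_smul_right, (mem_core.1 w.2).1, smul_zero]⟩
  refine ⟨el Q e' (c • (w : V)) * (G₂ * G₁), ?_, ?_⟩
  · rw [eg_mul_apply, eg_mul_apply, hG₁, hG₂e, el_fix_base hS]
  · rw [eg_mul_apply, eg_mul_apply, haa, map_add, map_smul, hG₂, hha, hG₂e, map_add, map_smul,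
      el_fix_base hS, el_apply_perp hS (mem_core.1 b₀.2).1, polar_smul_left, polar_comm Q (w : V)]
    rw [res_polar] at hw
    rw [hw, smul_eq_mul, mul_one]
    conv_rhs => rw [hbb]
    simp only [c]
    module

/-- A torus element. -/
theorem exists_torus (hQ : Nondeg Q) (h5 : 5 ≤ finrank F V) {e f : V} (hp : HypPair Q e f) {s : F}
    (hs : s ≠ 0) : ∃ g : EG Q, g.1.1 e = (s * s) • e ∧ g.1.1 f = (s * s)⁻¹ • f ∧
      ∀ w ∈ core Q e f, g.1.1 w = w := by
  set a := e - f
  set b := e - s • f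
  have hQa : Q a = -1 := by
    simp only [a, sub_eq_add_neg, Q_add, QuadraticMap.map_neg, hp.left, hp.right, polar_neg_right,
      hp.pol]
    ring
  have hQb : Q b = -s := by
    simp only [b, sub_eq_add_neg, ← neg_smul, Q_add, Q_smul, hp.left, hp.right, polar_smul_right,
      hp.pol, smul_eq_mul]
    ring
  have hmem : ⁅orefl Q a, orefl Q b⁆ ∈ EG Q := by
    rw [← commutator_eq_EG hQ h5]
    exact Subgroup.commutator_mem_commutator (Subgroup.mem_top _) (Subgroup.mem_top _)
  have hae : refl Q a e = f := by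
    rw [refl_apply, hQa]
    simp [a, polar_sub_left, hp.pol_ee, hp.pol']
  have haf : refl Q a f = e := by
    rw [refl_apply, hQa]
    simp [a, polar_sub_left, hp.pol, hp.pol_ff]
  have hbe : refl Q b e = s • f := by
    rw [refl_apply, hQb]
    simp [b, polar_sub_left, hp.pol_ee, hp.pol', hs]
  have hbf : refl Q b f = s⁻¹ • e := by
    rw [refl_apply, hQb]
    simp only [b, polar_sub_left, polar_smul_left, hp.pol, hp.pol_ff, smul_zero, sub_zero, mul_one,
      inv_neg, neg_smul, sub_neg_eq_add, smul_sub, smul_smul, inv_mul_cancel₀ hs, one_smul]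
    match_scalars <;> field_simp <;> ring
  have happ : ∀ x, (⟨_, hmem⟩ : EG Q).1.1 x = refl Q a (refl Q b (refl Q a (refl Q b x))) :=
    fun x => by
      show (orefl Q a * orefl Q b * (orefl Q a)⁻¹ * (orefl Q b)⁻¹ : orth Q).1 x = _
      simp only [Subgroup.coe_mul, Subgroup.coe_inv, orefl, refl_inv]
      rfl
  refine ⟨⟨_, hmem⟩, ?_, ?_, fun w hw => ?_⟩
  · rw [happ, hbe, map_smul, haf, map_smul, hbe, map_smul, map_smul, haf, smul_smul]
  · rw [happ, hbf, map_smul, hae, map_smul, hbf, map_smul, map_smul, hae, smul_smul, mul_inv]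
  · obtain ⟨h1, h2⟩ := mem_core.1 hw
    have ha : refl Q a w = w := refl_fix Q (by simp [a, polar_sub_left, h1, h2])
    have hb : refl Q b w = w := refl_fix Q (by simp [b, polar_sub_left, h1, h2])
    rw [happ, hb, ha, hb, ha]

end Cfsg.Agent.Lib.MinIndexOmega
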