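import Mathlib
import Cfsg.Agent.Lib.MinIndexOmega.Basic

/-!
Lib/MinIndexOmega/Bound: parameters of a subgroup at a singular point, a root line with trivial
intersection, and the orbit bound inside the point stabiliser.
-/

set_option autoImplicit false
set_option linter.unusedSectionVars false

namespace Cfsg.Agent.Lib.MinIndexOmega

open Module QuadraticMap Cfsg.Agent.Lib.Forms Cfsg.Agent.Lib.OrthOmega Cfsg.Agent.Lib.AutPOmega

variable {F : Type*} [Field F] [Finite F] {V : Type*} [AddCommGroup V] [Module F V]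
variable [FiniteDimensional F V] {Q : QuadraticForm F V}

theorem finite_V (F : Type*) (V : Type*) [Field F] [Finite F] [AddCommGroup V] [Module F V]
    [FiniteDimensional F V] : Finite V := Module.finite_of_finite F

/-- The parameters of `K` at the singular point `e`. -/
def pp (K : Subgroup (EG Q)) {e : V} (he : Q e = 0) : AddSubgroup V where
  carrier := {w | polar Q e w = 0 ∧ el Q e w ∈ K}
  zero_mem' := ⟨polar_zero_right (Q := Q) e, by rw [el_zero]; exact K.one_mem⟩
  add_mem' := by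
    rintro a b ⟨ha, ha'⟩ ⟨hb, hb'⟩
    exact ⟨by rw [polar_add_right, ha, hb, add_zero], by
      rw [← el_mul ⟨he, ha⟩ ⟨he, hb⟩]; exact K.mul_mem ha' hb'⟩
  neg_mem' := by
    rintro a ⟨ha, ha'⟩
    exact ⟨by rw [polar_neg_right, ha, neg_zero], by rw [← el_inv]; exact K.inv_mem ha'⟩

theorem mem_pp {K : Subgroup (EG Q)} {e : V} {he : Q e = 0} {w : V} :
    w ∈ pp K he ↔ polar Q e w = 0 ∧ el Q e w ∈ K := Iff.rfl

theorem smul_self_mem_pp (K : Subgroup (EG Q)) {e : V} (he : Q e = 0) (s : F) :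
    s • e ∈ pp K he :=
  ⟨by rw [polar_smul_right, polar_self', he, mul_zero, smul_zero],
    by rw [el_self he]; exact K.one_mem⟩

/-! ### The stabiliser of a point -/

/-- The stabiliser of the line of `e`. -/
def pStab (Q : QuadraticForm F V) (e : V) : Subgroup (EG Q) where
  carrier := {g | ∃ t : F, t ≠ 0 ∧ g.1.1 e = t • e}
  one_mem' := ⟨1, one_ne_zero, by rw [one_smul]; rfl⟩
  mul_mem' := by
    rintro a b ⟨s, hs, hae⟩ ⟨t, ht, hbe⟩
    exact ⟨t * s, mul_ne_zero ht hs, by rw [eg_mul_apply, hbe, map_smul, hae, smul_smul]⟩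
  inv_mem' := by
    rintro a ⟨s, hs, hae⟩
    refine ⟨s⁻¹, inv_ne_zero hs, ?_⟩
    have h := congrArg (fun x => s⁻¹ • a⁻¹.1.1 x) hae
    simp only [eg_inv_apply, map_smul, smul_smul, inv_mul_cancel₀ hs, one_smul] at h
    exact h.symm

/-- The images of a set under the point stabiliser, acting on parameters. -/
def imgs (Q : QuadraticForm F V) (e : V) (B : Set V) : Set (Set V) :=
  {B' | ∃ (g : EG Q) (t : F), t ≠ 0 ∧ g.1.1 e = t • e ∧ B' = (fun x => t • g.1.1 x) '' B}

theorem imgs_step {e : V} {B B' : Set V} (hB' : B' ∈ imgs Q e B) {h : EG Q} (he : h.1.1 e = e) :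
    (fun x => h.1.1 x) '' B' ∈ imgs Q e B := by
  obtain ⟨g, t, ht, hge, rfl⟩ := hB'
  refine ⟨h * g, t, ht, by rw [eg_mul_apply, hge, map_smul, he], ?_⟩
  rw [Set.image_image]
  exact Set.image_congr fun x _ => by rw [eg_mul_apply, map_smul]

theorem imgs_inj {g : EG Q} {t : F} (ht : t ≠ 0) :
    Function.Injective fun x => t • g.1.1 x := fun x y h =>
  g.1.1.injective (smul_right_injective V ht h)

theorem card_perp_point (hQ : Nondeg Q) {e : V} (he0 : e ≠ 0) :
    Nat.card (perpS Q (Submodule.span F ({e} : Set V))) = Nat.card F ^ (finrank F V - 1) := by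
  rw [Module.natCard_eq_pow_finrank (K := F), finrank_perpS hQ, finrank_span_singleton he0]

/-- The stabiliser of the point and of the parameters. -/
def parSt (K : Subgroup (EG Q)) {e : V} (he : Q e = 0) : Subgroup (EG Q) where
  carrier := {g | ∃ t : F, t ≠ 0 ∧ g.1.1 e = t • e ∧
    (fun x => t • g.1.1 x) '' (pp K he : Set V) = (pp K he : Set V)}
  one_mem' := ⟨1, one_ne_zero, by rw [one_smul]; rfl, by simp⟩
  mul_mem' := by
    rintro a b ⟨s, hs, hae, ha⟩ ⟨t, ht, hbe, hb⟩
    refine ⟨t * s, mul_ne_zero ht hs, by rw [eg_mul_apply, hbe, map_smul, hae, smul_smul], ?_⟩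
    conv_rhs => rw [← ha, ← hb, Set.image_image]
    exact Set.image_congr fun x _ => by rw [eg_mul_apply, map_smul, smul_smul, mul_comm]
  inv_mem' := by
    rintro a ⟨s, hs, hae, ha⟩
    refine ⟨s⁻¹, inv_ne_zero hs, ?_, ?_⟩
    · have h := congrArg (fun x => s⁻¹ • a⁻¹.1.1 x) hae
      simp only [eg_inv_apply, map_smul, smul_smul, inv_mul_cancel₀ hs, one_smul] at h
      exact h.symm
    · conv_lhs => rw [← ha, Set.image_image]
      refine Eq.trans (Set.image_congr fun x _ => ?_) (Set.image_id _)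
      rw [map_smul, eg_inv_apply, smul_smul, inv_mul_cancel₀ hs, one_smul]; rfl

/-- The radical at the point. -/
noncomputable def parHom (Q : QuadraticForm F V) {e : V} (he : Q e = 0) :
    Multiplicative (perpS Q (Submodule.span F ({e} : Set V))) →* EG Q :=
  MonoidHom.mk' (fun w => el Q e (w.toAdd : V)) fun a b =>
    (el_mul ⟨he, a.toAdd.2 e (Submodule.mem_span_singleton_self e)⟩
      ⟨he, b.toAdd.2 e (Submodule.mem_span_singleton_self e)⟩).symm

theorem parHom_mem_parSt (K : Subgroup (EG Q)) {e : V} (he : Q e = 0)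
    (w : Multiplicative (perpS Q (Submodule.span F ({e} : Set V)))) :
    parHom Q he w ∈ parSt K he := by
  haveI := finite_V F V
  have hw : SPair Q e (w.toAdd : V) := ⟨he, w.toAdd.2 e (Submodule.mem_span_singleton_self e)⟩
  refine ⟨1, one_ne_zero, by rw [one_smul]; exact el_fix_base hw,
    Set.eq_of_subset_of_ncard_le ?_ ?_ (Set.toFinite _)⟩
  · rintro _ ⟨x, hx, rfl⟩
    show (1 : F) • (el Q e (w.toAdd : V)).1.1 x ∈ pp K he
    rw [one_smul, el_apply_perp hw hx.1]
    exact sub_mem hx (smul_self_mem_pp K he _)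
  · rw [Set.ncard_image_of_injective _ (imgs_inj one_ne_zero)]

/-- The orbit bound with the index of the radical part as a factor. -/
theorem card_imgs_mul_le_aux (hQ : Nondeg Q) {e : V} (he0 : e ≠ 0) (he : Q e = 0)
    (K : Subgroup (EG Q)) {M : ℕ}
    (hM : M * K.relIndex (parHom Q he).range ≤ K.relIndex (parSt K he)) :
    M * ((imgs Q e (pp K he : Set V)).ncard * Nat.card F ^ (finrank F V - 1)) ≤
      K.relIndex (pStab Q e) * Nat.card (pp K he) := by
  classical
  haveI := finite_EG (Q := Q)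
  haveI := finite_V F V
  set E := perpS Q (Submodule.span F ({e} : Set V))
  have hE : ∀ w : E, SPair Q e (w : V) := fun w =>
    ⟨he, w.2 e (Submodule.mem_span_singleton_self e)⟩
  set φ := parHom Q he with hφ
  have hQE : K.relIndex φ.range * Nat.card (pp K he) = Nat.card F ^ (finrank F V - 1) := by
    rw [← card_perp_point hQ he0, ← Subgroup.index_comap]
    have hc : Nat.card (K.comap φ) = Nat.card (pp K he) := Nat.card_congr
      { toFun := fun a => ⟨(a.1.toAdd : V), (hE a.1.toAdd).perp, a.2⟩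
        invFun := fun w => ⟨Multiplicative.ofAdd
          (⟨w.1, mem_perpS_span.2 fun x hx => by rw [hx]; exact w.2.1⟩ : E), w.2.2⟩
        left_inv := fun a => rfl
        right_inv := fun w => rfl }
    rw [← hc, mul_comm, Subgroup.card_mul_index]
    exact Nat.card_congr Multiplicative.toAdd
  set St := parSt K he
  have hKle : K ⊓ pStab Q e ≤ St := by
    rintro k ⟨hk, t, ht, hke⟩
    refine ⟨t, ht, hke, Set.eq_of_subset_of_ncard_le ?_ ?_ (Set.toFinite _)⟩
    · rintro _ ⟨x, ⟨hx1, hx2⟩, rfl⟩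
      refine ⟨?_, ?_⟩
      · have h1 := eg_polar k e x
        rw [hke, polar_smul_left, ← polar_smul_right, hx1] at h1
        exact h1
      · have h1 := el_conj k e x
        rw [hke, el_smul_left ht] at h1
        show el Q e (t • k.1.1 x) ∈ K
        rw [← h1]
        exact K.mul_mem (K.mul_mem hk hx2) (K.inv_mem hk)
    · rw [Set.ncard_image_of_injective _ (imgs_inj ht)]
  have hSle : St ≤ pStab Q e := fun g ⟨t, ht, hge, _⟩ => ⟨t, ht, hge⟩
  have hcos : (imgs Q e (pp K he : Set V)).ncard ≤ St.relIndex (pStab Q e) := by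
    have hex : ∀ B : imgs Q e (pp K he : Set V), ∃ (g : pStab Q e) (t : F), t ≠ 0 ∧
        g.1.1.1 e = t • e ∧ B.1 = (fun x => t • g.1.1.1 x) '' (pp K he : Set V) := by
      rintro ⟨B, g, t, ht, hge, hB⟩
      exact ⟨⟨g, t, ht, hge⟩, t, ht, hge, hB⟩
    choose g t ht hge hB using hex
    rw [← Nat.card_coe_set_eq, Subgroup.relIndex, Subgroup.index]
    refine Nat.card_le_card_of_injective (fun B => QuotientGroup.mk (g B)) fun B B' h => ?_
    obtain ⟨s, hs, hse, hS⟩ := (Subgroup.mem_subgroupOf.1 (QuotientGroup.eq.1 h) : _ ∈ St)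
    refine Subtype.ext ?_
    rw [hB B, hB B']
    have h2 : ∀ x, ((g B)⁻¹ * g B' : pStab Q e).1.1.1 x = (g B).1⁻¹.1.1 ((g B').1.1.1 x) := fun x => rfl
    have hts : t B' = t B * s := by
      have h1 := congrArg (fun x => (g B).1.1.1 x) hse
      simp only [h2, eg_apply_inv, map_smul, hge, smul_smul] at h1
      exact smul_left_injective F he0 h1 |>.trans (mul_comm _ _)
    conv_lhs => rw [← hS, Set.image_image]
    refine Set.image_congr fun x _ => ?_
    rw [h2, map_smul, eg_apply_inv, smul_smul, hts]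
  have h1 := Subgroup.relIndex_mul_relIndex (K ⊓ pStab Q e) St (pStab Q e) hKle hSle
  rw [Subgroup.inf_relIndex_right] at h1
  have hK : St.relIndex (pStab Q e) * (M * K.relIndex φ.range) ≤ K.relIndex (pStab Q e) := by
    rw [← h1, mul_comm]
    refine Nat.mul_le_mul_right _ (hM.trans (le_of_eq ?_))
    conv_rhs => rw [← Subgroup.inf_relIndex_right (K ⊓ pStab Q e) St]
    rw [inf_assoc, inf_eq_right.2 hSle, Subgroup.inf_relIndex_right]
  rw [← hQE]
  calc M * ((imgs Q e (pp K he : Set V)).ncard * (K.relIndex φ.range * Nat.card (pp K he)))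
      = (imgs Q e (pp K he : Set V)).ncard * (M * K.relIndex φ.range) * Nat.card (pp K he) := by
        ring
    _ ≤ _ := Nat.mul_le_mul_right _ ((Nat.mul_le_mul_right _ hcos).trans hK)

/-- The orbit bound: the index at the point is at least the images times the index in the radical. -/
theorem card_imgs_mul_le (hQ : Nondeg Q) {e : V} (he0 : e ≠ 0) (he : Q e = 0)
    (K : Subgroup (EG Q)) :
    (imgs Q e (pp K he : Set V)).ncard * Nat.card F ^ (finrank F V - 1) ≤
      K.relIndex (pStab Q e) * Nat.card (pp K he) := by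
  haveI := finite_EG (Q := Q)
  haveI := finite_V F V
  haveI : ∀ H L : Subgroup (EG Q), H.IsFiniteRelIndex L :=
    fun H L => Subgroup.isFiniteRelIndex_of_finiteIndex
  have h := card_imgs_mul_le_aux hQ he0 he K (M := 1) (by
    rw [one_mul]
    refine Subgroup.relIndex_le_of_le_right ?_ Subgroup.relIndex_ne_zero
    rintro _ ⟨w, rfl⟩
    exact parHom_mem_parSt K he w)
  rwa [one_mul] at h

theorem relIndex_le_index (K P : Subgroup (EG Q)) : K.relIndex P ≤ K.index := by
  haveI := finite_EG (Q := Q)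
  rw [← Subgroup.relIndex_top_right K]
  haveI : ∀ H L : Subgroup (EG Q), H.IsFiniteRelIndex L :=
    fun H L => Subgroup.isFiniteRelIndex_of_finiteIndex
  exact Subgroup.relIndex_le_of_le_right le_top Subgroup.relIndex_ne_zero

/-- Double count of a class over the images. -/
theorem mult_mul_card_le {e : V} {B C : Set V} {M : ℕ}
    (hC : ∀ (g : EG Q) (t : F), t ≠ 0 → g.1.1 e = t • e → ∀ x, t • g.1.1 x ∈ C → x ∈ C)
    (hM : ∀ x ∈ C, M ≤ {B' | B' ∈ imgs Q e B ∧ x ∈ B'}.ncard) :
    M * C.ncard ≤ (imgs Q e B).ncard * (B ∩ C).ncard := by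
  classical
  haveI := finite_V F V
  let P : Set (V × Set V) := {p | p.1 ∈ C ∧ p.2 ∈ imgs Q e B ∧ p.1 ∈ p.2}
  have h1 : M * C.ncard ≤ P.ncard := by
    rw [← Nat.card_coe_set_eq, ← Nat.card_coe_set_eq P]
    have e1 : P ≃ Σ x : C, {B' : Set V // B' ∈ imgs Q e B ∧ x.1 ∈ B'} :=
      { toFun := fun p => ⟨⟨p.1.1, p.2.1⟩, p.1.2, p.2.2⟩
        invFun := fun s => ⟨(s.1.1, s.2.1), s.1.2, s.2.2⟩
        left_inv := fun p => rfl
        right_inv := fun s => rfl }
    haveI := Fintype.ofFinite C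
    rw [Nat.card_congr e1, Nat.card_sigma, mul_comm, Nat.card_eq_fintype_card (α := C),
      ← Finset.card_univ, ← smul_eq_mul]
    refine Finset.card_nsmul_le_sum _ _ _ fun x _ => ?_
    refine le_trans (hM x.1 x.2) ?_
    rw [← Nat.card_coe_set_eq]
    rfl
  have h2 : P.ncard ≤ (imgs Q e B).ncard * (B ∩ C).ncard := by
    rw [← Nat.card_coe_set_eq, ← Nat.card_coe_set_eq (imgs Q e B),
      ← Nat.card_coe_set_eq (B ∩ C : Set V), ← Nat.card_prod]
    have hex : ∀ B' : imgs Q e B, ∃ (g : EG Q) (t : F), t ≠ 0 ∧ g.1.1 e = t • e ∧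
        B'.1 = (fun x => t • g.1.1 x) '' B := fun B' => B'.2
    choose g t ht hge hB using hex
    have hpre : ∀ p : P, ∃ a : (B ∩ C : Set V),
        t ⟨p.1.2, p.2.2.1⟩ • (g ⟨p.1.2, p.2.2.1⟩).1.1 a.1 = p.1.1 := by
      intro p
      have hxB : p.1.1 ∈ ((⟨p.1.2, p.2.2.1⟩ : imgs Q e B) : Set V) := p.2.2.2
      rw [hB ⟨p.1.2, p.2.2.1⟩] at hxB
      obtain ⟨a, ha, hax⟩ := hxB
      refine ⟨⟨a, ha, hC _ _ (ht ⟨p.1.2, p.2.2.1⟩) (hge ⟨p.1.2, p.2.2.1⟩) a ?_⟩, hax⟩
      rw [show t ⟨p.1.2, p.2.2.1⟩ • (g ⟨p.1.2, p.2.2.1⟩).1.1 a = p.1.1 from hax]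
      exact p.2.1
    choose a hax using hpre
    refine Nat.card_le_card_of_injective
      (fun p => ((⟨p.1.2, p.2.2.1⟩ : imgs Q e B), a p)) fun p p' h => ?_
    simp only [Prod.mk.injEq] at h
    obtain ⟨h1, h2⟩ := h
    refine Subtype.ext (Prod.ext ?_ (congrArg Subtype.val h1))
    rw [← hax p, ← hax p', h1, h2]
  exact h1.trans h2

/-- A vector of the class of `a` lies in an image of a set containing `a`. -/
theorem exists_img_of_class (hQ : Nondeg Q) (h6 : 6 ≤ finrank F V) {e a x : V} (he0 : e ≠ 0)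
    (he : Q e = 0) (ha : polar Q e a = 0) (ha' : ∀ t : F, a ≠ t • e) (hx : polar Q e x = 0)
    (hx' : ∀ t : F, x ≠ t • e) {t : F} (ht : t ≠ 0) (hq : Q x = t * t * Q a) {B : Set V}
    (haB : a ∈ B) : ∃ B' ∈ imgs Q e B, x ∈ B' := by
  obtain ⟨g, hge, hga⟩ := exists_map_pair hQ h6 he0 he (e' := t • e) (a := a) (b := t⁻¹ • x)
    (smul_ne_zero ht he0) (by rw [Q_smul, he, mul_zero]) ha
    (by rw [polar_smul_left, polar_smul_right, hx, smul_zero, smul_zero]) ha'
    (fun s hs => hx' (t * (s * t)) (by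
      have := congrArg (fun v => t • v) hs
      simp only [smul_smul, mul_inv_cancel₀ ht, one_smul] at this
      exact this))
    (by rw [Q_smul, hq]; field_simp)
  exact ⟨_, ⟨g, t, ht, hge, rfl⟩, a, haB, by
    show t • g.1.1 a = x
    rw [hga, smul_smul, mul_inv_cancel₀ ht, one_smul]⟩

/-- Through `x`, a set moved by transvections has many images. -/
theorem exists_mult (hQ : Nondeg Q) (h7 : 7 ≤ finrank F V) {e x b : V} (he : Q e = 0)
    (hex : polar Q e x = 0) {B B' : Set V} (hB' : B' ∈ imgs Q e B) (hxB : x ∈ B') (hbB : b ∈ B')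
    (hsub : ∀ y ∈ B', ∀ y' ∈ B', y - y' ∈ B')
    (hb : b ∉ Submodule.span F ({e, x} : Set V)) :
    ∃ z, Q z = 0 ∧ polar Q z b ≠ 0 ∧ polar Q z e = 0 ∧ polar Q z x = 0 ∧
      Nat.card F ^ (finrank F V - 4) ≤
        {B'' | B'' ∈ imgs Q e B ∧ x ∈ B'' ∧ (z ∈ B'' → z ∈ B')}.ncard *
        {y | y ∈ B' ∧ polar Q z y = 0}.ncard := by
  classical
  haveI := finite_V F V
  set S := Submodule.span F ({e, x} : Set V)
  have hS2 : finrank F S ≤ 2 := by
    have := finrank_span_le_card (R := F) ({e, x} : Set V)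
    refine this.trans ?_
    rw [Set.toFinset_insert, Set.toFinset_singleton]
    exact Finset.card_le_two
  obtain ⟨z, hz, hzS, hzb⟩ := exists_sing_sep hQ hb (by
    have h1 := Submodule.finrank_mono (inf_le_left : S ⊓ perpS Q S ≤ S)
    have h2 := finrank_perpS hQ S
    omega)
  have hze : polar Q z e = 0 := (polar_comm Q _ _).trans (hzS e (Submodule.subset_span (by simp)))
  have hzx : polar Q z x = 0 := (polar_comm Q _ _).trans (hzS x (Submodule.subset_span (by simp)))
  obtain ⟨z', hz'⟩ : ∃ z', polar Q z z' = 1 :=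
    exists_polar_eq_one hQ fun h0 => hzb (by rw [h0, polar_zero_left])
  set V1 := perpS Q (Submodule.span F ({e, x, z, z'} : Set V))
  have hv : ∀ v : V1, polar Q e v = 0 ∧ polar Q x v = 0 ∧ polar Q z v = 0 ∧ polar Q z' v = 0 :=
    fun v => ⟨v.2 _ (Submodule.subset_span (by simp)), v.2 _ (Submodule.subset_span (by simp)),
      v.2 _ (Submodule.subset_span (by simp)), v.2 _ (Submodule.subset_span (by simp))⟩
  have hcard : Nat.card F ^ (finrank F V - 4) ≤ Nat.card V1 := by
    rw [Module.natCard_eq_pow_finrank (K := F) (V := V1), finrank_perpS hQ]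
    refine Nat.pow_le_pow_right Nat.card_pos ?_
    have h4 : finrank F (Submodule.span F ({e, x, z, z'} : Set V)) ≤ 4 := by
      refine (finrank_span_le_card (R := F) ({e, x, z, z'} : Set V)).trans ?_
      simp only [Set.toFinset_insert, Set.toFinset_singleton]
      exact Finset.card_le_four
    omega
  refine ⟨z, hz, hzb, hze, hzx, hcard.trans ?_⟩
  have hp : ∀ v : V1, SPair Q z (v : V) := fun v => ⟨hz, (hv v).2.2.1⟩
  have hhe : ∀ v : V1, (el Q z (v : V)).1.1 e = e := fun v =>
    el_fix (hp v) hze ((polar_comm Q _ _).trans (hv v).1)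
  have hhx : ∀ v : V1, (el Q z (v : V)).1.1 x = x := fun v =>
    el_fix (hp v) hzx ((polar_comm Q _ _).trans (hv v).2.1)
  let im : V1 → {B'' | B'' ∈ imgs Q e B ∧ x ∈ B'' ∧ (z ∈ B'' → z ∈ B')} := fun v =>
    ⟨(fun y => (el Q z (v : V)).1.1 y) '' B', imgs_step hB' (hhe v), ⟨x, hxB, hhx v⟩,
      fun ⟨y, hy, hyz⟩ =>
        (el Q z (v : V)).1.1.injective (hyz.trans (el_fix_base (hp v)).symm) ▸ hy⟩
  let D : V1 → V := fun v => (el Q z (v : V)).1.1 b - b
  have hD : ∀ v : V1, D v =
      polar Q z b • (v : V) - (polar Q (v : V) b + Q (v : V) * polar Q z b) • z := fun v => by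
    show (el Q z (v : V)).1.1 b - b = _
    rw [el_apply (hp v)]; abel
  have hDinj : Function.Injective D := by
    intro v v' h
    rw [hD, hD] at h
    have h1 := congrArg (fun w => polar Q z' w) h
    simp only [polar_sub_right, polar_smul_right, (hv v).2.2.2, (hv v').2.2.2, smul_eq_mul,
      mul_zero, zero_sub, neg_inj, (polar_comm Q z' z).trans hz', mul_one] at h1
    rw [h1] at h
    exact Subtype.ext (smul_right_injective V hzb (sub_left_inj.1 h))
  haveI : Fintype {B'' | B'' ∈ imgs Q e B ∧ x ∈ B'' ∧ (z ∈ B'' → z ∈ B')} := Fintype.ofFinite _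
  rw [← Nat.card_coe_set_eq, ← Nat.card_coe_set_eq {y | y ∈ B' ∧ polar Q z y = 0},
    Nat.card_congr (Equiv.sigmaFiberEquiv im).symm, Nat.card_sigma,
    Nat.card_eq_fintype_card (α := {B'' | B'' ∈ imgs Q e B ∧ x ∈ B'' ∧ (z ∈ B'' → z ∈ B')}), ← Finset.card_univ,
    ← smul_eq_mul]
  refine Finset.sum_le_card_nsmul _ _ _ fun B₁ _ => ?_
  rcases isEmpty_or_nonempty {v : V1 // im v = B₁} with hE | ⟨⟨v₀, hv₀⟩⟩
  · rw [Nat.card_of_isEmpty]; exact Nat.zero_le _
  refine Nat.card_le_card_of_injective (fun v => ⟨D (v.1 - v₀), ?_, ?_⟩) fun v v' h => ?_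
  · have h1 : (el Q z (v.1 : V)).1.1 b ∈ (im v₀).1 := by
      rw [show im v₀ = im v.1 from hv₀.trans v.2.symm]; exact ⟨b, hbB, rfl⟩
    obtain ⟨b', hb', hbb⟩ := h1
    have h2 : (el Q z ((v.1 - v₀ : V1) : V)).1.1 b = b' := by
      rw [Submodule.coe_sub, sub_eq_add_neg, add_comm, ← el_mul (hp v₀).neg (hp v.1), eg_mul_apply,
        ← hbb, ← el_inv, eg_inv_apply]
    show _ - b ∈ B'
    rw [h2]
    exact hsub _ hb' _ hbB
  · show polar Q z (D _) = 0
    rw [hD, polar_sub_right, polar_smul_right, polar_smul_right, (hv _).2.2.1, polar_self', hz,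
      mul_zero, smul_zero, smul_zero, sub_zero]
  · have h1 := hDinj (congrArg Subtype.val h)
    exact Subtype.ext (sub_left_inj.1 h1)

/-- A proper subgroup is smaller by the characteristic. -/
theorem char_mul_card_le {p : ℕ} (hp : p.Prime) [CharP F p] {H B : AddSubgroup V} (hle : H ≤ B)
    {b : V} (hb : b ∈ B) (hbH : b ∉ H) : p * Nat.card H ≤ Nat.card B := by
  classical
  haveI := finite_V F V
  haveI := Fintype.ofFinite F
  obtain ⟨k, -, hk⟩ := FiniteField.card F p
  have hV : Nat.card V = p ^ ((k : ℕ) * finrank F V) := by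
    rw [Module.natCard_eq_pow_finrank (K := F), Nat.card_eq_fintype_card, hk, ← pow_mul]
  obtain ⟨i, -, hi⟩ := (Nat.dvd_prime_pow hp).1 (hV ▸ AddSubgroup.card_addSubgroup_dvd_card B)
  obtain ⟨j, -, hj⟩ := (Nat.dvd_prime_pow hp).1 (hi ▸ AddSubgroup.card_dvd_of_le hle)
  have hlt : Nat.card H < Nat.card B := by
    refine lt_of_le_of_ne (Nat.le_of_dvd Nat.card_pos (AddSubgroup.card_dvd_of_le hle)) fun heq => hbH ?_
    rw [AddSubgroup.eq_of_le_of_card_ge hle heq.ge]; exact hb
  rw [hi, hj] at hlt ⊢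
  rw [← pow_succ']
  exact Nat.pow_le_pow_right hp.pos ((Nat.pow_lt_pow_iff_right hp.one_lt).1 hlt)

theorem li_pair {y u' u : V} (hy0 : y ≠ 0) (huu' : polar Q u u' = 1)
    (huy : polar Q u y = 0) : LinearIndependent F ![y, u'] := by
  refine (LinearIndependent.pair_iff' hy0).2 fun t ht => ?_
  rw [← ht, polar_smul_right, huy, smul_zero] at huu'
  exact zero_ne_one huu'

theorem neg_mul_injective {c : F} (hc : c ≠ 0) : Function.Injective fun s : F => -(s * c) :=
  fun _ _ h => mul_right_cancel₀ hc (neg_injective h)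

/-! ### A root line meeting `K` trivially -/

/-- The scalars of a root group inside `K`. -/
def bS (K : Subgroup (EG Q)) (e u : V) : Set F := {s | el Q e (s • u) ∈ K}

theorem exists_triple_partner (hQ : Nondeg Q) {e u y : V} (hy : Q y = 0)
    (hey : polar Q e y = 0) (huy : polar Q u y = 0) (hli : LinearIndependent F ![e, u, y]) :
    ∃ y', Q y' = 0 ∧ polar Q e y' = 0 ∧ polar Q u y' = 0 ∧ polar Q y y' = 1 := by
  obtain ⟨w, hw⟩ := exists_dual hQ hli ![0, 0, 1]
  have h0 : polar Q e w = 0 := hw 0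
  have h1 : polar Q u w = 0 := hw 1
  have h2 : polar Q y w = 1 := hw 2
  refine ⟨w + (-(Q w)) • y, ?_, ?_, ?_, ?_⟩
  · rw [Q_add, Q_smul, hy, polar_smul_right, polar_comm, h2, smul_eq_mul]; ring
  · rw [polar_add_right, polar_smul_right, h0, hey, smul_zero, add_zero]
  · rw [polar_add_right, polar_smul_right, h1, huy, smul_zero, add_zero]
  · rw [polar_add_right, polar_smul_right, h2, polar_self', hy, mul_zero, smul_zero, add_zero]

theorem bS_step {K : Subgroup (EG Q)} {e u y y' : V} (he : Q e = 0) (hu : Q u = 0)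
    (heu : polar Q e u = 0) (hey : polar Q e y = 0) (huy : polar Q u y = 0) (hey' : polar Q e y' = 0)
    (huy' : polar Q u y' = 0) (hyy' : polar Q y y' = 1) {s c : F} (hs : s ∈ bS K e y)
    (hc : c ∈ bS K u y') : -(s * c) ∈ bS K e u := by
  have h1 := el_comm_mem (K := K) (y := s • y) (z := c • y')
    ⟨he, by rw [polar_smul_right, hey, smul_zero]⟩
    ⟨hu, by rw [polar_smul_right, huy', smul_zero]⟩ heu
    (by rw [polar_smul_left, polar_comm, huy, smul_zero])
    (by rw [polar_smul_right, hey', smul_zero]) hs hc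
  rw [polar_smul_left, polar_smul_right, hyy', smul_eq_mul, smul_eq_mul, mul_one] at h1
  show el Q e (-(s * c) • u) ∈ K
  by_cases h0 : s * c = 0
  · rw [h0, neg_zero, zero_smul, el_zero]; exact K.one_mem
  · rw [← el_smul_left h0, el_swap he (by rw [Q_smul, hu, mul_zero])
      (by rw [polar_smul_right, heu, smul_zero]), ← neg_smul] at h1
    exact h1

/-- Some root group meets a proper subgroup trivially. -/
theorem exists_trivial_line (hQ : Nondeg Q) (h7 : 7 ≤ finrank F V) {K : Subgroup (EG Q)}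
    (hK : K ≠ ⊤) :
    ∃ e u, LPair Q e u ∧ ∀ s : F, el Q e (s • u) ∈ K → s = 0 := by
  classical
  by_contra hcon
  push Not at hcon
  have hne : ∀ {e u : V}, LPair Q e u → ∃ s, s ∈ bS K e u ∧ s ≠ 0 := fun {e u} h => hcon e u h
  have lp : ∀ {a b : V}, Q a = 0 → Q b = 0 → polar Q a b = 0 → LinearIndependent F ![a, b] →
      LPair Q a b := fun ha hb hab hli => ⟨ha, hb, hab, hli⟩
  have hcardle : ∀ {e u y : V}, Q e = 0 → Q u = 0 → Q y = 0 → polar Q e u = 0 → polar Q e y = 0 →
      polar Q u y = 0 → LinearIndependent F ![e, u, y] →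
      ∀ c, (∃ y', Q y' = 0 ∧ polar Q e y' = 0 ∧ polar Q u y' = 0 ∧ polar Q y y' = 1 ∧
        c ∈ bS K u y') → c ≠ 0 →
      (fun s => -(s * c)) '' bS K e y = bS K e u := by
    intro e u y he hu hy heu hey huy hli c hc hc0
    have hinj : ∀ d : F, d ≠ 0 → Function.Injective fun s : F => -(s * d) := fun d hd a b h =>
      mul_right_cancel₀ hd (neg_injective h)
    obtain ⟨y', hy', hey', huy', hyy', hcm⟩ := hc
    refine Set.eq_of_subset_of_ncard_le ?_ ?_ (Set.toFinite _)
    · rintro _ ⟨s, hs, rfl⟩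
      exact bS_step he hu heu hey huy hey' huy' hyy' hs hcm
    rw [Set.ncard_image_of_injective _ (hinj c hc0)]
    obtain ⟨u', hu', heu', hyu', huu'⟩ := exists_triple_partner hQ hu heu
      ((polar_comm Q y u).trans huy) (show LinearIndependent F ![e, y, u] from by
        have := hli.comp ![0, 2, 1] (by decide)
        convert this using 1
        ext i; fin_cases i <;> rfl)
    have hind : LinearIndependent F ![y, u'] := li_pair (hli.ne_zero 2) huu' huy
    obtain ⟨d, hd, hd0⟩ := hne (lp hy hu' hyu' hind)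
    rw [← Set.ncard_image_of_injective (bS K e u) (hinj d hd0)]
    refine Set.ncard_le_ncard ?_ (Set.toFinite _)
    rintro _ ⟨s, hs, rfl⟩
    exact bS_step he hy hey heu ((polar_comm Q y u).trans huy) heu' hyu' huu' hs hd
  refine hK (eq_top_iff.2 fun g _ => ?_)
  suffices h : EG Q ≤ K.map (EG Q).subtype by
    obtain ⟨g', hg', hgg⟩ := h g.2
    rwa [← Subtype.ext hgg]
  refine Forms.SiegelOmega.EG_le_of_singular hQ (by omega) fun e u hu hQu => ?_
  refine ⟨el Q e u, ?_, by rw [el_eq hu]; rfl⟩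
  by_cases hli : LinearIndependent F ![e, u]
  swap
  · by_cases he0 : e = 0
    · have : el Q e u = 1 := EG_ext fun x => by rw [el_apply hu, he0]; simp [eg_one_apply]
      rw [this]; exact K.one_mem
    · obtain ⟨t, rfl⟩ : ∃ t : F, t • e = u := by
        by_contra hne'
        push Not at hne'
        exact hli ((LinearIndependent.pair_iff' he0).2 hne')
      rw [el_self hu.sing]; exact K.one_mem
  -- a singular `y` orthogonal to the line
  set S := Submodule.span F ({e, u} : Set V)
  have hS2 : finrank F S ≤ 2 := by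
    refine (finrank_span_le_card (R := F) ({e, u} : Set V)).trans ?_
    rw [Set.toFinset_insert, Set.toFinset_singleton]
    exact Finset.card_le_two
  obtain ⟨C, hC⟩ := Submodule.exists_isCompl (S.comap (perpS Q S).subtype)
  have hC3 : 3 ≤ finrank F (C.map (perpS Q S).subtype) := by
    have h1 := Submodule.finrank_add_eq_of_isCompl hC
    have h2 : finrank F (S.comap (perpS Q S).subtype) ≤ finrank F S := by
      rw [(Submodule.equivMapOfInjective (perpS Q S).subtype Subtype.val_injective _).finrank_eq]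
      exact Submodule.finrank_mono (Submodule.map_comap_le _ _)
    rw [← (Submodule.equivMapOfInjective _ Subtype.val_injective C).finrank_eq]
    have := finrank_perpS hQ S
    omega
  obtain ⟨_, ⟨w, hwC, rfl⟩, hw0, hQw⟩ := exists_singular_any (Q := Q) _ hC3
  set y : V := (perpS Q S).subtype w
  have hey : polar Q e y = 0 := w.2 e (Submodule.subset_span (by simp))
  have huy : polar Q u y = 0 := w.2 u (Submodule.subset_span (by simp))
  have hyS : y ∉ S := fun h => hw0 (congrArg Subtype.val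
    ((Submodule.disjoint_def.1 hC.disjoint) w h hwC))
  have hli3 : ∀ l : F, LinearIndependent F ![e, u, y + l • u] := fun l => by
    rw [show ![e, u, y + l • u] = Fin.snoc ![e, u] (y + l • u) from by
      ext i; fin_cases i <;> rfl]
    refine linearIndependent_finSnoc.2 ⟨hli, fun h => hyS ?_⟩
    rw [Matrix.range_cons, Matrix.range_cons, Matrix.range_empty, Set.union_empty,
      Set.singleton_union] at h
    have hu' : u ∈ S := Submodule.subset_span (by simp)
    simpa using S.sub_mem h (S.smul_mem l hu')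
  obtain ⟨y', hy', hey', huy', hyy'⟩ := exists_triple_partner hQ hQw hey huy (by
    simpa using hli3 0)
  obtain ⟨c, hc, hc0⟩ := hne (lp hQu hy' huy' (li_pair (by simpa using hli.ne_zero 1) hyy' ((polar_comm Q y u).trans huy)))
  have hB : ∀ l : F, (fun s => -(s * c)) '' bS K e (y + l • u) = bS K e u := fun l => by
    refine hcardle hu.sing hQu ?_ hu.perp ?_ ?_ (hli3 l) c ⟨y', hy', hey', huy', ?_, hc⟩ hc0
    · rw [Q_add, Q_smul, hQw, hQu, polar_smul_right, polar_comm, huy, smul_zero]; ring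
    · rw [polar_add_right, polar_smul_right, hey, hu.perp, smul_zero, add_zero]
    · rw [polar_add_right, polar_smul_right, huy, polar_self', hQu, mul_zero, smul_zero, add_zero]
    · rw [polar_add_left, polar_smul_left, hyy', huy', smul_zero, add_zero]
  have hsame : ∀ l : F, bS K e (y + l • u) = bS K e y := fun l => by
    have h0 := hB 0
    rw [zero_smul, add_zero] at h0
    exact (neg_mul_injective hc0).image_injective ((hB l).trans h0.symm)
  obtain ⟨s, hs, hs0⟩ := hne (lp hu.sing hQw hey (by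
    have := (hli3 0).comp ![0, 2] (by decide)
    convert this using 1
    ext i; fin_cases i <;> simp))
  have h1 : s ∈ bS K e (y + s⁻¹ • u) := by rw [hsame]; exact hs
  have h2 : el Q e (s • (y + s⁻¹ • u)) ∈ K := h1
  rw [smul_add, smul_smul, mul_inv_cancel₀ hs0, one_smul,
    ← el_mul ⟨hu.sing, by rw [polar_smul_right, hey, smul_zero]⟩ hu] at h2
  exact (K.mul_mem_cancel_left hs).1 h2

/-- The two ends of a trivial line share the dimension. -/
theorem small_pair (hQ : Nondeg Q) {K : Subgroup (EG Q)} {e u : V} (hl : LPair Q e u)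
    (htriv : ∀ s : F, el Q e (s • u) ∈ K → s = 0) :
    ∃ a b : ℕ, a + b ≤ finrank F V ∧ Nat.card (pp K hl.qa) ≤ Nat.card F ^ a ∧
      Nat.card (pp K hl.qb) ≤ Nat.card F ^ b := by
  classical
  haveI := finite_V F V
  have htriv' : ∀ s : F, el Q u (s • e) ∈ K → s = 0 := fun s hs => by
    by_cases h0 : s = 0
    · exact h0
    · rw [← el_smul_left h0, el_swap hl.qa (by rw [Q_smul, hl.qb, mul_zero])
        (by rw [polar_smul_right, hl.perp, smul_zero]), ← neg_smul] at hs
      exact neg_eq_zero.1 (htriv _ hs)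
  -- the two spans
  let X := fun (a b : V) (ha : Q a = 0) => {y : V | y ∈ pp K ha ∧ polar Q b y = 0}
  set S₁ := Submodule.span F (insert u (X e u hl.qa))
  set S₂ := Submodule.span F (insert e (X u e hl.qb))
  have hle : S₂ ≤ perpS Q S₁ := Submodule.span_le.2 fun z hz => mem_perpS_span.2 fun y hy => by
    rcases hy with rfl | ⟨⟨hy1, hy2⟩, hy3⟩ <;> rcases hz with rfl | ⟨⟨hz1, hz2⟩, hz3⟩
    · exact (polar_comm Q _ _).trans hl.perp
    · exact hz1
    · exact (polar_comm Q _ _).trans hy1
    · have h := el_comm_mem ⟨hl.qa, hy1⟩ ⟨hl.qb, hz1⟩ hl.perp ((polar_comm Q y u).trans hy3) hz3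
        hy2 hz2
      exact htriv' _ h
  have hdim : finrank F S₁ + finrank F S₂ ≤ finrank F V := by
    have h1 := Submodule.finrank_mono hle
    rw [finrank_perpS hQ] at h1
    have := Submodule.finrank_le S₁
    omega
  have main : ∀ {a b : V} (ha : Q a = 0), a ≠ 0 → polar Q a b = 0 → b ≠ 0 →
      (∀ s : F, el Q a (s • b) ∈ K → s = 0) →
      ∀ {S : Submodule F V}, b ∈ S → X a b ha ⊆ S →
      Nat.card (pp K ha) ≤ Nat.card F ^ finrank F S := by
    intro a b ha ha0 hab hb0 htr S hbS hXS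
    let X' : AddSubgroup V := pp K ha ⊓ (LinearMap.ker (polarBilin Q b)).toAddSubgroup
    have h1 : Nat.card (pp K ha) ≤ Nat.card F * Nat.card X' := by
      let ψ : pp K ha →+ F :=
        ((polarBilin Q b).toAddMonoidHom).comp (pp K ha).subtype
      have hker : Nat.card ψ.ker ≤ Nat.card X' :=
        Nat.card_le_card_of_injective (fun y => ⟨y.1.1, y.1.2, y.2⟩)
          fun y y' h => Subtype.ext (Subtype.ext (congrArg (fun z : X' => z.1) h))
      calc Nat.card (pp K ha) = Nat.card ψ.ker * ψ.ker.index := (AddSubgroup.card_mul_index _).symm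
        _ ≤ Nat.card X' * Nat.card F := Nat.mul_le_mul hker (by
            rw [AddSubgroup.index_ker]
            exact Nat.card_le_card_of_injective _ Subtype.val_injective)
        _ = _ := mul_comm _ _
    refine h1.trans ?_
    rw [← Nat.card_prod, ← Module.natCard_eq_pow_finrank (K := F) (V := S)]
    refine Nat.card_le_card_of_injective (fun p : F × X' =>
      (⟨p.1 • b + p.2.1, S.add_mem (S.smul_mem _ hbS) (hXS ⟨p.2.2.1, p.2.2.2⟩)⟩ : S)) ?_
    rintro ⟨s, y⟩ ⟨s', y'⟩ h
    have h' : s • b + y.1 = s' • b + y'.1 := congrArg Subtype.val h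
    have h2 : (s - s') • b = y'.1 - y.1 := by
      rw [sub_smul, sub_eq_sub_iff_add_eq_add, add_comm y'.1]
      exact h'
    have h3 : (s - s') • b ∈ pp K ha := h2 ▸ sub_mem y'.2.1 y.2.1
    have h4 := htr _ h3.2
    rw [sub_eq_zero] at h4
    subst h4
    simp only [Prod.mk.injEq, true_and]
    exact Subtype.ext (add_left_cancel h')
  exact ⟨finrank F S₁, finrank F S₂, hdim,
    main hl.qa hl.ne hl.perp hl.ne' htriv (S := S₁) (Submodule.subset_span (Set.mem_insert _ _))
      ((Set.subset_insert _ _).trans Submodule.subset_span),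
    main hl.qb hl.ne' ((polar_comm Q _ _).trans hl.perp) hl.ne htriv' (S := S₂)
      (Submodule.subset_span (Set.mem_insert _ _))
      ((Set.subset_insert _ _).trans Submodule.subset_span)⟩

/-- A point with few parameters. -/
theorem exists_small (hQ : Nondeg Q) (h7 : 7 ≤ finrank F V) {K : Subgroup (EG Q)} (hK : K ≠ ⊤) :
    ∃ (e : V) (he : Q e = 0), e ≠ 0 ∧
      Nat.card (pp K he) ≤ Nat.card F ^ (finrank F V / 2) := by
  obtain ⟨e, u, hl, htriv⟩ := exists_trivial_line hQ h7 hK
  obtain ⟨a, b, hab, ha, hb⟩ := small_pair hQ hl htriv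
  rcases le_total a b with h | h
  · exact ⟨e, hl.qa, hl.ne, ha.trans (Nat.pow_le_pow_right Nat.card_pos (by omega))⟩
  · exact ⟨u, hl.qb, hl.ne', hb.trans (Nat.pow_le_pow_right Nat.card_pos (by omega))⟩

end Cfsg.Agent.Lib.MinIndexOmega
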