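import Mathlib
import Cfsg.Agent.Lib.MinIndexOmega.Bound

/-!
Lib/MinIndexOmega/Bot: subgroups with trivial parameters at a point. Either the index at the point
is twice the radical, or the subgroup contains a Levi part and then stabilises a line or a plane.
-/

set_option autoImplicit false
set_option linter.unusedSectionVars false

namespace Cfsg.Agent.Lib.MinIndexOmega

open Module QuadraticMap Cfsg.Agent.Lib.Forms Cfsg.Agent.Lib.OrthOmega Cfsg.Agent.Lib.AutPOmega

variable {F : Type*} [Field F] [Finite F] {V : Type*} [AddCommGroup V] [Module F V]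
variable [FiniteDimensional F V] {Q : QuadraticForm F V}

/-- The number of nonzero singular vectors. -/
noncomputable def singCard (Q : QuadraticForm F V) : ℕ := Nat.card {v : V // v ≠ 0 ∧ Q v = 0}

theorem singCard_eq (Q : QuadraticForm F V) : singCard Q = levelCard Q 0 - 1 := by
  classical
  haveI := finite_V F V
  haveI := Fintype.ofFinite V
  rw [singCard, levelCard, Nat.card_eq_fintype_card, Nat.card_eq_fintype_card, Fintype.card_subtype,
    Fintype.card_subtype, ← Finset.card_erase_of_mem (a := (0 : V)) (by simp)]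
  congr 1
  ext v; simp

/-- The index of a subgroup fixing a line is at least the vectors of its value over the scalars. -/
theorem card_level_le_index_mul (hQ : Nondeg Q) (h4 : 4 ≤ finrank F V) {z : V} (hz : z ≠ 0)
    {K : Subgroup (EG Q)} (hK : ∀ k ∈ K, ∃ t : F, k.1.1 z = t • z) :
    Nat.card {v : V // v ≠ 0 ∧ Q v = Q z} ≤
      K.index * Nat.card {t : F // t ≠ 0 ∧ t * t * Q z = Q z} := by
  classical
  haveI := finite_EG (Q := Q)
  haveI := finite_V F V
  have hg : ∀ v : {v : V // v ≠ 0 ∧ Q v = Q z}, ∃ g : EG Q, g.1.1 z = v.1 := fun v => by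
    obtain ⟨g, hg, hgz⟩ := conn_of_eq hQ h4 hz v.2.1 v.2.2.symm
    exact ⟨⟨g, hg⟩, hgz⟩
  choose g hg using hg
  have ht : ∀ v : {v : V // v ≠ 0 ∧ Q v = Q z}, ∃ t : F, (t ≠ 0 ∧ t * t * Q z = Q z) ∧
      v.1 = t • (Quotient.out (QuotientGroup.mk (g v) : EG Q ⧸ K)).1.1 z := by
    intro v
    obtain ⟨k, hk⟩ := QuotientGroup.mk_out_eq_mul K (g v)
    rw [hk, eg_mul_apply]
    obtain ⟨t, ht⟩ := hK k.1 k.2
    have hQt : t * t * Q z = Q z := by rw [← Q_smul, ← ht, eg_Q]
    have ht0 : t ≠ 0 := fun h => hz (k.1.1.1.injective (by rw [ht, h, zero_smul, map_zero]))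
    refine ⟨t⁻¹, ⟨inv_ne_zero ht0, ?_⟩, ?_⟩
    · conv_lhs => rw [← hQt]
      field_simp
    · rw [ht, map_smul, smul_smul, inv_mul_cancel₀ ht0, one_smul, hg]
  choose t ht hvt using ht
  rw [Subgroup.index, ← Nat.card_prod]
  refine Nat.card_le_card_of_injective
    (fun v => ((QuotientGroup.mk (g v) : EG Q ⧸ K), (⟨t v, ht v⟩ : {t : F // t ≠ 0 ∧ t * t * Q z = Q z})))
    fun v v' h => ?_
  simp only [Prod.mk.injEq, Subtype.mk.injEq] at h
  exact Subtype.ext (by rw [hvt v, hvt v', h.1, h.2])

theorem card_units (F : Type*) [Field F] [Finite F] :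
    Nat.card {t : F // t ≠ 0} = Nat.card F - 1 := by
  classical
  haveI := Fintype.ofFinite F
  rw [Nat.card_eq_fintype_card, Nat.card_eq_fintype_card, Fintype.card_subtype_compl,
    Fintype.card_subtype_eq]

/-- A subgroup fixing a singular line. -/
theorem singCard_le_index_mul (hQ : Nondeg Q) (h4 : 4 ≤ finrank F V) {z : V} (hz : z ≠ 0)
    (hz0 : Q z = 0) {K : Subgroup (EG Q)} (hK : ∀ k ∈ K, ∃ t : F, k.1.1 z = t • z) :
    singCard Q ≤ K.index * (Nat.card F - 1) := by
  have h := card_level_le_index_mul hQ h4 hz hK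
  rw [hz0] at h
  rw [← card_units F]
  refine h.trans (le_of_eq ?_)
  congr 1
  exact Nat.card_congr (Equiv.subtypeEquivRight fun t => by simp)

open Classical in
/-- A subgroup fixing a non-singular line. -/
theorem levelCard_le_index_mul (hQ : Nondeg Q) (h4 : 4 ≤ finrank F V) {z : V}
    (hz0 : Q z ≠ 0) {K : Subgroup (EG Q)} (hK : ∀ k ∈ K, ∃ t : F, k.1.1 z = t • z) :
    levelCard Q (Q z) ≤ K.index * (if (2 : F) = 0 then 1 else 2) := by
  classical
  have hz : z ≠ 0 := fun h => hz0 (by rw [h, QuadraticMap.map_zero])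
  have h := card_level_le_index_mul hQ h4 hz hK
  have e1 : levelCard Q (Q z) = Nat.card {v : V // v ≠ 0 ∧ Q v = Q z} :=
    Nat.card_congr (Equiv.subtypeEquivRight fun v =>
      ⟨fun hv => ⟨fun h0 => hz0 (by rw [← hv, h0, QuadraticMap.map_zero]), hv⟩, fun hv => hv.2⟩)
  rw [e1]
  refine h.trans (Nat.mul_le_mul_left _ ?_)
  haveI := Fintype.ofFinite F
  rw [Nat.card_eq_fintype_card, Fintype.card_subtype]
  have hsub : (Finset.univ.filter fun t : F => t ≠ 0 ∧ t * t * Q z = Q z) ⊆ {1, -1} := by
    intro t ht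
    rw [Finset.mem_filter] at ht
    have h1 : t * t = 1 := mul_right_cancel₀ hz0 (by rw [ht.2.2, one_mul])
    simpa using mul_self_eq_one_iff.1 h1
  refine (Finset.card_le_card hsub).trans ?_
  split_ifs with h2
  · rw [show (-1 : F) = 1 by linear_combination -h2]; simp
  · exact Finset.card_le_two

/-- The point stabiliser has index the number of singular points. -/
theorem pStab_index (hQ : Nondeg Q) (h4 : 4 ≤ finrank F V) {e : V} (he0 : e ≠ 0) (he : Q e = 0) :
    (pStab Q e).index * (Nat.card F - 1) = singCard Q := by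
  haveI := finite_EG (Q := Q)
  haveI := finite_V F V
  refine le_antisymm ?_ (singCard_le_index_mul hQ h4 he0 he fun k hk =>
    let ⟨t, _, ht⟩ := hk; ⟨t, ht⟩)
  rw [← card_units F, Subgroup.index, ← Nat.card_prod]
  refine Nat.card_le_card_of_injective (fun p : (EG Q ⧸ pStab Q e) × {t : F // t ≠ 0} =>
    (⟨p.2.1 • (Quotient.out p.1).1.1 e, smul_ne_zero p.2.2 fun h => he0 ((Quotient.out p.1).1.1.injective
      (h.trans (map_zero _).symm)), by rw [Q_smul, eg_Q, he, mul_zero]⟩ :
        {v : V // v ≠ 0 ∧ Q v = 0})) ?_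
  rintro ⟨c, t⟩ ⟨c', t'⟩ h
  have h1 : t.1 • (Quotient.out c).1.1 e = t'.1 • (Quotient.out c').1.1 e := congrArg Subtype.val h
  have hc : c = c' := by
    rw [← Quotient.out_eq c, ← Quotient.out_eq c']
    refine QuotientGroup.eq.2 ⟨t.1 / t'.1, div_ne_zero t.2 t'.2, ?_⟩
    have h2 := congrArg (fun v => t'.1⁻¹ • ((Quotient.out c)⁻¹).1.1 v) h1
    simp only [map_smul, eg_inv_apply, smul_smul, inv_mul_cancel₀ t'.2, one_smul] at h2
    rw [eg_mul_apply, ← h2, div_eq_inv_mul]
  subst hc
  have h2 := smul_left_injective F (fun h => he0 ((Quotient.out c).1.1.injective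
    (h.trans (map_zero _).symm))) h1
  rw [Subtype.ext h2]

theorem index_mul_relIndex (K P : Subgroup (EG Q)) :
    K.relIndex P * P.index = P.relIndex K * K.index := by
  rw [← Subgroup.inf_relIndex_right K P, Subgroup.relIndex_mul_index (inf_le_right : K ⊓ P ≤ P),
    ← Subgroup.inf_relIndex_left K P, Subgroup.relIndex_mul_index (inf_le_left : K ⊓ P ≤ K)]

theorem pow_le_relIndex (hQ : Nondeg Q) {e : V} (he0 : e ≠ 0) (he : Q e = 0)
    (K : Subgroup (EG Q)) (hpp : ∀ w ∈ pp K he, ∃ t : F, w = t • e) :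
    Nat.card F ^ (finrank F V - 2) ≤ K.relIndex (pStab Q e) := by
  haveI := finite_V F V
  have h1 := card_imgs_mul_le hQ he0 he K
  have h2 : Nat.card (pp K he) ≤ Nat.card F := by
    choose t ht using fun w : pp K he => hpp w.1 w.2
    exact Nat.card_le_card_of_injective t fun w w' h => Subtype.ext (by rw [ht w, ht w', h])
  have h3 : 0 < (imgs Q e (pp K he : Set V)).ncard := (Set.ncard_pos (Set.toFinite _)).2
    ⟨_, 1, 1, one_ne_zero, by rw [one_smul]; rfl, rfl⟩
  have hn : 0 < finrank F V := Module.finrank_pos_iff_exists_ne_zero.2 ⟨e, he0⟩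
  by_cases hn2 : 2 ≤ finrank F V
  · refine Nat.le_of_mul_le_mul_right (le_trans ?_ (Nat.mul_le_mul_left _ h2)) Nat.card_pos
    rw [← pow_succ, show finrank F V - 2 + 1 = finrank F V - 1 by omega]
    exact (Nat.le_mul_of_pos_left _ h3).trans h1
  · rw [show finrank F V - 2 = 0 by omega, pow_zero]
    haveI := finite_EG (Q := Q)
    haveI : ∀ H L : Subgroup (EG Q), H.IsFiniteRelIndex L :=
      fun H L => Subgroup.isFiniteRelIndex_of_finiteIndex
    exact Nat.one_le_iff_ne_zero.2 Subgroup.relIndex_ne_zero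

section Lifts

variable {e f : V} (hp : HypPair Q e f) {K : Subgroup (EG Q)}
  (hpp : ∀ w ∈ pp K hp.left, ∃ t : F, w = t • e)

include hpp in
theorem eq_zero_of_mem {w : V} (hw : w ∈ core Q e f) (hK : el Q e w ∈ K) : w = 0 := by
  obtain ⟨t, rfl⟩ := hpp w ⟨(mem_core.1 hw).1, hK⟩
  have h := (mem_core.1 hw).2
  rw [polar_smul_right, hp.pol', smul_eq_mul, mul_one] at h
  rw [h, zero_smul]

include hp in
/-- An element scaling `e` moves a parameter. -/
theorem el_mul_comm_of_scale {g : EG Q} {t : F} (ht : t ≠ 0) (hg : g.1.1 e = t • e) (w : V) :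
    el Q e w * g = g * el Q e (t⁻¹ • g⁻¹.1.1 w) := by
  have h1 : g⁻¹.1.1 e = t⁻¹ • e := by
    have h := congrArg (fun x => t⁻¹ • g⁻¹.1.1 x) hg
    simp only [eg_inv_apply, map_smul, smul_smul, inv_mul_cancel₀ ht, one_smul] at h
    exact h.symm
  rw [← el_smul_left (inv_ne_zero ht), ← h1, ← el_conj_inv g e w, ← mul_assoc, ← mul_assoc,
    mul_inv_cancel, one_mul]

include hpp in
/-- Below twice the radical, every element of the stabiliser has a lift. -/
theorem exists_lift_of_lt (hlt : K.relIndex (pStab Q e) < 2 * Nat.card F ^ (finrank F V - 2))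
    {g : EG Q} (hg : g ∈ pStab Q e) :
    ∃ w, polar Q e w = 0 ∧ g * el Q e w ∈ K := by
  classical
  haveI := finite_EG (Q := Q)
  haveI := finite_V F V
  by_contra hcon
  push Not at hcon
  obtain ⟨t, ht, hge⟩ := hg
  have hmem : ∀ (i : Bool) (w : core Q e f),
      (if i then g else 1) * el Q e (w : V) ∈ pStab Q e := fun i w => by
    refine mul_mem ?_ ⟨1, one_ne_zero, by
      rw [one_smul]; exact el_fix_base ⟨hp.left, (mem_core.1 w.2).1⟩⟩
    split_ifs
    · exact ⟨t, ht, hge⟩
    · exact one_mem _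
  have hE : ∀ w w' : core Q e f, (el Q e (w : V))⁻¹ * el Q e (w' : V) = el Q e ((w' - w : core Q e f) : V) :=
    fun w w' => by
      rw [el_inv, el_mul (SPair.neg ⟨hp.left, (mem_core.1 w.2).1⟩) ⟨hp.left, (mem_core.1 w'.2).1⟩,
        Submodule.coe_sub, sub_eq_add_neg, add_comm]
  refine not_le.2 hlt ?_
  rw [show finrank F V - 2 = finrank F (core Q e f) by have := hp.finrank_core; omega,
    ← Module.natCard_eq_pow_finrank (K := F), ← Fintype.card_bool, ← Nat.card_eq_fintype_card,
    ← Nat.card_prod, Subgroup.relIndex, Subgroup.index]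
  refine Nat.card_le_card_of_injective (fun p : Bool × core Q e f =>
    QuotientGroup.mk (⟨_, hmem p.1 p.2⟩ : pStab Q e)) ?_
  rintro ⟨i, w⟩ ⟨j, w'⟩ h
  have h1 := Subgroup.mem_subgroupOf.1 (QuotientGroup.eq.1 h)
  simp only [Subgroup.coe_mul, Subgroup.coe_inv] at h1
  have hsame : ∀ x : EG Q, (x * el Q e (w : V))⁻¹ * (x * el Q e (w' : V)) ∈ K → w = w' := by
    intro x hx
    rw [mul_inv_rev, mul_assoc, inv_mul_cancel_left, hE] at hx
    have := eq_zero_of_mem hp hpp (Subtype.coe_prop _) hx
    exact (sub_eq_zero.1 (Subtype.ext this)).symm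
  have hdiff : ∀ a b : core Q e f, (1 * el Q e (a : V))⁻¹ * (g * el Q e (b : V)) ∈ K → False := by
    intro a b hx
    rw [one_mul, el_inv, ← mul_assoc, el_mul_comm_of_scale hp ht hge, mul_assoc] at hx
    have hS : SPair Q e (t⁻¹ • g⁻¹.1.1 (-(a : V))) := by
      refine ⟨hp.left, ?_⟩
      have h2 := eg_polar g e (g⁻¹.1.1 (-(a : V)))
      rw [eg_apply_inv, hge, polar_smul_left, polar_neg_right, (mem_core.1 a.2).1, neg_zero,
        smul_zero] at h2
      rw [polar_smul_right, ← h2, smul_zero]
    rw [el_mul hS ⟨hp.left, (mem_core.1 b.2).1⟩] at hx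
    exact hcon _ (hS.add ⟨hp.left, (mem_core.1 b.2).1⟩).perp hx
  rcases i with _ | _ <;> rcases j with _ | _ <;> simp only [if_true, Bool.false_eq_true, if_false] at h1
  · rw [hsame 1 h1]
  · exact (hdiff _ _ h1).elim
  · refine (hdiff w' w ?_).elim
    have := K.inv_mem h1
    rwa [mul_inv_rev, inv_inv] at this
  · rw [hsame g h1]

include hpp in
/-- With a torus, the lifts form a conjugate Levi part. -/
theorem exists_levi (hQ : Nondeg Q) (h5 : 5 ≤ finrank F V) {s : F} (hs : s ≠ 0) (hs2 : s * s ≠ 1)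
    (hlt : K.relIndex (pStab Q e) < 2 * Nat.card F ^ (finrank F V - 2)) :
    ∃ f', HypPair Q e f' ∧ ∀ g : EG Q, g.1.1 e = e → g.1.1 f' = f' → g ∈ K := by
  obtain ⟨τ, hτe, hτf, hτW⟩ := exists_torus hQ h5 hp hs
  have hss : s * s ≠ 0 := mul_ne_zero hs hs
  have norm : ∀ g ∈ pStab Q e, ∃ w ∈ core Q e f, g * el Q e w ∈ K := fun g hg => by
    obtain ⟨w, hw, hgw⟩ := exists_lift_of_lt hp hpp hlt hg
    refine ⟨w + (-polar Q f w) • e, ?_, by rw [el_shift ⟨hp.left, hw⟩]; exact hgw⟩
    rw [mem_core, polar_add_right, polar_add_right, polar_smul_right, polar_smul_right, hp.pol_ee,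
      hp.pol', hw]
    simp
  obtain ⟨d, hd, hτd⟩ := norm τ ⟨s * s, hss, hτe⟩
  set d₀ := (1 - (s * s)⁻¹)⁻¹ • d with hd₀
  have hr : 1 - (s * s)⁻¹ ≠ 0 := fun h => hs2 (inv_eq_one.1 (sub_eq_zero.1 h).symm)
  have hd0c : d₀ ∈ core Q e f := Submodule.smul_mem _ _ hd
  have hS0 : SPair Q e d₀ := ⟨hp.left, (mem_core.1 hd0c).1⟩
  refine ⟨(el Q e (-d₀)).1.1 f, ⟨hp.left, by rw [eg_Q]; exact hp.right, by
    conv_lhs => arg 2; rw [← el_fix_base hS0.neg]
    rw [eg_polar]; exact hp.pol⟩, fun g' hg'e hg'f => ?_⟩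
  set g := el Q e d₀ * g' * el Q e (-d₀) with hgdef
  have hge : g.1.1 e = e := by
    rw [eg_mul_apply, eg_mul_apply, el_fix_base hS0.neg, hg'e, el_fix_base hS0]
  have hgf : g.1.1 f = f := by
    rw [eg_mul_apply, eg_mul_apply, hg'f, ← el_inv, eg_apply_inv]
  have hgW : ∀ w ∈ core Q e f, g.1.1 w ∈ core Q e f := fun w hw => by
    rw [mem_core]
    constructor
    · conv_lhs => arg 2; rw [← hge]
      rw [eg_polar]; exact (mem_core.1 hw).1
    · conv_lhs => arg 2; rw [← hgf]
      rw [eg_polar]; exact (mem_core.1 hw).2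
  have hgi : ∀ w ∈ core Q e f, g⁻¹.1.1 w ∈ core Q e f := fun w hw => by
    have hfix : ∀ v, g.1.1 v = v → g⁻¹.1.1 v = v := fun v hv => by
      conv_lhs => rw [← hv, eg_inv_apply]
    rw [mem_core]
    constructor
    · conv_lhs => arg 2; rw [← hfix e hge]
      rw [eg_polar]; exact (mem_core.1 hw).1
    · conv_lhs => arg 2; rw [← hfix f hgf]
      rw [eg_polar]; exact (mem_core.1 hw).2
  obtain ⟨c, hc, hgc⟩ := norm g ⟨1, one_ne_zero, by rw [one_smul]; exact hge⟩
  have hcomm : τ * g = g * τ := EG_ext fun x => by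
    obtain ⟨w, hw, a, b, rfl⟩ : ∃ w ∈ core Q e f, ∃ a b : F, x = a • e + b • f + w :=
      ⟨_, hp.proj_mem x, polar Q f x, polar Q e x, by abel⟩
    show τ.1.1 (g.1.1 _) = g.1.1 (τ.1.1 _)
    simp only [map_add, map_smul, hge, hgf, hτe, hτf, hτW w hw, hτW _ (hgW w hw)]
  have hτc : τ⁻¹.1.1 c = c := by conv_lhs => rw [← hτW c hc, eg_inv_apply]
  have hgd : g⁻¹.1.1 d ∈ core Q e f := hgi d hd
  have hSd : SPair Q e d := ⟨hp.left, (mem_core.1 hd).1⟩
  have hSc : SPair Q e c := ⟨hp.left, (mem_core.1 hc).1⟩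
  have h1 : el Q e d * g = g * el Q e (g⁻¹.1.1 d) := by
    have := el_mul_comm_of_scale hp one_ne_zero (g := g) (by rw [one_smul]; exact hge) d
    rwa [inv_one, one_smul] at this
  have h2 : el Q e c * τ = τ * el Q e ((s * s)⁻¹ • c) := by
    have := el_mul_comm_of_scale hp hss hτe c
    rwa [hτc] at this
  have hA : τ * g * el Q e (g⁻¹.1.1 d + c) ∈ K := by
    have := K.mul_mem hτd hgc
    rw [mul_assoc, ← mul_assoc (el Q e d), h1] at this
    rw [← el_mul ⟨hp.left, (mem_core.1 hgd).1⟩ hSc]
    simpa [mul_assoc] using this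
  have hB : τ * g * el Q e ((s * s)⁻¹ • c + d) ∈ K := by
    have := K.mul_mem hgc hτd
    rw [mul_assoc, ← mul_assoc (el Q e c), h2] at this
    rw [← el_mul (hSc.smul _) hSd, hcomm]
    simpa [mul_assoc] using this
  have hAB := K.mul_mem (K.inv_mem hB) hA
  rw [mul_inv_rev, mul_assoc, inv_mul_cancel_left, el_inv,
    el_mul ((hSc.smul _).add hSd).neg (SPair.add ⟨hp.left, (mem_core.1 hgd).1⟩ hSc)] at hAB
  have h3 := eq_zero_of_mem hp hpp (Submodule.add_mem _ (Submodule.neg_mem _
    (Submodule.add_mem _ (Submodule.smul_mem _ _ hc) hd)) (Submodule.add_mem _ hgd hc)) hAB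
  have hcval : c = d₀ - g⁻¹.1.1 d₀ := by
    have h4 : (1 - (s * s)⁻¹) • c = d - g⁻¹.1.1 d := by
      rw [sub_smul, one_smul, ← sub_eq_zero, ← h3]; abel
    rw [hd₀, map_smul, ← smul_sub, ← h4, smul_smul, inv_mul_cancel₀ hr, one_smul]
  have hfin : g' = g * el Q e c := by
    have h5 := el_mul_comm_of_scale hp one_ne_zero (g := g) (by rw [one_smul]; exact hge) (-d₀)
    rw [inv_one, one_smul] at h5
    rw [hcval, sub_eq_add_neg, add_comm, ← map_neg, ← el_mul ⟨hp.left, (mem_core.1
      (hgi _ (Submodule.neg_mem _ hd0c))).1⟩ hS0, ← mul_assoc, ← h5, hgdef, ← el_inv]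
    group
  exact hfin ▸ hgc

end Lifts

/-- A singular vector of the complement orthogonal to and off a given one. -/
theorem exists_perp_indep (hQ : Nondeg Q) {e f : V} (hp : HypPair Q e f) (h7 : 7 ≤ finrank F V)
    {z : V} (hzW : z ∈ core Q e f) (hz0 : z ≠ 0) :
    ∃ v ∈ core Q e f, polar Q z v = 0 ∧ Q v = 0 ∧ LinearIndependent F ![z, v] := by
  classical
  set S := Submodule.span F ({e, f, z} : Set V)
  obtain ⟨C, hC⟩ := Submodule.exists_isCompl
    ((Submodule.span F ({z} : Set V)).comap (perpS Q S).subtype)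
  obtain ⟨v, hv, hv0, hQv⟩ := exists_singular_any (Q := Q) (C.map (perpS Q S).subtype) (by
    rw [← (Submodule.equivMapOfInjective (perpS Q S).subtype Subtype.val_injective C).finrank_eq]
    have h1 := Submodule.finrank_add_eq_of_isCompl hC
    have h2 : finrank F ((Submodule.span F ({z} : Set V)).comap (perpS Q S).subtype) ≤ 1 := by
      rw [(Submodule.equivMapOfInjective (perpS Q S).subtype Subtype.val_injective _).finrank_eq]
      exact (Submodule.finrank_mono (Submodule.map_comap_le _ _)).trans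
        (le_of_eq (finrank_span_singleton hz0))
    have h4 : finrank F S ≤ 3 := by
      refine (finrank_span_le_card (R := F) ({e, f, z} : Set V)).trans ?_
      simp only [Set.toFinset_insert, Set.toFinset_singleton]
      exact Finset.card_le_three
    have := finrank_perpS hQ S
    omega)
  obtain ⟨u, hu, rfl⟩ := hv
  refine ⟨u, mem_core.2 ⟨u.2 e (Submodule.subset_span (by simp)),
    u.2 f (Submodule.subset_span (by simp))⟩, u.2 z (Submodule.subset_span (by simp)), hQv, ?_⟩
  refine (LinearIndependent.pair_iff' hz0).2 fun t ht => hv0 (congrArg Subtype.val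
    ((Submodule.disjoint_def.1 hC.disjoint) u ?_ hu))
  exact Submodule.mem_span_singleton.2 ⟨t, ht⟩

/-- With a Levi part inside, `K` stabilises a line or has two images of `e`. -/
theorem stab_of_levi (hQ : Nondeg Q) (h7 : 7 ≤ finrank F V) {e f : V} (hp : HypPair Q e f)
    {K : Subgroup (EG Q)} (hpp : ∀ w ∈ pp K hp.left, ∃ t : F, w = t • e)
    (hW : ∀ x y : V, x ∈ core Q e f → y ∈ core Q e f → Q x = 0 → Q y = 0 → polar Q x y = 0 →
      el Q x y ∈ K) :
    (∃ z, z ≠ 0 ∧ ∀ k ∈ K, ∃ t : F, k.1.1 z = t • z) ∨ (pStab Q e).relIndex K ≤ 2 := by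
  classical
  haveI := finite_EG (Q := Q)
  haveI := finite_V F V
  set W := core Q e f
  have hfr := hp.finrank_core
  have hcore := hp.nondeg_core hQ
  have hliftK : ∀ g ∈ EG (res Q W), ∃ G ∈ K, G.1.1 e = e ∧ G.1.1 f = f ∧
      ∀ w : W, G.1.1 w = (g.1 w : V) := by
    intro g hg
    let H : Subgroup (orth (res Q W)) :=
      { carrier := {h | ∃ G ∈ K, G.1.1 e = e ∧ G.1.1 f = f ∧ ∀ w : W, G.1.1 w = (h.1 w : V)}
        one_mem' := ⟨1, K.one_mem, rfl, rfl, fun _ => rfl⟩
        mul_mem' := by
          rintro a b ⟨A, hA0, hA1, hA2, hA⟩ ⟨B, hB0, hB1, hB2, hB⟩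
          refine ⟨A * B, K.mul_mem hA0 hB0, by rw [eg_mul_apply, hB1, hA1],
            by rw [eg_mul_apply, hB2, hA2], fun w => ?_⟩
          rw [eg_mul_apply, hB, hA]; rfl
        inv_mem' := by
          rintro a ⟨A, hA0, hA1, hA2, hA⟩
          refine ⟨A⁻¹, K.inv_mem hA0, ?_, ?_, fun w => ?_⟩
          · conv_lhs => rw [← hA1, eg_inv_apply]
          · conv_lhs => rw [← hA2, eg_inv_apply]
          · have := hA (a⁻¹.1 w)
            rw [orth_apply_inv_apply] at this
            rw [← this, eg_inv_apply] }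
    refine (Forms.SiegelOmega.EG_le_of_singular (H := H) hcore (by omega) fun x u hu hQu => ?_) hg
    have h' : SPair Q (x : V) (u : V) := ⟨hu.sing, hu.perp⟩
    refine ⟨el Q (x : V) (u : V), hW _ _ x.2 u.2 hu.sing hQu hu.perp, ?_, ?_, fun w => ?_⟩
    · exact el_fix h' ((polar_comm Q _ _).trans (mem_core.1 x.2).1)
        ((polar_comm Q _ _).trans (mem_core.1 u.2).1)
    · exact el_fix h' ((polar_comm Q _ _).trans (mem_core.1 x.2).2)
        ((polar_comm Q _ _).trans (mem_core.1 u.2).2)
    · rw [el_apply h', rho_apply]; rfl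
  have hWgen : ∀ x y : V, x ∈ W → y ∈ W → Q x = 0 → polar Q x y = 0 → el Q x y ∈ K := by
    intro x y hx hy hQx hxy
    have hu : SPair (res Q W) ⟨x, hx⟩ ⟨y, hy⟩ := ⟨hQx, hxy⟩
    obtain ⟨G, hG, hGe, hGf, hGw⟩ := hliftK _ (rho_mem hu)
    have h' : SPair Q x y := ⟨hQx, hxy⟩
    have : G = el Q x y := EG_ext fun v => by
      obtain ⟨w, hw, a, b, rfl⟩ : ∃ w ∈ W, ∃ a b : F, v = a • e + b • f + w :=
        ⟨_, hp.proj_mem v, polar Q f v, polar Q e v, by abel⟩
      have he' := el_fix h' ((polar_comm Q _ _).trans (mem_core.1 hx).1)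
        ((polar_comm Q _ _).trans (mem_core.1 hy).1)
      have hf' := el_fix h' ((polar_comm Q _ _).trans (mem_core.1 hx).2)
        ((polar_comm Q _ _).trans (mem_core.1 hy).2)
      simp only [map_add, map_smul, hGe, hGf, he', hf']
      rw [hGw ⟨w, hw⟩, el_apply h', rho_apply]; rfl
    rwa [← this]
  have htransK : ∀ x y : V, x ∈ W → y ∈ W → x ≠ 0 → y ≠ 0 → Q x = Q y →
      ∃ G ∈ K, G.1.1 e = e ∧ G.1.1 f = f ∧ G.1.1 x = y := by
    intro x y hx hy hx0 hy0 hxy
    obtain ⟨g, hg, hgx⟩ := conn_of_eq hcore (by omega) (x := (⟨x, hx⟩ : W)) (y := ⟨y, hy⟩)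
      (fun h => hx0 (congrArg Subtype.val h)) (fun h => hy0 (congrArg Subtype.val h)) hxy
    obtain ⟨G, hG, h1, h2, h3⟩ := hliftK g hg
    exact ⟨G, hG, h1, h2, by rw [h3 ⟨x, hx⟩, hgx]⟩
  have hnotF : ∀ {x : V}, x ≠ 0 → x ∈ W → ∀ t : F, x ≠ t • e := fun {x} hx0 hx t ht => hx0 (by
    have h := (mem_core.1 hx).2
    rw [ht, polar_smul_right, hp.pol', smul_eq_mul, mul_one] at h
    rw [ht, h, zero_smul])
  -- the plane directions
  let D : Submodule F V :=
    { carrier := {y | y ∈ Submodule.span F ({e, f} : Set V) ∧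
        ∀ w ∈ W, w ≠ 0 → Q w = 0 → el Q w y ∈ K}
      add_mem' := by
        rintro a b ⟨ha, ha'⟩ ⟨hb, hb'⟩
        refine ⟨add_mem ha hb, fun w hw hw0 hQw => ?_⟩
        have hperp : ∀ c ∈ Submodule.span F ({e, f} : Set V), polar Q w c = 0 := fun c hc => by
          obtain ⟨s, t, rfl⟩ := Submodule.mem_span_pair.1 hc
          rw [polar_add_right, polar_smul_right, polar_smul_right, polar_comm Q w e,
            (mem_core.1 hw).1, polar_comm Q w f, (mem_core.1 hw).2]
          simp
        rw [← el_mul ⟨hQw, hperp a ha⟩ ⟨hQw, hperp b hb⟩]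
        exact K.mul_mem (ha' w hw hw0 hQw) (hb' w hw hw0 hQw)
      zero_mem' := ⟨zero_mem _, fun w _ _ _ => by rw [el_zero]; exact K.one_mem⟩
      smul_mem' := by
        rintro c a ⟨ha, ha'⟩
        refine ⟨Submodule.smul_mem _ _ ha, fun w hw hw0 hQw => ?_⟩
        by_cases hc : c = 0
        · rw [hc, zero_smul, el_zero]; exact K.one_mem
        · rw [← el_smul_left hc]
          exact ha' _ (W.smul_mem c hw) (smul_ne_zero hc hw0) (by rw [Q_smul, hQw, mul_zero]) }
  have hDe : e ∉ D := by
    intro he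
    obtain ⟨w, hw0, hQw⟩ := OrthOmega.exists_singular hcore (by omega)
    have hw : Q (w : V) = 0 := hQw
    have h := he.2 w w.2 (fun h => hw0 (Subtype.ext h)) hw
    rw [el_swap hp.left hw (mem_core.1 w.2).1] at h
    obtain ⟨t, ht⟩ := hpp _ ⟨by rw [polar_neg_right, (mem_core.1 w.2).1, neg_zero], h⟩
    exact hnotF (neg_ne_zero.2 fun h => hw0 (Subtype.ext h)) (W.neg_mem w.2) t ht
  -- root lines
  have hA : ∀ {a b : V}, Q a = 0 → Q b = 0 → polar Q a b = 0 → LinearIndependent F ![a, b] →
      el Q a b ∈ K → polar Q e a = 0 → polar Q e b = 0 → a ∈ W ∧ b ∈ W := by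
    intro a b ha hb hab hli hK hea heb
    have hwa := hp.proj_mem a
    have hwb := hp.proj_mem b
    rw [hea, zero_smul, sub_zero] at hwa
    rw [heb, zero_smul, sub_zero] at hwb
    set α := polar Q f a
    set β := polar Q f b
    set w := a - α • e with hw
    set w' := b - β • e with hw'
    have haw : a = w + α • e := (sub_add_cancel _ _).symm
    have hbw : b = w' + β • e := (sub_add_cancel _ _).symm
    obtain ⟨hw1, hw2⟩ := mem_core.1 hwa
    obtain ⟨hw1', hw2'⟩ := mem_core.1 hwb
    have hQw : Q w = 0 := by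
      rw [hw, sub_eq_add_neg, ← neg_smul, Q_add, Q_smul, hp.left, ha, polar_smul_right,
        (polar_comm Q a e).trans hea]
      simp
    have hQw' : Q w' = 0 := by
      rw [hw', sub_eq_add_neg, ← neg_smul, Q_add, Q_smul, hp.left, hb, polar_smul_right,
        (polar_comm Q b e).trans heb]
      simp
    have hww : polar Q w w' = 0 := by
      simp only [hw, hw', polar_sub_left, polar_sub_right, polar_smul_left, polar_smul_right, hab,
        heb, hp.pol_ee, (polar_comm Q a e).trans hea]
      simp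
    have hS : SPair Q e (α • w' - β • w) :=
      ⟨hp.left, by rw [polar_sub_right, polar_smul_right, polar_smul_right, hw1, hw1']; simp⟩
    have hsplit : el Q a b = el Q w w' * el Q e (α • w' - β • w) := by
      refine EG_ext fun x => ?_
      rw [eg_mul_apply, el_apply ⟨ha, hab⟩, el_apply hS, el_apply ⟨hQw, hww⟩]
      have hQd : Q (α • w' - β • w) = 0 := by
        rw [sub_eq_add_neg, ← neg_smul, Q_comb, hQw, hQw', polar_comm, hww]; ring
      rw [haw, hbw, Q_add, Q_smul, hp.left, hQw', hQd, polar_smul_right]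
      simp only [show polar Q w w = 0 by rw [polar_self', hQw, mul_zero],
        show polar Q w' w' = 0 by rw [polar_self', hQw', mul_zero], polar_add_left, polar_add_right, polar_sub_left, polar_sub_right, polar_smul_left,
        polar_smul_right, hp.pol_ee, (polar_comm Q w' e).trans hw1', (polar_comm Q w e).trans hw1,
        hQw, hQw', hww, (polar_comm Q w' w).trans hww, smul_eq_mul, mul_zero, add_zero, sub_zero,
        zero_mul]
      module
    have hK2 : el Q e (α • w' - β • w) ∈ K := by
      have h1 := hWgen w w' hwa hwb hQw hww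
      rw [hsplit] at hK
      exact (K.mul_mem_cancel_left h1).1 hK
    have h0 := eq_zero_of_mem hp hpp (W.sub_mem (W.smul_mem _ hwb) (W.smul_mem _ hwa)) hK2
    have hαβ : α = 0 ∧ β = 0 := by
      have h1 : α • b + (-β) • a = 0 := by
        rw [haw, hbw, smul_add, smul_add, smul_smul, smul_smul, ← h0]; module
      exact ⟨((LinearIndependent.pair_iff.1 hli) (-β) α (by rw [add_comm]; exact h1)).2,
        neg_eq_zero.1 ((LinearIndependent.pair_iff.1 hli) (-β) α (by rw [add_comm]; exact h1)).1⟩
    rw [haw, hbw, hαβ.1, hαβ.2, zero_smul, add_zero, add_zero]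
    exact ⟨hwa, hwb⟩
  have hB : ∀ {a b : V}, Q a = 0 → Q b = 0 → polar Q a b = 0 → LinearIndependent F ![a, b] →
      el Q a b ∈ K → polar Q e a = 0 → a ∈ W ⊔ D ∧ b ∈ W ⊔ D := by
    intro a b ha hb hab hli hK hea
    by_cases heb : polar Q e b = 0
    · obtain ⟨h1, h2⟩ := hA ha hb hab hli hK hea heb
      exact ⟨Submodule.mem_sup_left h1, Submodule.mem_sup_left h2⟩
    have ha0 : a ≠ 0 := by simpa using hli.ne_zero 0
    have hwa := hp.proj_mem a
    rw [hea, zero_smul, sub_zero] at hwa
    set α := polar Q f a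
    set w := a - α • e with hw
    have haw : a = w + α • e := (sub_add_cancel _ _).symm
    obtain ⟨hw1, hw2⟩ := mem_core.1 hwa
    have hwb := hp.proj_mem b
    set γ := polar Q f b
    set c := polar Q e b
    set w' := b - γ • e - c • f with hw'
    have hbw : b = γ • e + c • f + w' := by rw [hw']; abel
    have hQw : Q w = 0 := by
      rw [hw, sub_eq_add_neg, ← neg_smul, Q_add, Q_smul, hp.left, ha, polar_smul_right,
        (polar_comm Q a e).trans hea]
      simp
    have hww : α * c + polar Q w w' = 0 := by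
      rw [← hab]
      conv_rhs => rw [haw, hbw]
      simp only [polar_add_left, polar_add_right, polar_smul_left, polar_smul_right, hp.pol_ee,
        hp.pol, (polar_comm Q w e).trans hw1, (polar_comm Q w f).trans hw2, (mem_core.1 hwb).1,
        smul_eq_mul]
      ring
    have hw0 : w ≠ 0 := by
      intro hw0
      rw [hw0, zero_add] at haw
      have hα : α ≠ 0 := fun h => ha0 (by rw [haw, h, zero_smul])
      rw [haw, polar_smul_left, smul_eq_mul, mul_eq_zero] at hab
      exact heb (hab.resolve_left hα)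
    have hα : α = 0 := by
      by_contra hα
      have hww' : polar Q w w' ≠ 0 := fun h => mul_ne_zero hα heb (by rwa [h, add_zero] at hww)
      obtain ⟨v, hv, hv0, hQv⟩ := exists_singular_any (Q := Q)
        (perpS Q (Submodule.span F ({e, f, w, w'} : Set V))) (by
          have h3 := finrank_perpS hQ (Submodule.span F ({e, f, w, w'} : Set V))
          have h4 : finrank F (Submodule.span F ({e, f, w, w'} : Set V)) ≤ 4 := by
            refine (finrank_span_le_card (R := F) ({e, f, w, w'} : Set V)).trans ?_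
            simp only [Set.toFinset_insert, Set.toFinset_singleton]
            exact Finset.card_le_four
          omega)
      obtain ⟨hev, hfv, hwv, hwv'⟩ : polar Q e v = 0 ∧ polar Q f v = 0 ∧ polar Q w v = 0 ∧
          polar Q w' v = 0 :=
        ⟨hv _ (Submodule.subset_span (by simp)), hv _ (Submodule.subset_span (by simp)),
          hv _ (Submodule.subset_span (by simp)), hv _ (Submodule.subset_span (by simp))⟩
      have hSv : SPair Q w v := ⟨hQw, hwv⟩
      have hg := hWgen w v hwa (mem_core.2 ⟨hev, hfv⟩) hQw hwv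
      set g := el Q w v with hgdef
      have hga : g.1.1 a = a := el_fix hSv
        (by rw [haw, polar_add_right, polar_smul_right, polar_self', hQw, polar_comm Q w e, hw1]; simp)
        (by rw [haw, polar_add_right, polar_smul_right, polar_comm Q v w, hwv, polar_comm Q v e, hev]; simp)
      have hδ : g.1.1 b - b = polar Q w w' • v := by
        rw [hgdef, el_apply hSv, hbw, hQv]
        simp only [polar_add_right, polar_smul_right, (polar_comm Q w e).trans hw1,
          (polar_comm Q w f).trans hw2, (polar_comm Q v e).trans hev, (polar_comm Q v f).trans hfv,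
          (polar_comm Q v w').trans hwv', smul_zero, zero_add, zero_mul, zero_smul, sub_zero]
        abel
      have hgb : el Q a (g.1.1 b) ∈ K := by
        have := K.mul_mem (K.mul_mem hg hK) (K.inv_mem hg)
        rwa [el_conj, hga] at this
      have hav : polar Q a v = 0 := by
        rw [haw, polar_add_left, polar_smul_left, hwv, hev, smul_zero, add_zero]
      have hSa : SPair Q a (polar Q w w' • v) := ⟨ha, by rw [polar_smul_right, hav, smul_zero]⟩
      have hKd : el Q a (polar Q w w' • v) ∈ K := by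
        rw [show g.1.1 b = b + polar Q w w' • v by rw [← hδ]; abel, ← el_mul ⟨ha, hab⟩ hSa] at hgb
        exact (K.mul_mem_cancel_left hK).1 hgb
      have hliv : LinearIndependent F ![a, polar Q w w' • v] := by
        refine (LinearIndependent.pair_iff' ha0).2 fun s hs => ?_
        have h1 := congrArg (polar Q f) hs
        rw [polar_smul_right, polar_smul_right, hfv, smul_zero, smul_eq_mul] at h1
        rcases mul_eq_zero.1 h1 with h | h
        · rw [h, zero_smul] at hs
          exact smul_ne_zero hww' hv0 hs.symm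
        · exact hα h
      obtain ⟨h1, -⟩ := hA ha (by rw [Q_smul, hQv, mul_zero]) hSa.perp hliv hKd hea
        (by rw [polar_smul_right, hev, smul_zero])
      exact hα (mem_core.1 h1).2
    rw [hα, zero_smul, add_zero] at haw
    rw [hα, zero_mul, zero_add] at hww
    have haW : a ∈ W := haw ▸ hwa
    set y := γ • e + c • f
    have hyP : y ∈ Submodule.span F ({e, f} : Set V) := Submodule.add_mem _
      (Submodule.smul_mem _ _ (Submodule.subset_span (by simp)))
      (Submodule.smul_mem _ _ (Submodule.subset_span (by simp)))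
    have hwy : polar Q w y = 0 := by
      simp only [y, polar_add_right, polar_smul_right, (polar_comm Q w e).trans hw1,
        (polar_comm Q w f).trans hw2]
      simp
    have hy : el Q w y ∈ K := by
      have h1 := hK
      rw [haw, hbw, ← el_mul ⟨hQw, hwy⟩ ⟨hQw, hww⟩] at h1
      exact (K.mul_mem_cancel_right (hWgen w w' hwa hwb hQw hww)).1 h1
    have hyD : y ∈ D := by
      refine ⟨hyP, fun w₁ hw₁ hw₁0 hQw₁ => ?_⟩
      obtain ⟨G, hG, hGe, hGf, hGw⟩ := htransK w w₁ hwa hw₁ hw0 hw₁0 (hQw.trans hQw₁.symm)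
      have := K.mul_mem (K.mul_mem hG hy) (K.inv_mem hG)
      rwa [el_conj, hGw, show G.1.1 y = y by simp only [y, map_add, map_smul, hGe, hGf]] at this
    refine ⟨Submodule.mem_sup_left haW, ?_⟩
    rw [hbw]
    exact Submodule.add_mem _ (Submodule.mem_sup_right hyD) (Submodule.mem_sup_left hwb)
  -- the invariant subspace
  set R : Set V := {a | ∃ b, Q a = 0 ∧ Q b = 0 ∧ polar Q a b = 0 ∧ LinearIndependent F ![a, b] ∧
    el Q a b ∈ K}
  set U := Submodule.span F R
  have hUT : U ≤ W ⊔ D := Submodule.span_le.2 fun a ⟨b, ha, hb, hab, hli, hK⟩ => by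
    by_cases hea : polar Q e a = 0
    · exact (hB ha hb hab hli hK hea).1
    set s := polar Q e b / polar Q e a
    have hea' : polar Q e (b + (-s) • a) = 0 := by
      rw [polar_add_right, polar_smul_right, smul_eq_mul]
      simp only [s]; field_simp; ring
    have hQ' : Q (b + (-s) • a) = 0 := by
      rw [Q_add, Q_smul, ha, hb, polar_smul_right, polar_comm, hab]; simp
    have hab' : polar Q a (b + (-s) • a) = 0 := by
      rw [polar_add_right, polar_smul_right, hab, polar_self', ha]; simp
    refine (hB hQ' ha ((polar_comm Q _ _).trans hab') ?_ ?_ hea').2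
    · refine LinearIndependent.pair_iff.2 fun x y hxy => ?_
      have h := (LinearIndependent.pair_iff.1 hli) (x * -s + y) x (by rw [← hxy]; module)
      refine ⟨h.2, ?_⟩
      have h1 := h.1
      rw [h.2, zero_mul, zero_add] at h1
      exact h1
    · rw [el_swap ha hQ' hab', ← el_inv, el_shift ⟨ha, hab⟩]
      exact K.inv_mem hK
  have hUne : U ≠ ⊤ := fun h => by
    have h1 : finrank F (W ⊔ D : Submodule F V) = finrank F V := by
      rw [← finrank_top F V]
      exact congrArg (fun S : Submodule F V => finrank F S) (top_unique (h ▸ hUT))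
    have hD1 : finrank F D ≤ 1 := by
      have hlt : D < Submodule.span F ({e, f} : Set V) := lt_of_le_of_ne (fun y hy => hy.1)
        fun h => hDe (h ▸ Submodule.subset_span (by simp))
      have h2 := Submodule.finrank_lt_finrank_of_lt hlt
      have h3 : finrank F (Submodule.span F ({e, f} : Set V)) ≤ 2 := by
        refine (finrank_span_le_card (R := F) ({e, f} : Set V)).trans ?_
        simp only [Set.toFinset_insert, Set.toFinset_singleton]
        exact Finset.card_le_two
      omega
    have := Submodule.finrank_add_le_finrank_add_finrank W D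
    have : finrank F W = finrank F (core Q e f) := rfl
    omega
  have hUinv : ∀ k ∈ K, ∀ u ∈ U, k.1.1 u ∈ U := by
    intro k hk u hu
    have : U.map (k.1.1 : V →ₗ[F] V) ≤ U := by
      rw [Submodule.map_span]
      refine Submodule.span_le.2 ?_
      rintro _ ⟨a, ⟨b, ha, hb, hab, hli, hKab⟩, rfl⟩
      refine Submodule.subset_span ⟨k.1.1 b, (eg_Q k a).trans ha, (eg_Q k b).trans hb,
        (eg_polar k a b).trans hab, ?_, ?_⟩
      · refine LinearIndependent.pair_iff.2 fun x y hxy => LinearIndependent.pair_iff.1 hli x y ?_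
        refine k.1.1.injective ?_
        rw [map_add, map_smul, map_smul, map_zero]
        exact hxy
      · have := K.mul_mem (K.mul_mem hk hKab) (K.inv_mem hk)
        rwa [el_conj] at this
    exact this ⟨u, hu, rfl⟩
  set L := perpS Q U
  have hLP : L ≤ Submodule.span F ({e, f} : Set V) := by
    intro c hc
    by_contra hcP
    have hS : finrank F (Submodule.span F ({e, f} : Set V) ⊓
        perpS Q (Submodule.span F ({e, f} : Set V)) : Submodule F V) + 3 ≤
        finrank F (perpS Q (Submodule.span F ({e, f} : Set V))) := by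
      have h1 : (Submodule.span F ({e, f} : Set V) ⊓
          perpS Q (Submodule.span F ({e, f} : Set V))) = ⊥ := by
        rw [Submodule.eq_bot_iff]
        rintro x ⟨hx, hx'⟩
        obtain ⟨s, t, rfl⟩ := Submodule.mem_span_pair.1 hx
        have h1 := hx' e (Submodule.subset_span (by simp))
        have h2 := hx' f (Submodule.subset_span (by simp))
        change polar Q e _ = 0 at h1
        change polar Q f _ = 0 at h2
        simp only [polar_add_right, polar_smul_right, hp.pol, hp.pol', hp.pol_ee, hp.pol_ff,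
          smul_eq_mul, mul_zero, mul_one, zero_add, add_zero] at h1 h2
        rw [h1, h2, zero_smul, zero_smul, add_zero]
      rw [h1, finrank_bot, finrank_perpS hQ]
      have h3 : finrank F (Submodule.span F ({e, f} : Set V)) ≤ 2 := by
        refine (finrank_span_le_card (R := F) ({e, f} : Set V)).trans ?_
        simp only [Set.toFinset_insert, Set.toFinset_singleton]
        exact Finset.card_le_two
      omega
    obtain ⟨z, hz, hzS, hzc⟩ := exists_sing_sep hQ hcP hS
    have hzW : z ∈ W := mem_core.2 ⟨hzS e (Submodule.subset_span (by simp)),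
      hzS f (Submodule.subset_span (by simp))⟩
    have hz0 : z ≠ 0 := fun h => hzc (by rw [h, polar_zero_left])
    obtain ⟨v, hv, hzv, hQv, hli⟩ := exists_perp_indep hQ hp h7 hzW hz0
    exact hzc (hc z (Submodule.subset_span ⟨v, hz, hQv, hzv, hli, hWgen z v hzW hv hz hzv⟩))
  have hL0 : 1 ≤ finrank F L := by
    rw [finrank_perpS hQ]
    have := Submodule.finrank_lt hUne
    omega
  have hLinv : ∀ k ∈ K, ∀ x ∈ L, k.1.1 x ∈ L := fun k hk x hx u hu => by
    show polar Q u (k.1.1 x) = 0
    conv_lhs => arg 2; rw [← eg_apply_inv k u]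
    rw [eg_polar]
    exact hx _ (hUinv _ (K.inv_mem hk) u hu)
  rcases Nat.lt_or_ge (finrank F L) 2 with hL1 | hL2
  · left
    obtain ⟨z, hzL, hz0⟩ := Submodule.exists_mem_ne_zero_of_ne_bot
      (show L ≠ ⊥ from fun hb => by rw [hb, finrank_bot] at hL0; omega)
    refine ⟨z, hz0, fun k hk => ?_⟩
    have hLz : Submodule.span F {z} = L := Submodule.eq_of_le_of_finrank_eq
      ((Submodule.span_singleton_le_iff_mem _ _).2 hzL) (by rw [finrank_span_singleton hz0]; omega)
    have := hLinv k hk z hzL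
    rw [← hLz] at this
    obtain ⟨t, ht⟩ := Submodule.mem_span_singleton.1 this
    exact ⟨t, ht.symm⟩
  · right
    have hLeq : L = Submodule.span F ({e, f} : Set V) := by
      refine Submodule.eq_of_le_of_finrank_le hLP ?_
      refine le_trans ?_ hL2
      refine (finrank_span_le_card (R := F) ({e, f} : Set V)).trans ?_
      simp only [Set.toFinset_insert, Set.toFinset_singleton]
      exact Finset.card_le_two
    have hform : ∀ k : K, ∃ i : Bool, ∃ t : F, t ≠ 0 ∧ k.1.1.1 e = t • (if i then f else e) := by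
      intro k
      have h1 := hLinv k.1 k.2 e (hLeq ▸ Submodule.subset_span (by simp))
      rw [hLeq] at h1
      obtain ⟨s, t, hst⟩ := Submodule.mem_span_pair.1 h1
      have h2 : s * t = 0 := by
        have h := eg_Q k.1 e
        rw [← hst, Q_comb, hp.left, hp.right, hp.pol] at h
        linear_combination h
      have hne : k.1.1.1 e ≠ 0 := fun h => hp.left_ne (k.1.1.1.injective (h.trans (map_zero _).symm))
      rcases mul_eq_zero.1 h2 with h | h
      · refine ⟨true, t, fun ht => hne (by rw [← hst, h, ht]; simp), ?_⟩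
        rw [← hst, h, zero_smul, zero_add]; rfl
      · refine ⟨false, s, fun ht => hne (by rw [← hst, h, ht]; simp), ?_⟩
        rw [← hst, h, zero_smul, add_zero]; rfl
    choose i t ht hkt using hform
    rw [Subgroup.relIndex, Subgroup.index, ← Fintype.card_bool, ← Nat.card_eq_fintype_card]
    refine Nat.card_le_card_of_injective (fun c => i (Quotient.out c)) fun c c' h => ?_
    rw [← Quotient.out_eq c, ← Quotient.out_eq c']
    refine QuotientGroup.eq.2 ?_
    set k := Quotient.out c
    set k' := Quotient.out c'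
    refine ⟨t k' / t k, div_ne_zero (ht k') (ht k), ?_⟩
    show (k.1⁻¹ * k'.1).1.1 e = _
    have h' : i k = i k' := h
    rw [eg_mul_apply, hkt k', ← h', map_smul,
      show (if i k then f else e) = (t k)⁻¹ • k.1.1.1 e by
        rw [hkt k, smul_smul, inv_mul_cancel₀ (ht k), one_smul],
      map_smul, eg_inv_apply, smul_smul, div_eq_mul_inv]

end Cfsg.Agent.Lib.MinIndexOmega
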