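import Mathlib
import Cfsg.Agent.Lib.MinIndexOmega.Bot
import Cfsg.Agent.Lib.Forms.Det
import Cfsg.Agent.Lib.OrthOmega.Simple

/-!
Lib/MinIndexOmega/Levels: counts inside a point's orthogonal, the three index bounds from a
parameter off the point, the bound when the parameters are trivial, and the passage to `PΩ`.
-/

set_option autoImplicit false
set_option linter.unusedSectionVars false

namespace Cfsg.Agent.Lib.MinIndexOmega

open Module QuadraticMap Cfsg.Agent.Lib.Forms Cfsg.Agent.Lib.OrthOmega Cfsg.Agent.Lib.AutPOmega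

variable {F : Type*} [Field F] [Finite F] {V : Type*} [AddCommGroup V] [Module F V]
variable [FiniteDimensional F V] {Q : QuadraticForm F V}

/-- The number of values `t² c`, or rather its reciprocal share of `q - 1`. -/
noncomputable def gd (F : Type*) [Field F] : ℕ :=
  @ite ℕ ((2 : F) = 0) (Classical.dec _) 1 2

theorem gd_le_two : gd F ≤ 2 := by
  unfold gd; split_ifs <;> omega

theorem gd_odd (h2 : (2 : F) ≠ 0) : gd F = 2 := by
  unfold gd; rw [if_neg h2]

theorem gd_even (h2 : (2 : F) = 0) : gd F = 1 := by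
  unfold gd; rw [if_pos h2]

/-- The vectors of value `c` orthogonal to `e`. -/
def lev (Q : QuadraticForm F V) (e : V) (c : F) : Set V := {x | polar Q e x = 0 ∧ Q x = c}

theorem lev_add (hQ : Nondeg Q) {e : V} (he0 : e ≠ 0) (he : Q e = 0) (c : F) :
    (lev Q e c).ncard + (Nat.card F - 1) * Nat.card F ^ (finrank F V - 2) = levelCard Q c := by
  classical
  haveI := finite_V F V
  obtain ⟨f, hp⟩ := exists_hypPair hQ he0 he
  set W := core Q e f
  have hV : levelCard Q c = levelCard (qHyp.prod (res Q W)) c :=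
    card_level_congr ⟨{ hp.split with map_app' := fun v => (hp.Q_eq v).symm }⟩ c
  have hlev : (lev Q e c).ncard = Nat.card F * levelCard (res Q W) c := by
    rw [← Nat.card_coe_set_eq, levelCard, ← Nat.card_prod]
    exact Nat.card_congr
      { toFun := fun v => (polar Q f v.1, ⟨(hp.split v.1).2, by
          have h := hp.Q_eq v.1
          rw [v.2.2, show (hp.split v.1).1.2 = 0 from v.2.1, mul_zero, zero_add] at h
          exact h.symm⟩)
        invFun := fun p => ⟨p.1 • e + (0 : F) • f + (p.2.1 : V), by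
            rw [polar_add_right, polar_add_right, polar_smul_right, polar_smul_right, hp.pol_ee,
              (mem_core.1 p.2.1.2).1]
            simp, by
            rw [hp.Q_comb_core _ _ p.2.1.2, mul_zero, zero_add]
            exact p.2.2⟩
        left_inv := fun v => Subtype.ext (by
          have h := hp.split.symm_apply_apply v.1
          conv_rhs => rw [← h]
          show _ = (hp.split v.1).1.1 • e + (hp.split v.1).1.2 • f + ((hp.split v.1).2 : V)
          rw [show (hp.split v.1).1.2 = 0 from v.2.1]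
          rfl)
        right_inv := fun p => by
          have h := hp.split.apply_symm_apply ((p.1, (0 : F)), p.2.1)
          exact Prod.ext (congrArg (fun z => z.1.1) h) (Subtype.ext (congrArg (fun z => z.2) h)) }
  rw [hV, levelCard_hyp_prod, hlev, Module.natCard_eq_pow_finrank (K := F) (V := W), add_comm,
    show finrank F W = finrank F V - 2 by have : finrank F W + 2 = finrank F V := hp.finrank_core; omega]

/-- The vectors of the classes of the parameters off the point. -/
def cl (K : Subgroup (EG Q)) {e : V} (he : Q e = 0) : Set V :=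
  {x | polar Q e x = 0 ∧ (∀ t : F, x ≠ t • e) ∧
    ∃ a ∈ pp K he, (∀ t : F, a ≠ t • e) ∧ ∃ t : F, t ≠ 0 ∧ Q x = t * t * Q a}

theorem ncard_multiples {e : V} (he0 : e ≠ 0) :
    {x : V | ∃ t : F, x = t • e}.ncard = Nat.card F := by
  rw [show {x : V | ∃ t : F, x = t • e} = Set.range (fun t : F => t • e) by
    ext x; simp [eq_comm]]
  exact Set.ncard_range_of_injective (smul_left_injective F he0)

theorem lev_le_cl {K : Subgroup (EG Q)} {e : V} {he : Q e = 0} {a : V} (ha : a ∈ pp K he)
    (ha' : ∀ t : F, a ≠ t • e) {t : F} (ht : t ≠ 0) (h0 : Q a ≠ 0) :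
    lev Q e (t * t * Q a) ⊆ cl K he := fun x ⟨hx, hq⟩ =>
  ⟨hx, fun s hs => mul_ne_zero (mul_ne_zero ht ht) h0 (by
    rw [← hq, hs, Q_smul, he, mul_zero]), a, ha, ha', t, ht, hq⟩

/-- One non-zero class. -/
def clAt (Q : QuadraticForm F V) (e : V) (c : F) : Set V :=
  {x | polar Q e x = 0 ∧ ∃ t : F, t ≠ 0 ∧ Q x = t * t * c}

theorem card_clAt {e : V} {c : F} (hc : c ≠ 0) {L : ℕ}
    (hL : ∀ d : F, d ≠ 0 → L ≤ (lev Q e d).ncard) :
    (Nat.card F - 1) * L ≤ gd F * (clAt Q e c).ncard := by
  classical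
  haveI := finite_V F V
  haveI := Fintype.ofFinite F
  haveI := Fintype.ofFinite V
  set U : Finset F := Finset.univ.filter (· ≠ 0)
  set S : Finset F := U.image (fun t => t * t * c)
  have hU : U.card = Nat.card F - 1 := by
    rw [← card_units F, Nat.card_eq_fintype_card, Fintype.card_subtype]
  have h1 : U.card ≤ gd F * S.card := by
    refine Finset.card_le_mul_card_image U (gd F) fun d hd => ?_
    obtain ⟨r, -, rfl⟩ := Finset.mem_image.1 hd
    refine (Finset.card_le_card (t := ({r, -r} : Finset F)) fun x hx => ?_).trans ?_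
    · rw [Finset.mem_filter] at hx
      simpa using mul_self_eq_mul_self_iff.1 (mul_right_cancel₀ hc hx.2)
    · rcases eq_or_ne (2 : F) 0 with h2 | h2
      · rw [gd_even h2, show -r = r by linear_combination -r * h2]
        simp
      · rw [gd_odd h2]
        exact Finset.card_le_two
  have h2 : S.card * L ≤ (clAt Q e c).ncard := by
    rw [← smul_eq_mul, Set.ncard_eq_toFinset_card']
    refine le_trans ?_ (Finset.card_le_card
      (s := S.biUnion fun d => (lev Q e d).toFinset) fun x hx => ?_)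
    · rw [Finset.card_biUnion ?_]
      · refine Finset.card_nsmul_le_sum _ _ _ fun d hd => ?_
        obtain ⟨r, hr, rfl⟩ := Finset.mem_image.1 hd
        rw [← Set.ncard_eq_toFinset_card']
        exact hL _ (mul_ne_zero (mul_ne_zero (Finset.mem_filter.1 hr).2 (Finset.mem_filter.1 hr).2) hc)
      · intro d _ d' _ hne
        refine Finset.disjoint_left.2 fun x hx hx' => hne ?_
        rw [Set.mem_toFinset] at hx hx'
        exact hx.2.symm.trans hx'.2
    · obtain ⟨d, hd, hxd⟩ := Finset.mem_biUnion.1 hx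
      obtain ⟨r, hr, rfl⟩ := Finset.mem_image.1 hd
      rw [Set.mem_toFinset] at hxd ⊢
      exact ⟨hxd.1, r, (Finset.mem_filter.1 hr).2, hxd.2⟩
  rw [← hU]
  calc U.card * L ≤ gd F * S.card * L := Nat.mul_le_mul_right _ h1
    _ = gd F * (S.card * L) := mul_assoc _ _ _
    _ ≤ _ := Nat.mul_le_mul_left _ h2

/-- The classes met by an anisotropic parameter. -/
theorem card_cl_aniso {K : Subgroup (EG Q)} {e : V} {he : Q e = 0} {a : V}
    (ha : a ∈ pp K he) (h0 : Q a ≠ 0) {L : ℕ}
    (hL : ∀ d : F, d ≠ 0 → L ≤ (lev Q e d).ncard) :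
    (Nat.card F - 1) * L ≤ gd F * (cl K he).ncard := by
  haveI := finite_V F V
  refine (card_clAt h0 hL).trans (Nat.mul_le_mul_left _ (Set.ncard_le_ncard ?_ (Set.toFinite _)))
  rintro x ⟨hx, t, ht, hq⟩
  exact lev_le_cl ha (fun s hs => h0 (by rw [hs, Q_smul, he, mul_zero])) ht h0 ⟨hx, hq⟩

/-- The class of a singular parameter. -/
theorem card_cl_sing {K : Subgroup (EG Q)} {e : V} {he : Q e = 0} (he0 : e ≠ 0) {a : V}
    (ha : a ∈ pp K he) (ha' : ∀ t : F, a ≠ t • e) (h0 : Q a = 0) :
    (lev Q e 0).ncard ≤ (cl K he).ncard + Nat.card F := by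
  haveI := finite_V F V
  refine (Set.ncard_le_ncard (t := cl K he ∪ {x : V | ∃ t : F, x = t • e}) ?_
    (Set.toFinite _)).trans ((Set.ncard_union_le _ _).trans (by rw [ncard_multiples he0]))
  rintro x ⟨hx, hq⟩
  by_cases hm : ∃ t : F, x = t • e
  · exact Or.inr hm
  · push Not at hm
    exact Or.inl ⟨hx, hm, a, ha, ha', 1, one_ne_zero, by rw [hq, h0, mul_zero]⟩

/-- Both kinds of classes. -/
theorem card_cl_both {K : Subgroup (EG Q)} {e : V} {he : Q e = 0} (he0 : e ≠ 0) {a b : V}
    (ha : a ∈ pp K he) (h0 : Q a ≠ 0) (hb : b ∈ pp K he) (hb' : ∀ t : F, b ≠ t • e)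
    (hb0 : Q b = 0) {L : ℕ} (hL : ∀ d : F, d ≠ 0 → L ≤ (lev Q e d).ncard) :
    (Nat.card F - 1) * L + gd F * (lev Q e 0).ncard ≤
      gd F * ((cl K he).ncard + Nat.card F) := by
  haveI := finite_V F V
  refine (Nat.add_le_add_right (card_clAt h0 hL) _).trans ?_
  rw [← mul_add]
  refine Nat.mul_le_mul_left _ ?_
  rw [← Set.ncard_union_eq ?_ (Set.toFinite _) (Set.toFinite _)]
  · refine (Set.ncard_le_ncard (t := cl K he ∪ {x : V | ∃ t : F, x = t • e}) ?_
      (Set.toFinite _)).trans ((Set.ncard_union_le _ _).trans (by rw [ncard_multiples he0]))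
    rintro x (⟨hx, t, ht, hq⟩ | ⟨hx, hq⟩)
    · exact Or.inl (lev_le_cl ha (fun s hs => h0 (by rw [hs, Q_smul, he, mul_zero])) ht h0 ⟨hx, hq⟩)
    · by_cases hm : ∃ t : F, x = t • e
      · exact Or.inr hm
      · push Not at hm
        exact Or.inl ⟨hx, hm, b, hb, hb', 1, one_ne_zero, by rw [hq, hb0, mul_zero]⟩
  · rw [Set.disjoint_left]
    rintro x ⟨-, t, ht, hq⟩ ⟨-, hq'⟩
    exact mul_ne_zero (mul_ne_zero ht ht) h0 (hq.symm.trans hq')

/-! ### The bounds -/

theorem ncard_pp_inter_cl {K : Subgroup (EG Q)} {e : V} {he : Q e = 0} (he0 : e ≠ 0) :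
    ((pp K he : Set V) ∩ cl K he).ncard ≤ Nat.card (pp K he) - Nat.card F := by
  haveI := finite_V F V
  refine (Set.ncard_le_ncard (t := (pp K he : Set V) \ {x : V | ∃ t : F, x = t • e}) ?_
    (Set.toFinite _)).trans ?_
  · rintro x ⟨hx, hc⟩
    exact ⟨hx, fun ⟨t, ht⟩ => hc.2.1 t ht⟩
  · rw [Set.ncard_sdiff (by rintro x ⟨t, rfl⟩; exact smul_self_mem_pp K he t) (Set.toFinite _),
      ncard_multiples he0, ← Nat.card_coe_set_eq]
    rfl

theorem cl_stable {K : Subgroup (EG Q)} {e : V} {he : Q e = 0} (g : EG Q) (t : F) (ht : t ≠ 0)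
    (hge : g.1.1 e = t • e) (x : V) (hx : t • g.1.1 x ∈ cl K he) : x ∈ cl K he := by
  obtain ⟨h1, h2, a, ha, ha', s, hs, hq⟩ := hx
  refine ⟨?_, fun r hr => h2 (t * (r * t)) ?_, a, ha, ha', s / t, div_ne_zero hs ht, ?_⟩
  · rw [polar_smul_right, ← polar_smul_left, ← hge, eg_polar] at h1
    exact h1
  · rw [hr, map_smul, hge, smul_smul, smul_smul]
    congr 1; ring
  · rw [Q_smul, eg_Q] at hq
    field_simp
    linear_combination hq

/-- The plain bound. -/
theorem cl_bound (hQ : Nondeg Q) (h7 : 7 ≤ finrank F V) {K : Subgroup (EG Q)} {e : V}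
    (he0 : e ≠ 0) (he : Q e = 0) :
    (cl K he).ncard * Nat.card F ^ (finrank F V - 1) ≤
      K.index * Nat.card (pp K he) * (Nat.card (pp K he) - Nat.card F) := by
  haveI := finite_V F V
  have h1 : 1 * (cl K he).ncard ≤ _ :=
    mult_mul_card_le (e := e) (B := (pp K he : Set V)) (fun g t ht hge x => cl_stable g t ht hge x)
      fun x hx => by
    obtain ⟨hx1, hx2, a, ha, ha', t, ht, hq⟩ := hx
    obtain ⟨B', hB', hxB⟩ := exists_img_of_class hQ (by omega) he0 he (mem_pp.1 ha).1 ha' hx1 hx2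
      ht hq (show a ∈ (pp K he : Set V) from ha)
    exact (Set.ncard_pos (Set.toFinite _)).2 ⟨B', hB', hxB⟩
  rw [one_mul] at h1
  calc (cl K he).ncard * Nat.card F ^ (finrank F V - 1)
      ≤ (imgs Q e (pp K he : Set V)).ncard * ((pp K he : Set V) ∩ cl K he).ncard *
          Nat.card F ^ (finrank F V - 1) := Nat.mul_le_mul_right _ h1
    _ = (imgs Q e (pp K he : Set V)).ncard * Nat.card F ^ (finrank F V - 1) *
          ((pp K he : Set V) ∩ cl K he).ncard := by ring
    _ ≤ _ := Nat.mul_le_mul ((card_imgs_mul_le hQ he0 he K).trans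
          (Nat.mul_le_mul_right _ (relIndex_le_index K _))) (ncard_pp_inter_cl he0)

/-- The bound with many images through a vector. -/
theorem cl_bound_mult (hQ : Nondeg Q) (h7 : 7 ≤ finrank F V) {K : Subgroup (EG Q)} {e : V}
    (he0 : e ≠ 0) (he : Q e = 0) (hs : Nat.card F ^ 2 < Nat.card (pp K he)) {c D : ℕ}
    (hH : ∀ (g : EG Q) (t : F), t ≠ 0 → g.1.1 e = t • e → ∀ z b : V,
      b ∈ (fun x => t • g.1.1 x) '' (pp K he : Set V) → polar Q z b ≠ 0 →
      c * {y | y ∈ (fun x => t • g.1.1 x) '' (pp K he : Set V) ∧ polar Q z y = 0}.ncard ≤ D) :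
    c * (cl K he).ncard * Nat.card F ^ (2 * finrank F V - 5) ≤
      K.index * D * Nat.card (pp K he) * (Nat.card (pp K he) - Nat.card F) := by
  classical
  haveI := finite_V F V
  set B := (pp K he : Set V)
  have hmult : ∀ x ∈ cl K he, c * Nat.card F ^ (finrank F V - 4) ≤
      {B' | B' ∈ imgs Q e B ∧ x ∈ B'}.ncard * D := by
    intro x hx
    obtain ⟨hx1, hx2, a, ha, ha', t, ht, hq⟩ := hx
    obtain ⟨B', hB', hxB⟩ := exists_img_of_class hQ (by omega) he0 he (mem_pp.1 ha).1 ha' hx1 hx2
      ht hq (show a ∈ B from ha)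
    obtain ⟨g, s, hs0, hge, rfl⟩ := hB'
    obtain ⟨b, hb, hbS⟩ : ∃ b ∈ (fun y => s • g.1.1 y) '' B,
        b ∉ Submodule.span F ({e, x} : Set V) := by
      by_contra hcon
      push Not at hcon
      have h1 := Set.ncard_le_ncard (t := (Submodule.span F ({e, x} : Set V) : Set V)) hcon
        (Set.toFinite _)
      rw [Set.ncard_image_of_injective _ (imgs_inj hs0)] at h1
      have h2 : finrank F (Submodule.span F ({e, x} : Set V)) ≤ 2 := by
        refine (finrank_span_le_card (R := F) ({e, x} : Set V)).trans ?_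
        rw [Set.toFinset_insert, Set.toFinset_singleton]
        exact Finset.card_le_two
      have h3 : (Submodule.span F ({e, x} : Set V) : Set V).ncard ≤ Nat.card F ^ 2 := by
        rw [← Nat.card_coe_set_eq]
        exact (Module.natCard_eq_pow_finrank (K := F)
          (V := Submodule.span F ({e, x} : Set V))).trans_le
            (Nat.pow_le_pow_right Nat.card_pos h2)
      have h4 : B.ncard = Nat.card (pp K he) := (Nat.card_coe_set_eq B).symm
      omega
    obtain ⟨z, -, hzb, -, -, hle⟩ := exists_mult hQ h7 he hx1 ⟨g, s, hs0, hge, rfl⟩ hxB hb (by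
      rintro _ ⟨y, hy, rfl⟩ _ ⟨y', hy', rfl⟩
      exact ⟨y - y', sub_mem (H := pp K he) hy hy', by
        show s • g.1.1 (y - y') = _
        rw [map_sub, smul_sub]⟩) hbS
    refine (Nat.mul_le_mul_left c (hle.trans (Nat.mul_le_mul_right _ (Set.ncard_le_ncard
      (t := {B' | B' ∈ imgs Q e B ∧ x ∈ B'}) (fun B' hB' => ⟨hB'.1, hB'.2.1⟩)
      (Set.toFinite _))))).trans ?_
    rw [mul_left_comm]
    exact Nat.mul_le_mul_left _ (hH g s hs0 hge z b hb hzb)
  rcases (cl K he).eq_empty_or_nonempty with hemp | hne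
  · rw [hemp, Set.ncard_empty, mul_zero, zero_mul]; exact Nat.zero_le _
  obtain ⟨x₀, hx₀, hmin⟩ := Set.exists_min_image (cl K he)
    (fun x => {B' | B' ∈ imgs Q e B ∧ x ∈ B'}.ncard) (Set.toFinite _) hne
  set M := {B' | B' ∈ imgs Q e B ∧ x₀ ∈ B'}.ncard
  have h1 : M * (cl K he).ncard ≤ _ :=
    mult_mul_card_le (e := e) (B := B) (fun g t ht hge x => cl_stable g t ht hge x) hmin
  rw [show 2 * finrank F V - 5 = (finrank F V - 4) + (finrank F V - 1) by omega, pow_add]
  calc c * (cl K he).ncard * (Nat.card F ^ (finrank F V - 4) * Nat.card F ^ (finrank F V - 1))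
      = c * Nat.card F ^ (finrank F V - 4) * (cl K he).ncard * Nat.card F ^ (finrank F V - 1) := by
        ring
    _ ≤ M * D * (cl K he).ncard * Nat.card F ^ (finrank F V - 1) :=
        Nat.mul_le_mul_right _ (Nat.mul_le_mul_right _ (hmult x₀ hx₀))
    _ = D * (M * (cl K he).ncard) * Nat.card F ^ (finrank F V - 1) := by ring
    _ ≤ D * ((imgs Q e B).ncard * (B ∩ cl K he).ncard) * Nat.card F ^ (finrank F V - 1) :=
        Nat.mul_le_mul_right _ (Nat.mul_le_mul_left _ h1)
    _ = D * ((imgs Q e B).ncard * Nat.card F ^ (finrank F V - 1)) * (B ∩ cl K he).ncard := by ring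
    _ ≤ D * (K.index * Nat.card (pp K he)) * (Nat.card (pp K he) - Nat.card F) :=
        Nat.mul_le_mul (Nat.mul_le_mul_left _ ((card_imgs_mul_le hQ he0 he K).trans
          (Nat.mul_le_mul_right _ (relIndex_le_index K _)))) (ncard_pp_inter_cl he0)
    _ = _ := by ring

/-- The multiplicity bound with the characteristic. -/
theorem cl_bound_char (hQ : Nondeg Q) (h7 : 7 ≤ finrank F V) {p : ℕ} (hp : p.Prime) [CharP F p]
    {K : Subgroup (EG Q)} {e : V} (he0 : e ≠ 0) (he : Q e = 0)
    (hs : Nat.card F ^ 2 < Nat.card (pp K he)) :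
    p * (cl K he).ncard * Nat.card F ^ (2 * finrank F V - 5) ≤
      K.index * Nat.card (pp K he) * Nat.card (pp K he) *
        (Nat.card (pp K he) - Nat.card F) := by
  haveI := finite_V F V
  refine cl_bound_mult hQ h7 he0 he hs fun g t ht hge z b hb hzb => ?_
  let σ : V →+ V := AddMonoidHom.mk' (fun x => t • g.1.1 x) fun x y => by rw [map_add, smul_add]
  set B' := (pp K he).map σ
  have hcard : Nat.card B' = Nat.card (pp K he) :=
    (Nat.card_congr ((pp K he).equivMapOfInjective σ (imgs_inj ht)).toEquiv).symm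
  let H : AddSubgroup V := B' ⊓ (polarBilin Q z).toAddMonoidHom.ker
  have h := char_mul_card_le (F := F) hp (inf_le_left : H ≤ B') (b := b) hb (fun h => hzb h.2)
  rw [hcard] at h
  refine le_trans (le_of_eq ?_) h
  rw [← Nat.card_coe_set_eq]
  rfl

/-- The multiplicity bound inside a totally singular span. -/
theorem cl_bound_ts (hQ : Nondeg Q) (h7 : 7 ≤ finrank F V) {K : Subgroup (EG Q)} {e : V}
    (he0 : e ≠ 0) (he : Q e = 0) (hs : Nat.card F ^ 2 < Nat.card (pp K he)) {j : ℕ}
    (hj : finrank F (Submodule.span F (pp K he : Set V)) ≤ j) :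
    (cl K he).ncard * Nat.card F ^ (2 * finrank F V - 5) ≤
      K.index * Nat.card F ^ (j - 1) * Nat.card (pp K he) *
        (Nat.card (pp K he) - Nat.card F) := by
  haveI := finite_V F V
  have := cl_bound_mult hQ h7 he0 he hs (c := 1) (D := Nat.card F ^ (j - 1)) (K := K)
    fun g t ht hge z b hb hzb => ?_
  · rwa [one_mul] at this
  rw [one_mul]
  let U := Submodule.span F ((fun x => t • g.1.1 x) '' (pp K he : Set V))
  have hU : finrank F U ≤ j := by
    let σ : V →ₗ[F] V := t • (g.1.1 : V →ₗ[F] V)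
    refine le_trans (le_of_eq ?_) ((Submodule.finrank_map_le σ _).trans hj)
    rw [Submodule.map_span]
    rfl
  have hlt : U ⊓ LinearMap.ker (polarBilin Q z) < U :=
    lt_of_le_of_ne inf_le_left fun h => hzb (inf_eq_left.1 h (Submodule.subset_span hb))
  have h1 := Submodule.finrank_lt_finrank_of_lt hlt
  calc {y | y ∈ (fun x => t • g.1.1 x) '' (pp K he : Set V) ∧ polar Q z y = 0}.ncard
      ≤ ((U ⊓ LinearMap.ker (polarBilin Q z) : Submodule F V) : Set V).ncard :=
        Set.ncard_le_ncard (fun y hy => ⟨Submodule.subset_span hy.1, hy.2⟩) (Set.toFinite _)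
    _ = Nat.card (U ⊓ LinearMap.ker (polarBilin Q z) : Submodule F V) :=
        (Nat.card_coe_set_eq _).symm
    _ ≤ _ := by
        rw [Module.natCard_eq_pow_finrank (K := F)]
        exact Nat.pow_le_pow_right Nat.card_pos (by omega)

/-- Singular parameters span a totally singular subspace. -/
theorem span_pp_singular {K : Subgroup (EG Q)} {e : V} {he : Q e = 0}
    (hall : ∀ w ∈ pp K he, Q w = 0) :
    ∀ x ∈ Submodule.span F (pp K he : Set V), Q x = 0 := by
  have hpair : ∀ w ∈ pp K he, ∀ w' ∈ pp K he, polar Q w w' = 0 := fun w hw w' hw' => by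
    rw [polar, hall _ (add_mem hw hw'), hall _ hw, hall _ hw', sub_zero, sub_zero]
  have hperp : ∀ x ∈ Submodule.span F (pp K he : Set V), ∀ w ∈ pp K he, polar Q w x = 0 := by
    intro x hx w hw
    have : Submodule.span F (pp K he : Set V) ≤ LinearMap.ker (polarBilin Q w) :=
      Submodule.span_le.2 fun y hy => hpair w hw y hy
    exact this hx
  intro x hx
  induction hx using Submodule.span_induction with
  | mem y hy => exact hall y hy
  | zero => exact QuadraticMap.map_zero Q
  | add y z hy hz ihy ihz =>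
    have : Submodule.span F (pp K he : Set V) ≤ LinearMap.ker ((polarBilin Q).flip z) :=
      Submodule.span_le.2 fun w hw => hperp z hz w hw
    rw [Q_add, ihy, ihz, show polar Q y z = 0 from this hy, add_zero, add_zero]
  | smul r y _ ih => rw [Q_smul, ih, mul_zero]

theorem finrank_span_pp_le (hQ : Nondeg Q) {K : Subgroup (EG Q)} {e : V} {he : Q e = 0}
    (hall : ∀ w ∈ pp K he, Q w = 0) :
    2 * finrank F (Submodule.span F (pp K he : Set V)) ≤ finrank F V :=
  Forms.two_mul_finrank_le hQ _ (span_pp_singular hall)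

/-! ### Trivial parameters -/

/-- A Levi part in a subgroup. -/
def HasLevi (K : Subgroup (EG Q)) (e : V) : Prop :=
  ∃ f', HypPair Q e f' ∧ ∀ x y : V, x ∈ core Q e f' → y ∈ core Q e f' → Q x = 0 → Q y = 0 →
    polar Q x y = 0 → el Q x y ∈ K

theorem hasLevi_of_torus (hQ : Nondeg Q) (h7 : 7 ≤ finrank F V) {K : Subgroup (EG Q)} {e : V}
    (he0 : e ≠ 0) (he : Q e = 0) (hpp : ∀ w ∈ pp K he, ∃ t : F, w = t • e)
    (hq : 4 ≤ Nat.card F)
    (hlt : K.relIndex (pStab Q e) < 2 * Nat.card F ^ (finrank F V - 2)) : HasLevi K e := by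
  classical
  obtain ⟨f, hp⟩ := exists_hypPair hQ he0 he
  obtain ⟨s, hs, hs2⟩ : ∃ s : F, s ≠ 0 ∧ s * s ≠ 1 := by
    by_contra hcon
    push Not at hcon
    haveI := Fintype.ofFinite F
    have h1 : (Finset.univ : Finset F) ⊆ {0, 1, -1} := fun x _ => by
      by_cases hx : x = 0
      · simp [hx]
      · rcases mul_self_eq_one_iff.1 (hcon x hx) with h | h <;> simp [h]
    have h2 := (Finset.card_le_card h1).trans Finset.card_le_three
    rw [Finset.card_univ, ← Nat.card_eq_fintype_card] at h2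
    omega
  obtain ⟨f', hp', hK⟩ := exists_levi hp hpp hQ (by omega) hs hs2 hlt
  refine ⟨f', hp', fun x y hx hy hQx _ hxy => hK _ ?_ ?_⟩
  · exact el_fix ⟨hQx, hxy⟩ ((polar_comm Q _ _).trans (mem_core.1 hx).1)
      ((polar_comm Q _ _).trans (mem_core.1 hy).1)
  · exact el_fix ⟨hQx, hxy⟩ ((polar_comm Q _ _).trans (mem_core.1 hx).2)
      ((polar_comm Q _ _).trans (mem_core.1 hy).2)

/-- The bound when the parameters are trivial. -/
theorem bot_bound (hQ : Nondeg Q) (h7 : 7 ≤ finrank F V) {T : ℕ} {K : Subgroup (EG Q)} {e : V}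
    (he0 : e ≠ 0) (he : Q e = 0) (hpp : ∀ w ∈ pp K he, ∃ t : F, w = t • e)
    (hlevi : K.relIndex (pStab Q e) < 2 * Nat.card F ^ (finrank F V - 2) → HasLevi K e)
    (hT0 : T * (Nat.card F - 1) ≤ singCard Q)
    (hT1 : T ≤ 2 * Nat.card F ^ (finrank F V - 2))
    (hT2 : ∀ c : F, c ≠ 0 → T * gd F ≤ levelCard Q c) : T ≤ K.index := by
  classical
  haveI := finite_V F V
  have hq : 2 ≤ Nat.card F := Finite.one_lt_card
  by_cases hlt : K.relIndex (pStab Q e) < 2 * Nat.card F ^ (finrank F V - 2)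
  swap
  · exact (hT1.trans (not_lt.1 hlt)).trans (relIndex_le_index K _)
  obtain ⟨f', hp', hW⟩ := hlevi hlt
  rcases stab_of_levi hQ h7 hp' hpp hW with ⟨z, hz, hK⟩ | h2
  · by_cases hz0 : Q z = 0
    · exact Nat.le_of_mul_le_mul_right (hT0.trans (singCard_le_index_mul hQ (by omega) hz hz0 hK))
        (by omega)
    · have h := levelCard_le_index_mul hQ (by omega) hz0 hK
      have hg : gd F = if (2 : F) = 0 then 1 else 2 := by unfold gd; congr
      rw [← hg] at h
      refine Nat.le_of_mul_le_mul_right ((hT2 _ hz0).trans h) ?_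
      unfold gd; split_ifs <;> omega
  · have hP := pStab_index hQ (by omega : 4 ≤ finrank F V) he0 he
    have h3 := pow_le_relIndex hQ he0 he K hpp
    have h4 := index_mul_relIndex K (pStab Q e)
    have h5 : 2 ≤ Nat.card F ^ (finrank F V - 2) :=
      hq.trans (Nat.le_self_pow (by omega) _)
    refine Nat.le_of_mul_le_mul_right (hT0.trans ?_) (show 0 < Nat.card F - 1 by omega)
    refine Nat.le_of_mul_le_mul_left ?_ (Nat.succ_pos 1)
    calc 2 * singCard Q ≤ Nat.card F ^ (finrank F V - 2) * singCard Q :=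
          Nat.mul_le_mul_right _ h5
      _ ≤ K.relIndex (pStab Q e) * singCard Q := Nat.mul_le_mul_right _ h3
      _ = (pStab Q e).relIndex K * K.index * (Nat.card F - 1) := by rw [← h4, ← hP, mul_assoc]
      _ ≤ 2 * K.index * (Nat.card F - 1) :=
          Nat.mul_le_mul_right _ (Nat.mul_le_mul_right _ h2)
      _ = _ := by ring

end Cfsg.Agent.Lib.MinIndexOmega

/-! ### Passage to `PΩ` -/

namespace Cfsg.Agent.Lib.MinIndexOmega

open Module QuadraticMap Cfsg.Agent.Lib.Forms Cfsg.Agent.Lib.OrthOmega Cfsg.Agent.Lib.AutPOmega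

variable {F : Type*} [Field F] [Finite F] {ι : Type} [Fintype ι] [DecidableEq ι]

theorem center_le_of_line {Q : QuadraticForm F (ι → F)} (hQ : Nondeg Q)
    (h5 : 5 ≤ finrank F (ι → F)) {z : ι → F} :
    Subgroup.center (EG Q) ≤ pStab Q z := fun g hg => by
  rcases (mem_center_EG_iff hQ h5 g).1 hg with h | h
  · exact ⟨1, one_ne_zero, by rw [h, one_smul]⟩
  · exact ⟨-1, neg_ne_zero.2 one_ne_zero, by rw [h, neg_one_smul]⟩

/-- Minimal index in `EG` gives minimal index in `PΩ`. -/
theorem minIndex_pOmega {Q : QuadraticForm F (ι → F)} (hQ : Nondeg Q)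
    (h5 : 5 ≤ finrank F (ι → F)) {f : (ι → F) → F} (hf : ∀ v, f v = Q v) {T : ℕ}
    (hlow : ∀ K : Subgroup (EG Q), K ≠ ⊤ → T ≤ K.index)
    (hex : ∃ K : Subgroup (EG Q), Subgroup.center (EG Q) ≤ K ∧ K.index = T) :
    (∀ H : Subgroup (Cfsg.POmega F f), H ≠ ⊤ → T ≤ H.index) ∧
      ∃ H : Subgroup (Cfsg.POmega F f), H.index = T := by
  let φ : EG Q →* Cfsg.POmega F f :=
    (pOmegaEquiv Q hQ h5 hf).symm.toMonoidHom.comp (QuotientGroup.mk' (Subgroup.center (EG Q)))
  have hφ : Function.Surjective φ :=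
    (pOmegaEquiv Q hQ h5 hf).symm.surjective.comp (QuotientGroup.mk'_surjective _)
  constructor
  · intro H hH
    rw [← Subgroup.index_comap_of_surjective H hφ]
    refine hlow _ fun h => hH ?_
    rw [← Subgroup.index_eq_one, ← Subgroup.index_comap_of_surjective H hφ, h, Subgroup.index_top]
  · obtain ⟨K, hK, hKT⟩ := hex
    refine ⟨K.map φ, ?_⟩
    rw [Subgroup.index_map_eq _ hφ ?_, hKT]
    intro g hg
    refine hK ((QuotientGroup.eq_one_iff g).1 ?_)
    exact (pOmegaEquiv Q hQ h5 hf).symm.injective (hg.trans (map_one _).symm)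

end Cfsg.Agent.Lib.MinIndexOmega
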