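import Mathlib
import Cfsg.Agent.Lib.MinIndexOmega.Levels
import Cfsg.Agent.Lib.OrthStd.Models
import Cfsg.Agent.Lib.Forms.Omega

/-!
Lib/MinIndexOmega/Odd: the minimal index of `Ω_{2m+1}(q)`, `q ≥ 5` odd.
-/

set_option autoImplicit false

namespace Cfsg.Agent.Lib.MinIndexOmega

open Module QuadraticMap Cfsg.Agent.Lib.Forms Cfsg.Agent.Lib.OrthOmega Cfsg.Agent.Lib.AutPOmega
open Cfsg.Agent.Lib.OrthStd

variable {F : Type*} [Field F] [Fintype F]

/-- What is used about a form of the odd series. -/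
structure OddData {V : Type*} [AddCommGroup V] [Module F V] [FiniteDimensional F V]
    (Q : QuadraticForm F V) (m : ℕ) : Prop where
  nd : Nondeg Q
  rank : finrank F V = 2 * m + 1
  zero : levelCard Q 0 = Nat.card F ^ (2 * m)
  nonzero : ∀ c : F, c ≠ 0 → Nat.card F ^ (2 * m) ≤ levelCard Q c + Nat.card F ^ m

theorem oddData_qOddC (hodd : Odd (Fintype.card F)) (m : ℕ) : OddData (qOddC m F) m := by
  refine ⟨qOddC_nondeg m (two_ne_zero_of_odd hodd), ?_, ?_, fun c hc => ?_⟩
  · rw [finrank_fun]; simp; omega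
  · rw [levelCard, Nat.card_eq_fintype_card (α := F), ← card_zeros_odd (F := F) rfl m]
    exact Nat.card_congr (Equiv.subtypeEquivRight fun v => by rw [quadFormOdd_eq])
  · rw [levelCard, card_level_congr ⟨oddIso m F⟩]
    show _ ≤ levelCard ((qPlus (F := F) m).prod (qOne 1)) c + _
    rw [levelCard_plus_prod, Module.finrank_self, Nat.add_sub_cancel, Nat.sub_mul, one_mul,
      ← pow_add, two_mul]
    omega

variable {V : Type*} [AddCommGroup V] [Module F V] [FiniteDimensional F V]
variable {Q : QuadraticForm F V} {m : ℕ}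

theorem OddData.lev_zero (h : OddData Q m) (hm : 1 ≤ m) {e : V} (he0 : e ≠ 0) (he : Q e = 0) :
    (lev Q e 0).ncard = Nat.card F ^ (2 * m - 1) := by
  have h1 := lev_add h.nd he0 he 0
  rw [h.zero, h.rank, show 2 * m + 1 - 2 = 2 * m - 1 by omega,
    show Nat.card F ^ (2 * m) = Nat.card F * Nat.card F ^ (2 * m - 1) by
      rw [← pow_succ', show 2 * m - 1 + 1 = 2 * m by omega], Nat.sub_mul, one_mul] at h1
  have : Nat.card F ^ (2 * m - 1) ≤ Nat.card F * Nat.card F ^ (2 * m - 1) :=
    Nat.le_mul_of_pos_left _ Nat.card_pos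
  omega

theorem OddData.lev_nonzero (h : OddData Q m) (hm : 1 ≤ m) {e : V} (he0 : e ≠ 0) (he : Q e = 0)
    {c : F} (hc : c ≠ 0) :
    Nat.card F ^ (2 * m - 1) - Nat.card F ^ m ≤ (lev Q e c).ncard := by
  have h1 := lev_add h.nd he0 he c
  have h2 := h.nonzero c hc
  rw [h.rank, show 2 * m + 1 - 2 = 2 * m - 1 by omega, Nat.sub_mul, one_mul] at h1
  rw [show Nat.card F ^ (2 * m) = Nat.card F * Nat.card F ^ (2 * m - 1) by
    rw [← pow_succ', show 2 * m - 1 + 1 = 2 * m by omega]] at h2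
  have : Nat.card F ^ (2 * m - 1) ≤ Nat.card F * Nat.card F ^ (2 * m - 1) :=
    Nat.le_mul_of_pos_left _ Nat.card_pos
  omega

/-- The bound for odd `q ≥ 5`. -/
theorem odd_bound (h : OddData Q m) (hm : 3 ≤ m) (h2 : (2 : F) ≠ 0) (h5 : 5 ≤ Nat.card F)
    {K : Subgroup (EG Q)} (hK : K ≠ ⊤) :
    (Nat.card F ^ (2 * m) - 1) / (Nat.card F - 1) ≤ K.index := by
  classical
  have hn : 7 ≤ finrank F V := by rw [h.rank]; omega
  obtain ⟨e, he, he0, hs⟩ := exists_small h.nd hn hK
  rw [h.rank, show (2 * m + 1) / 2 = m by omega] at hs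
  have hz := h.lev_zero (by omega) he0 he
  have hL : ∀ d : F, d ≠ 0 → Nat.card F ^ (2 * m - 1) - Nat.card F ^ m ≤ (lev Q e d).ncard :=
    fun d hd => h.lev_nonzero (by omega) he0 he hd
  set q := Nat.card F with hqdef
  set T := (q ^ (2 * m) - 1) / (q - 1) with hTdef
  have hsucc : q ^ (2 * m) = q * q ^ (2 * m - 1) := by
    rw [← pow_succ', show 2 * m - 1 + 1 = 2 * m by omega]
  have hTmul : T * (q - 1) ≤ q ^ (2 * m) - 1 := Nat.div_mul_le_self _ _
  have hT : T ≤ 2 * q ^ (2 * m - 1) := by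
    refine Nat.div_le_of_le_mul ?_
    refine (Nat.sub_le _ _).trans ?_
    rw [hsucc, ← mul_assoc]
    exact Nat.mul_le_mul_right _ (by omega)
  by_cases hpp : ∀ w ∈ pp K he, ∃ t : F, w = t • e
  · refine bot_bound h.nd hn he0 he hpp (hasLevi_of_torus h.nd hn he0 he hpp (by omega))
      ?_ ?_ fun c hc => ?_
    · rw [singCard_eq, h.zero]; exact hTmul
    · rw [h.rank, show 2 * m + 1 - 2 = 2 * m - 1 by omega]; exact hT
    · rw [gd_odd h2]
      have h1 := h.nonzero c hc
      rw [← hqdef] at h1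
      have h3 : q ^ m * 2 ≤ q ^ (2 * m) := by
        rw [two_mul m, pow_add]
        exact Nat.mul_le_mul_left _ ((show 2 ≤ q by omega).trans (Nat.le_self_pow (by omega) _))
      have h4 : T * 2 * 2 ≤ q ^ (2 * m) - 1 := by
        refine le_trans ?_ hTmul
        rw [mul_assoc]
        exact Nat.mul_le_mul_left _ (by omega)
      omega
  push Not at hpp
  obtain ⟨a, ha, ha'⟩ := hpp
  by_cases hall : ∀ w ∈ pp K he, Q w = 0
  · -- totally singular
    have hcl := card_cl_sing he0 ha ha' (hall a ha)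
    rw [hz] at hcl
    have hC : 2 * q ^ (2 * m - 2) ≤ (cl K he).ncard := by
      have h1 : q ^ (2 * m - 1) = q * q ^ (2 * m - 2) := by
        rw [← pow_succ', show 2 * m - 2 + 1 = 2 * m - 1 by omega]
      have h3 : q ≤ q ^ (2 * m - 2) := Nat.le_self_pow (by omega) _
      have h4 : 3 * q ^ (2 * m - 2) ≤ q * q ^ (2 * m - 2) := Nat.mul_le_mul_right _ (by omega)
      omega
    refine hT.trans ?_
    by_cases hs2 : q ^ 2 < Nat.card (pp K he)
    · have hj := finrank_span_pp_le h.nd hall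
      rw [h.rank] at hj
      have h1 := cl_bound_ts h.nd hn he0 he hs2 (j := m) (by omega)
      rw [h.rank, show 2 * (2 * m + 1) - 5 = 4 * m - 3 by omega] at h1
      refine Nat.le_of_mul_le_mul_right (c := q ^ (3 * m - 1)) ?_ (pow_pos (by omega) _)
      calc 2 * q ^ (2 * m - 1) * q ^ (3 * m - 1)
          ≤ 2 * q ^ (2 * m - 2) * q ^ (4 * m - 3) := by
            rw [mul_assoc, mul_assoc, ← pow_add, ← pow_add]
            exact Nat.mul_le_mul_left _ (Nat.pow_le_pow_right (by omega) (by omega))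
        _ ≤ (cl K he).ncard * q ^ (4 * m - 3) := Nat.mul_le_mul_right _ hC
        _ ≤ K.index * q ^ (m - 1) * q ^ m * q ^ m := h1.trans (Nat.mul_le_mul
            (Nat.mul_le_mul_left _ hs) ((Nat.sub_le _ _).trans hs))
        _ = _ := by
            rw [mul_assoc, mul_assoc, ← pow_add, ← pow_add]
            congr 2; omega
    · push Not at hs2
      have h1 := cl_bound h.nd hn he0 he (K := K)
      rw [h.rank, show 2 * m + 1 - 1 = 2 * m by omega] at h1
      refine Nat.le_of_mul_le_mul_right (c := q ^ 4) ?_ (pow_pos (by omega) _)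
      calc 2 * q ^ (2 * m - 1) * q ^ 4
          ≤ 2 * q ^ (2 * m - 2) * q ^ (2 * m) := by
            rw [mul_assoc, mul_assoc, ← pow_add, ← pow_add]
            exact Nat.mul_le_mul_left _ (Nat.pow_le_pow_right (by omega) (by omega))
        _ ≤ (cl K he).ncard * q ^ (2 * m) := Nat.mul_le_mul_right _ hC
        _ ≤ K.index * q ^ 2 * q ^ 2 := h1.trans (Nat.mul_le_mul
            (Nat.mul_le_mul_left _ hs2) ((Nat.sub_le _ _).trans hs2))
        _ = _ := by rw [mul_assoc, ← pow_add]
  · -- an anisotropic parameter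
    push Not at hall
    obtain ⟨b, hb, hb0⟩ := hall
    have hcl := card_cl_aniso hb hb0 hL
    rw [gd_odd h2] at hcl
    have h1 := cl_bound h.nd hn he0 he (K := K)
    rw [h.rank, show 2 * m + 1 - 1 = 2 * m by omega] at h1
    set L := q ^ (2 * m - 1) - q ^ m with hLdef
    have hss : Nat.card (pp K he) * (Nat.card (pp K he) - q) ≤ q * L := by
      refine (Nat.mul_le_mul hs (Nat.sub_le_sub_right hs q)).trans (le_of_eq ?_)
      rw [hLdef, Nat.mul_sub, Nat.mul_sub, ← pow_succ', ← pow_succ', ← pow_add, ← pow_succ]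
      congr 2; omega
    have hLpos : 0 < L := by
      have : q ^ m < q ^ (2 * m - 1) := Nat.pow_lt_pow_right (by omega) (by omega)
      omega
    refine hT.trans ?_
    refine Nat.le_of_mul_le_mul_right (c := 2 * q * L) ?_ (by positivity)
    calc 2 * q ^ (2 * m - 1) * (2 * q * L) = 4 * L * q ^ (2 * m) := by rw [hsucc]; ring
      _ ≤ (q - 1) * L * q ^ (2 * m) :=
          Nat.mul_le_mul_right _ (Nat.mul_le_mul_right _ (by omega))
      _ ≤ 2 * ((cl K he).ncard * q ^ (2 * m)) := by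
          rw [← mul_assoc]; exact Nat.mul_le_mul_right _ hcl
      _ ≤ 2 * (K.index * (Nat.card (pp K he) * (Nat.card (pp K he) - q))) := by
          rw [← mul_assoc K.index]; exact Nat.mul_le_mul_left _ h1
      _ ≤ 2 * (K.index * (q * L)) := Nat.mul_le_mul_left _ (Nat.mul_le_mul_left _ hss)
      _ = _ := by ring

omit [Fintype F] in
/-- The point stabiliser as a witness. -/
theorem exists_point_index [Finite F] {ι : Type} [Fintype ι] [DecidableEq ι]
    {Q : QuadraticForm F (ι → F)} (hQ : Nondeg Q) (h5 : 5 ≤ finrank F (ι → F)) :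
    ∃ K : Subgroup (EG Q), Subgroup.center (EG Q) ≤ K ∧
      K.index = singCard Q / (Nat.card F - 1) := by
  obtain ⟨e, he0, he⟩ := OrthOmega.exists_singular hQ (by omega)
  refine ⟨pStab Q e, center_le_of_line hQ h5, ?_⟩
  rw [← pStab_index hQ (by omega) he0 he, Nat.mul_div_cancel]
  have : 2 ≤ Nat.card F := Finite.one_lt_card
  omega

end Cfsg.Agent.Lib.MinIndexOmega
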