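import Mathlib
import Cfsg.Agent.Lib.MinIndexOmega.Odd

/-!
Lib/MinIndexOmega/Even: forms of even dimension, the bounds away from the exception.
-/

set_option autoImplicit false

namespace Cfsg.Agent.Lib.MinIndexOmega

open Module QuadraticMap Cfsg.Agent.Lib.Forms Cfsg.Agent.Lib.OrthOmega Cfsg.Agent.Lib.AutPOmega
open Cfsg.Agent.Lib.OrthStd

variable {F : Type*} [Field F] [Fintype F] {V : Type*} [AddCommGroup V] [Module F V]
variable [FiniteDimensional F V] {Q : QuadraticForm F V} {m : ℕ}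

/-- What is used about a form of an even series. -/
structure EvenData (Q : QuadraticForm F V) (m : ℕ) : Prop where
  nd : Nondeg Q
  rank : finrank F V = 2 * m
  zero_ge : Nat.card F ^ (2 * m - 1) + Nat.card F ^ (m - 1) ≤ levelCard Q 0 + Nat.card F ^ m
  zero_le : levelCard Q 0 + Nat.card F ^ (m - 1) ≤ Nat.card F ^ (2 * m - 1) + Nat.card F ^ m
  nonzero : ∀ c : F, c ≠ 0 → Nat.card F ^ (2 * m - 1) ≤ levelCard Q c + Nat.card F ^ (m - 1)

theorem lev_even (h : EvenData Q m) (hm : 1 ≤ m) {e : V} (he0 : e ≠ 0) (he : Q e = 0) (c : F) :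
    (lev Q e c).ncard + Nat.card F ^ (2 * m - 1) =
      levelCard Q c + Nat.card F ^ (2 * m - 2) := by
  have h1 := lev_add h.nd he0 he c
  rw [h.rank, Nat.sub_mul, one_mul, show Nat.card F * Nat.card F ^ (2 * m - 2) =
    Nat.card F ^ (2 * m - 1) by
      rw [← pow_succ', show 2 * m - 2 + 1 = 2 * m - 1 by omega]] at h1
  have : Nat.card F ^ (2 * m - 2) ≤ Nat.card F ^ (2 * m - 1) :=
    Nat.pow_le_pow_right Nat.card_pos (by omega)
  omega

theorem EvenData.lev_nonzero (h : EvenData Q m) (hm : 1 ≤ m) {e : V} (he0 : e ≠ 0) (he : Q e = 0)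
    {c : F} (hc : c ≠ 0) :
    Nat.card F ^ (2 * m - 2) - Nat.card F ^ (m - 1) ≤ (lev Q e c).ncard := by
  have h1 := lev_even h hm he0 he c
  have h2 := h.nonzero c hc
  omega

/-- An anisotropic parameter. -/
theorem even_aniso (h : EvenData Q m) (hm : 4 ≤ m) {p : ℕ} (hp : p.Prime) [CharP F p]
    {K : Subgroup (EG Q)} {e : V} (he0 : e ≠ 0) (he : Q e = 0)
    (hs : Nat.card (pp K he) ≤ Nat.card F ^ m) {b : V} (hb : b ∈ pp K he) (hb0 : Q b ≠ 0) :
    p * (Nat.card F - 1) * Nat.card F ^ (3 * m - 7) ≤ gd F * K.index := by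
  have hn : 7 ≤ finrank F V := by rw [h.rank]; omega
  have hcl := card_cl_aniso hb hb0
    (fun d hd => h.lev_nonzero (show 1 ≤ m by omega) he0 he hd)
  have hq : 2 ≤ Nat.card F := Finite.one_lt_card
  have hpq : p ≤ Nat.card F := by
    obtain ⟨k, -, hk⟩ := FiniteField.card F p
    rw [Nat.card_eq_fintype_card, hk]
    exact Nat.le_self_pow k.2.ne' _
  set q := Nat.card F with hqdef
  set L := q ^ (2 * m - 2) - q ^ (m - 1) with hLdef
  have hL : q ^ (2 * m - 3) ≤ L := by
    have h1 : q ^ (2 * m - 2) = q * q ^ (2 * m - 3) := by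
      rw [← pow_succ', show 2 * m - 3 + 1 = 2 * m - 2 by omega]
    have h2 : q ^ (m - 1) ≤ q ^ (2 * m - 3) := Nat.pow_le_pow_right (by omega) (by omega)
    have h3 : 2 * q ^ (2 * m - 3) ≤ q * q ^ (2 * m - 3) := Nat.mul_le_mul_right _ hq
    omega
  have hpos : 0 < L := lt_of_lt_of_le (pow_pos (by omega) _) hL
  by_cases hs2 : q ^ 2 < Nat.card (pp K he)
  · have h1 := cl_bound_char h.nd hn hp he0 he hs2
    rw [h.rank, ← hqdef, show 2 * (2 * m) - 5 = 4 * m - 5 by omega] at h1
    have hsub : q * (q ^ (m - 1) - 1) * q ^ (m - 1) = q * L := by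
      rw [hLdef, mul_assoc, Nat.sub_mul, one_mul, ← pow_add]
      congr 3; omega
    have hss : Nat.card (pp K he) * Nat.card (pp K he) * (Nat.card (pp K he) - q) * q ^ (m - 1) ≤
        q ^ (2 * m + 1) * L := by
      have h2 : Nat.card (pp K he) - q ≤ q * (q ^ (m - 1) - 1) := by
        rw [Nat.mul_sub, mul_one, ← pow_succ', show m - 1 + 1 = m by omega]
        omega
      calc _ ≤ q ^ m * q ^ m * (q * (q ^ (m - 1) - 1)) * q ^ (m - 1) :=
            Nat.mul_le_mul_right _ (Nat.mul_le_mul (Nat.mul_le_mul hs hs) h2)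
        _ = q ^ m * q ^ m * (q * L) := by rw [← hsub]; ring
        _ = _ := by rw [pow_succ, two_mul, pow_add]; ring
    refine Nat.le_of_mul_le_mul_right (c := q ^ (2 * m + 1) * L) ?_
      (Nat.mul_pos (pow_pos (by omega) _) hpos)
    calc p * (q - 1) * q ^ (3 * m - 7) * (q ^ (2 * m + 1) * L)
        = p * ((q - 1) * L) * (q ^ (4 * m - 5) * q ^ (m - 1)) := by
          rw [← pow_add, show 4 * m - 5 + (m - 1) = 3 * m - 7 + (2 * m + 1) by omega, pow_add]
          ring
      _ ≤ p * (gd F * (cl K he).ncard) * (q ^ (4 * m - 5) * q ^ (m - 1)) :=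
          Nat.mul_le_mul_right _ (Nat.mul_le_mul_left _ hcl)
      _ = gd F * (p * (cl K he).ncard * q ^ (4 * m - 5)) * q ^ (m - 1) := by ring
      _ ≤ gd F * (K.index * Nat.card (pp K he) * Nat.card (pp K he) *
            (Nat.card (pp K he) - q)) * q ^ (m - 1) :=
          Nat.mul_le_mul_right _ (Nat.mul_le_mul_left _ h1)
      _ = gd F * K.index * (Nat.card (pp K he) * Nat.card (pp K he) *
            (Nat.card (pp K he) - q) * q ^ (m - 1)) := by ring
      _ ≤ _ := Nat.mul_le_mul_left _ hss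
  · push Not at hs2
    have h1 := cl_bound h.nd hn he0 he (K := K)
    rw [h.rank, ← hqdef] at h1
    refine Nat.le_of_mul_le_mul_right (c := q ^ 4) ?_ (pow_pos (by omega) _)
    calc p * (q - 1) * q ^ (3 * m - 7) * q ^ 4
        ≤ q * (q - 1) * q ^ (3 * m - 7) * q ^ 4 :=
          Nat.mul_le_mul_right _ (Nat.mul_le_mul_right _ (Nat.mul_le_mul_right _ hpq))
      _ = (q - 1) * q ^ (3 * m - 2) := by
          rw [show 3 * m - 2 = 1 + (3 * m - 7) + 4 by omega, pow_add, pow_add, pow_one]; ring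
      _ ≤ (q - 1) * L * q ^ (2 * m - 1) := by
          rw [mul_assoc]
          refine Nat.mul_le_mul_left _ (le_trans ?_ (Nat.mul_le_mul_right _ hL))
          rw [← pow_add]
          exact Nat.pow_le_pow_right (by omega) (by omega)
      _ ≤ gd F * ((cl K he).ncard * q ^ (2 * m - 1)) := by
          rw [← mul_assoc]; exact Nat.mul_le_mul_right _ hcl
      _ ≤ gd F * (K.index * q ^ 2 * q ^ 2) := Nat.mul_le_mul_left _ (h1.trans (Nat.mul_le_mul
          (Nat.mul_le_mul_left _ hs2) ((Nat.sub_le _ _).trans hs2)))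
      _ = _ := by rw [← mul_assoc, ← mul_assoc, mul_assoc _ (q ^ 2), ← pow_add]

theorem card_pp_le_span (K : Subgroup (EG Q)) {e : V} (he : Q e = 0) :
    Nat.card (pp K he) ≤ Nat.card F ^ finrank F (Submodule.span F (pp K he : Set V)) := by
  haveI := finite_V F V
  rw [← Module.natCard_eq_pow_finrank (K := F)]
  exact Nat.card_le_card_of_injective
    (fun w => (⟨w.1, Submodule.subset_span w.2⟩ : Submodule.span F (pp K he : Set V)))
    fun w w' h => Subtype.ext (congrArg (fun z => z.1) h)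

theorem EvenData.cl_sing_ge (h : EvenData Q m) (hm : 4 ≤ m) {K : Subgroup (EG Q)} {e : V}
    (he0 : e ≠ 0) (he : Q e = 0) {a : V} (ha : a ∈ pp K he) (ha' : ∀ t : F, a ≠ t • e)
    (h0 : Q a = 0) : Nat.card F ^ (2 * m - 3) ≤ (cl K he).ncard := by
  have hcl := card_cl_sing he0 ha ha' h0
  have h1 := lev_even h (show 1 ≤ m by omega) he0 he 0
  have h2 := h.zero_ge
  have hq : 2 ≤ Nat.card F := Finite.one_lt_card
  have h3 : Nat.card F ^ (2 * m - 2) = Nat.card F * Nat.card F ^ (2 * m - 3) := by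
    rw [← pow_succ', show 2 * m - 3 + 1 = 2 * m - 2 by omega]
  have h4 : Nat.card F ^ m ≤ Nat.card F ^ (2 * m - 3) :=
    Nat.pow_le_pow_right (by omega) (by omega)
  have h5 : Nat.card F ≤ Nat.card F ^ (m - 1) := Nat.le_self_pow (by omega) _
  have h6 : 2 * Nat.card F ^ (2 * m - 3) ≤ Nat.card F * Nat.card F ^ (2 * m - 3) :=
    Nat.mul_le_mul_right _ hq
  omega

/-- Singular parameters. -/
theorem even_ts (h : EvenData Q m) {K : Subgroup (EG Q)} {e : V} (he0 : e ≠ 0) (he : Q e = 0)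
    {a j : ℕ} (hm : 4 ≤ m) (hj : 2 * m + 1 ≤ 3 * j)
    (hC : Nat.card F ^ a ≤ (cl K he).ncard)
    (hdim : finrank F (Submodule.span F (pp K he : Set V)) ≤ j) :
    Nat.card F ^ (a + 4 * m - 4) ≤ K.index * Nat.card F ^ (3 * j) := by
  have hn : 7 ≤ finrank F V := by rw [h.rank]; omega
  have hq : 0 < Nat.card F := Nat.card_pos
  have hs : Nat.card (pp K he) ≤ Nat.card F ^ j :=
    (card_pp_le_span K he).trans (Nat.pow_le_pow_right hq hdim)
  set q := Nat.card F with hqdef
  by_cases hs2 : q ^ 2 < Nat.card (pp K he)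
  · have h1 := cl_bound_ts h.nd hn he0 he hs2 hdim
    rw [h.rank, ← hqdef, show 2 * (2 * m) - 5 = 4 * m - 5 by omega] at h1
    calc q ^ (a + 4 * m - 4) = q ^ a * q ^ (4 * m - 5) * q := by
          rw [← pow_add, ← pow_succ]; congr 1; omega
      _ ≤ (cl K he).ncard * q ^ (4 * m - 5) * q :=
          Nat.mul_le_mul_right _ (Nat.mul_le_mul_right _ hC)
      _ ≤ K.index * q ^ (j - 1) * q ^ j * q ^ j * q :=
          Nat.mul_le_mul_right _ (h1.trans (Nat.mul_le_mul (Nat.mul_le_mul_left _ hs)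
            ((Nat.sub_le _ _).trans hs)))
      _ = _ := by
          rw [mul_assoc, mul_assoc, mul_assoc, ← pow_succ, ← pow_add, ← pow_add]
          congr 2; omega
  · push Not at hs2
    have h1 := cl_bound h.nd hn he0 he (K := K)
    rw [h.rank, ← hqdef] at h1
    calc q ^ (a + 4 * m - 4) ≤ q ^ (a + (2 * m - 1)) * q ^ (3 * j - 4) := by
          rw [← pow_add]; exact Nat.pow_le_pow_right hq (by omega)
      _ ≤ (cl K he).ncard * q ^ (2 * m - 1) * q ^ (3 * j - 4) := by
          rw [pow_add]; exact Nat.mul_le_mul_right _ (Nat.mul_le_mul_right _ hC)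
      _ ≤ K.index * q ^ 2 * q ^ 2 * q ^ (3 * j - 4) :=
          Nat.mul_le_mul_right _ (h1.trans (Nat.mul_le_mul (Nat.mul_le_mul_left _ hs2)
            ((Nat.sub_le _ _).trans hs2)))
      _ = _ := by
          rw [mul_assoc, mul_assoc, ← pow_add, ← pow_add]
          congr 2; omega

theorem gd_mul_le (hq4 : 4 ≤ Nat.card F) {p : ℕ} (hp : p.Prime) [CharP F p] :
    gd F * (Nat.card F + 2) ≤ p * (Nat.card F - 1) := by
  by_cases h2 : (2 : F) = 0
  · rw [gd_even h2, one_mul]
    have := Nat.mul_le_mul_right (Nat.card F - 1) hp.two_le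
    omega
  · rw [gd_odd h2]
    have hp2 : p ≠ 2 := by
      rintro rfl
      exact h2 (by exact_mod_cast CharP.cast_eq_zero F 2)
    have hp3 : 3 ≤ p := by have := hp.two_le; omega
    obtain ⟨k, -, hk⟩ := FiniteField.card F p
    rw [← Nat.card_eq_fintype_card] at hk
    have h3 := Nat.mul_le_mul_right (Nat.card F - 1) hp3
    rcases lt_or_ge (Nat.card F) 7 with h7 | h7
    · have hk1 : (k : ℕ) = 1 := by
        by_contra hne
        have : 2 ≤ (k : ℕ) := by have := k.pos; omega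
        have h9 : 3 ^ 2 ≤ Nat.card F :=
          hk ▸ (Nat.pow_le_pow_left hp3 2).trans (Nat.pow_le_pow_right hp.pos this)
        omega
      rw [hk1, pow_one] at hk
      have h4 : p * 3 ≤ p * (Nat.card F - 1) := Nat.mul_le_mul_left _ (by omega)
      have : p ≠ 6 := fun h => by rw [h] at hp; norm_num at hp
      have : p ≠ 4 := fun h => by rw [h] at hp; norm_num at hp
      have h5 : Nat.card F = 5 := by omega
      rw [h5] at hk
      rw [h5, ← hk]
      norm_num
    · omega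

/-- The cases away from singular parameters, `q ≥ 4`. -/
theorem even_main (h : EvenData Q m) (hm : 4 ≤ m) (hq4 : 4 ≤ Nat.card F) {T : ℕ}
    (hT : T * (Nat.card F - 1) ≤ singCard Q) {K : Subgroup (EG Q)} {e : V} (he0 : e ≠ 0)
    (he : Q e = 0) (hs : Nat.card (pp K he) ≤ Nat.card F ^ m) :
    T ≤ K.index ∨ (T ≤ Nat.card F ^ (2 * m - 2) + 2 * Nat.card F ^ (2 * m - 3) ∧
      (∀ w ∈ pp K he, Q w = 0) ∧ ∃ a ∈ pp K he, ∀ t : F, a ≠ t • e) := by
  classical
  have hn : 7 ≤ finrank F V := by rw [h.rank]; omega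
  have hz := h.zero_le
  have hsc := singCard_eq Q
  obtain ⟨p, hchar⟩ := CharP.exists F
  have hp : p.Prime := CharP.char_is_prime F p
  have hgd := gd_mul_le (F := F) hq4 hp
  set q := Nat.card F with hqdef
  have e1 : q ^ (2 * m - 2) = q * q ^ (2 * m - 3) := by
    rw [← pow_succ', show 2 * m - 3 + 1 = 2 * m - 2 by omega]
  have e2 : q ^ (2 * m - 1) = q * q ^ (2 * m - 2) := by
    rw [← pow_succ', show 2 * m - 2 + 1 = 2 * m - 1 by omega]
  have e3 : q ^ m ≤ q ^ (2 * m - 3) := Nat.pow_le_pow_right (by omega) (by omega)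
  have e4 : q ^ (m - 1) ≤ q ^ (2 * m - 2) := Nat.pow_le_pow_right (by omega) (by omega)
  set X := q ^ (2 * m - 3) with hX
  have hB : T ≤ q ^ (2 * m - 2) + 2 * X := by
    refine Nat.le_of_mul_le_mul_right (hT.trans ?_) (show 0 < q - 1 by omega)
    rw [hsc, e1, ← Nat.add_mul]
    calc levelCard Q 0 - 1 ≤ q * (q * X) + X := by rw [← e1, ← e2]; omega
      _ ≤ (q + 2) * X * (q - 1) := by
          obtain ⟨r, hr⟩ : ∃ r, q = r + 4 := ⟨q - 4, by omega⟩
          rw [hr, show r + 4 - 1 = r + 3 by omega]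
          nlinarith [Nat.zero_le (X * r)]
  by_cases hpp : ∀ w ∈ pp K he, ∃ t : F, w = t • e
  · left
    refine bot_bound h.nd hn he0 he hpp (hasLevi_of_torus h.nd hn he0 he hpp hq4) hT ?_
      fun c hc => ?_
    · rw [h.rank, ← hqdef, e1]
      have : 4 * X ≤ q * X := Nat.mul_le_mul_right _ hq4
      rw [e1] at hB
      omega
    · have h1 := h.nonzero c hc
      rw [← hqdef, e2] at h1
      have h2 : T * gd F ≤ T * 2 := Nat.mul_le_mul_left _ gd_le_two
      have h3 : 4 * q ^ (2 * m - 2) ≤ q * q ^ (2 * m - 2) := Nat.mul_le_mul_right _ hq4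
      have : 4 * X ≤ q * X := Nat.mul_le_mul_right _ hq4
      omega
  push Not at hpp
  by_cases hall : ∀ w ∈ pp K he, Q w = 0
  · exact Or.inr ⟨hB, hall, hpp⟩
  left
  push Not at hall
  obtain ⟨b, hb, hb0⟩ := hall
  have h1 := even_aniso h hm hp he0 he hs hb hb0
  have hg : 0 < gd F := by
    rcases eq_or_ne (2 : F) 0 with h2 | h2
    · rw [gd_even h2]; omega
    · rw [gd_odd h2]; omega
  refine Nat.le_of_mul_le_mul_left ?_ hg
  calc gd F * T ≤ gd F * (q ^ (2 * m - 2) + 2 * X) := Nat.mul_le_mul_left _ hB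
    _ = gd F * (q + 2) * X := by rw [e1]; ring
    _ ≤ p * (q - 1) * q ^ (3 * m - 7) :=
        Nat.mul_le_mul hgd (Nat.pow_le_pow_right (by omega) (by omega))
    _ ≤ _ := h1

end Cfsg.Agent.Lib.MinIndexOmega
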