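import Mathlib
import Cfsg.Agent.Lib.MinIndexOmega.Even
import Cfsg.Agent.Lib.Forms.Bridge
import Cfsg.Agent.Lib.AutPOmega.Bridge

/-!
Lib/MinIndexOmega/EvenSeries: the plus and the minus series.
-/

set_option autoImplicit false

namespace Cfsg.Agent.Lib.MinIndexOmega

open Module QuadraticMap Cfsg.Agent.Lib.Forms Cfsg.Agent.Lib.OrthOmega Cfsg.Agent.Lib.AutPOmega
open Cfsg.Agent.Lib.OrthStd

variable {F : Type*} [Field F] [Fintype F]

/-- A form of plus type. -/
structure PlusData {V : Type*} [AddCommGroup V] [Module F V] [FiniteDimensional F V]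
    (Q : QuadraticForm F V) (m : ℕ) : Prop extends EvenData Q m where
  zero : levelCard Q 0 + Nat.card F ^ (m - 1) = Nat.card F ^ (2 * m - 1) + Nat.card F ^ m

/-- A form of minus type. -/
structure MinusData {V : Type*} [AddCommGroup V] [Module F V] [FiniteDimensional F V]
    (Q : QuadraticForm F V) (m : ℕ) : Prop extends EvenData Q m where
  zero : levelCard Q 0 + Nat.card F ^ m = Nat.card F ^ (2 * m - 1) + Nat.card F ^ (m - 1)
  value : ∀ c : F, c ≠ 0 → levelCard Q c = Nat.card F ^ (2 * m - 1) + Nat.card F ^ (m - 1)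
  witt : ∀ U : Submodule F V, (∀ v ∈ U, Q v = 0) → finrank F U ≤ m - 1

theorem plusData_qPlus {m : ℕ} (hm : 1 ≤ m) : PlusData (qPlus (F := F) m) m := by
  have hz : levelCard (qPlus (F := F) m) 0 + Nat.card F ^ (m - 1) =
      Nat.card F ^ (2 * m - 1) + Nat.card F ^ m := by
    have h := card_zeros_plus (F := F) rfl m hm
    rw [show Nat.card {v : Fin m ⊕ Fin m → F // Cfsg.quadFormPlus m F v = 0} =
      levelCard (qPlus (F := F) m) 0 from
        Nat.card_congr (Equiv.subtypeEquivRight fun v => by rw [quadFormPlus_eq])] at h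
    rw [Nat.card_eq_fintype_card (α := F), h]
    have : Fintype.card F ^ (m - 1) ≤ Fintype.card F ^ m :=
      Nat.pow_le_pow_right Fintype.card_pos (by omega)
    omega
  have hle : Nat.card F ^ (m - 1) ≤ Nat.card F ^ m := Nat.pow_le_pow_right Nat.card_pos (by omega)
  refine ⟨⟨qPlus_nondeg m, by rw [finrank_fun]; simp; omega, ?_, hz.le, fun c hc => ?_⟩, hz⟩
  · omega
  · rw [levelCard_qPlus m hc, Nat.sub_mul, one_mul, ← pow_add,
      show m + (m - 1) = 2 * m - 1 by omega]
    omega

theorem minusData_qMinusC {m : ℕ} (hm : 1 ≤ m) {a b : F}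
    (hab : ∀ z₁ z₂ : F, z₁ ^ 2 + a * z₁ * z₂ + b * z₂ ^ 2 = 0 → z₁ = 0 ∧ z₂ = 0) :
    MinusData (qMinusC (m - 1) a b) m := by
  have hz : levelCard (qMinusC (m - 1) a b) 0 + Nat.card F ^ m =
      Nat.card F ^ (2 * m - 1) + Nat.card F ^ (m - 1) := by
    have h := card_zeros_minus (F := F) rfl m hm hab
    rw [show Nat.card {v : (Fin (m - 1) ⊕ Fin (m - 1)) ⊕ Fin 2 → F //
        Cfsg.quadFormMinus (m - 1) F a b v = 0} = levelCard (qMinusC (m - 1) a b) 0 from
        Nat.card_congr (Equiv.subtypeEquivRight fun v => by rw [quadFormMinus_eq])] at h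
    rw [Nat.card_eq_fintype_card (α := F), h]
    have h1 : Fintype.card F ^ m ≤ Fintype.card F ^ (2 * m - 1) :=
      Nat.pow_le_pow_right Fintype.card_pos (by omega)
    omega
  have hle : Nat.card F ^ (m - 1) ≤ Nat.card F ^ m := Nat.pow_le_pow_right Nat.card_pos (by omega)
  have hval : ∀ c : F, c ≠ 0 → levelCard (qMinusC (m - 1) a b) c =
      Nat.card F ^ (2 * m - 1) + Nat.card F ^ (m - 1) := by
    intro c hc
    rw [levelCard, card_level_congr ⟨minusIso (m - 1) a b⟩]
    show levelCard ((qPlus (F := F) (m - 1)).prod (qBin a b)) c = _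
    rw [levelCard_plus_prod, levelCard_qBin hab hc, Module.finrank_fin_fun, Nat.sub_mul, one_mul,
      ← pow_add, show m - 1 + (m - 1 + 2 - 1) = 2 * m - 1 by omega, show m - 1 + 2 - 1 = m by omega,
      mul_add, mul_one, ← pow_succ, show m - 1 + 1 = m by omega]
    have h1 : Nat.card F ^ m ≤ Nat.card F ^ (2 * m - 1) :=
      Nat.pow_le_pow_right Nat.card_pos (by omega)
    omega
  refine ⟨⟨qMinusC_nondeg (m - 1) hab, by rw [finrank_fun]; simp; omega, hz.ge, ?_, fun c hc => ?_⟩,
    hz, hval, fun U hU => finrank_sing_minus hab hU⟩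
  · omega
  · rw [hval c hc]; omega

variable {V : Type*} [AddCommGroup V] [Module F V] [FiniteDimensional F V]
variable {Q : QuadraticForm F V} {m : ℕ}

/-- The minus series, `q ≥ 4`. -/
theorem minus_bound (h : MinusData Q m) (hm : 4 ≤ m) (hq4 : 4 ≤ Nat.card F) {T : ℕ}
    (hT : T * (Nat.card F - 1) ≤ singCard Q) {K : Subgroup (EG Q)} (hK : K ≠ ⊤) :
    T ≤ K.index := by
  obtain ⟨e, he, he0, hs⟩ := exists_small h.nd (by rw [h.rank]; omega) hK
  rw [h.rank, show 2 * m / 2 = m by omega] at hs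
  rcases even_main h.toEvenData hm hq4 hT he0 he hs with hle | ⟨hB, hall, a, ha, ha'⟩
  · exact hle
  have hC := h.cl_sing_ge hm he0 he ha ha' (hall a ha)
  have h1 := even_ts h.toEvenData he0 he hm (show 2 * m + 1 ≤ 3 * (m - 1) by omega) hC
    (h.witt _ (span_pp_singular hall))
  refine hB.trans ?_
  refine Nat.le_of_mul_le_mul_right (le_trans ?_ h1) (pow_pos Nat.card_pos _)
  calc (Nat.card F ^ (2 * m - 2) + 2 * Nat.card F ^ (2 * m - 3)) * Nat.card F ^ (3 * (m - 1))
      ≤ Nat.card F ^ (2 * m - 1) * Nat.card F ^ (3 * (m - 1)) := by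
        refine Nat.mul_le_mul_right _ ?_
        have h2 : Nat.card F ^ (2 * m - 3) ≤ Nat.card F ^ (2 * m - 2) :=
          Nat.pow_le_pow_right Nat.card_pos (by omega)
        have h3 : 4 * Nat.card F ^ (2 * m - 2) ≤ Nat.card F ^ (2 * m - 1) := by
          rw [show 2 * m - 1 = 2 * m - 2 + 1 by omega, pow_succ']
          exact Nat.mul_le_mul_right _ hq4
        omega
    _ ≤ _ := by rw [← pow_add]; exact Nat.pow_le_pow_right Nat.card_pos (by omega)

theorem PlusData.cl_sing_ge' (h : PlusData Q m) (hm : 4 ≤ m) {K : Subgroup (EG Q)} {e : V}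
    (he0 : e ≠ 0) (he : Q e = 0) {a : V} (ha : a ∈ pp K he) (ha' : ∀ t : F, a ≠ t • e)
    (h0 : Q a = 0) : Nat.card F ^ (2 * m - 2) ≤ (cl K he).ncard := by
  have hcl := card_cl_sing he0 ha ha' h0
  have h1 := lev_even h.toEvenData (show 1 ≤ m by omega) he0 he 0
  have h2 := h.zero
  have hq : 2 ≤ Nat.card F := Finite.one_lt_card
  have h5 : Nat.card F ≤ Nat.card F ^ (m - 1) := Nat.le_self_pow (by omega) _
  have h6 : 2 * Nat.card F ^ (m - 1) ≤ Nat.card F ^ m := by
    rw [show Nat.card F ^ m = Nat.card F * Nat.card F ^ (m - 1) by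
      rw [← pow_succ', show m - 1 + 1 = m by omega]]
    exact Nat.mul_le_mul_right _ hq
  omega

/-- The plus series: a point outside the exception. -/
theorem plus_point (h : PlusData Q m) (hm : 4 ≤ m) (hq4 : 4 ≤ Nat.card F) {T : ℕ}
    (hT : T * (Nat.card F - 1) ≤ singCard Q) {K : Subgroup (EG Q)} {e : V} (he0 : e ≠ 0)
    (he : Q e = 0) (hs : Nat.card (pp K he) ≤ Nat.card F ^ m) :
    T ≤ K.index ∨ (m = 4 ∧ Nat.card (pp K he) = Nat.card F ^ 4 ∧ ∀ w ∈ pp K he, Q w = 0) := by
  classical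
  haveI := finite_V F V
  rcases even_main h.toEvenData hm hq4 hT he0 he hs with hle | ⟨hB, hall, a, ha, ha'⟩
  · exact Or.inl hle
  have hC := h.cl_sing_ge' hm he0 he ha ha' (hall a ha)
  have hdim := finrank_span_pp_le h.nd hall
  rw [h.rank] at hdim
  have hdim' : finrank F (Submodule.span F (pp K he : Set V)) ≤ m := by omega
  have hB2 : T ≤ 2 * Nat.card F ^ (2 * m - 2) := by
    refine hB.trans ?_
    have h3 : 4 * Nat.card F ^ (2 * m - 3) ≤ Nat.card F ^ (2 * m - 2) := by
      rw [show 2 * m - 2 = 2 * m - 3 + 1 by omega, pow_succ']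
      exact Nat.mul_le_mul_right _ hq4
    omega
  rcases (show 5 ≤ m ∨ m = 4 by omega) with h5 | rfl
  · left
    have h1 := even_ts h.toEvenData he0 he hm (show 2 * m + 1 ≤ 3 * m by omega) hC hdim'
    refine hB2.trans ?_
    refine Nat.le_of_mul_le_mul_right (le_trans ?_ h1) (pow_pos Nat.card_pos _)
    calc 2 * Nat.card F ^ (2 * m - 2) * Nat.card F ^ (3 * m)
        ≤ Nat.card F * Nat.card F ^ (2 * m - 2) * Nat.card F ^ (3 * m) :=
          Nat.mul_le_mul_right _ (Nat.mul_le_mul_right _ (by omega))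
      _ ≤ _ := by
          rw [← pow_succ', ← pow_add]
          exact Nat.pow_le_pow_right Nat.card_pos (by omega)
  by_cases hfull : Nat.card (pp K he) = Nat.card F ^ 4
  · exact Or.inr ⟨rfl, hfull, hall⟩
  left
  obtain ⟨p, hchar⟩ := CharP.exists F
  have hp : p.Prime := CharP.char_is_prime F p
  set U := Submodule.span F (pp K he : Set V)
  have hps : p * Nat.card (pp K he) ≤ Nat.card F ^ 4 := by
    by_cases hall' : ∀ b ∈ U, b ∈ pp K he
    · -- then `pp` is a subspace
      have h1 : Nat.card (pp K he) = Nat.card U := Nat.card_congr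
        { toFun := fun w => ⟨w.1, Submodule.subset_span w.2⟩
          invFun := fun w => ⟨w.1, hall' _ w.2⟩
          left_inv := fun _ => rfl
          right_inv := fun _ => rfl }
      rw [Module.natCard_eq_pow_finrank (K := F) (V := U)] at h1
      have h3 : finrank F U ≤ 3 := by
        rcases Nat.lt_or_ge (finrank F U) 4 with h4 | h4
        · omega
        · exact absurd (h1.trans (by rw [show finrank F U = 4 by omega])) hfull
      have hpq : p ≤ Nat.card F := by
        obtain ⟨k, -, hk⟩ := FiniteField.card F p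
        rw [Nat.card_eq_fintype_card, hk]
        exact Nat.le_self_pow k.2.ne' _
      rw [h1, show Nat.card F ^ 4 = Nat.card F * Nat.card F ^ 3 by ring]
      exact Nat.mul_le_mul hpq (Nat.pow_le_pow_right Nat.card_pos h3)
    · push Not at hall'
      obtain ⟨b, hb, hb'⟩ := hall'
      refine (char_mul_card_le (F := F) hp (B := U.toAddSubgroup)
        (fun w hw => Submodule.subset_span hw) hb hb').trans ?_
      show Nat.card U ≤ _
      rw [Module.natCard_eq_pow_finrank (K := F)]
      exact Nat.pow_le_pow_right Nat.card_pos hdim'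
  have hn : 7 ≤ finrank F V := by rw [h.rank]; omega
  refine hB2.trans ?_
  set q := Nat.card F with hqdef
  have h2p : 2 ≤ p := hp.two_le
  by_cases hs2 : q ^ 2 < Nat.card (pp K he)
  · have h1 := cl_bound_ts h.nd hn he0 he hs2 hdim'
    rw [h.rank, ← hqdef] at h1
    refine Nat.le_of_mul_le_mul_right (c := q ^ 11) ?_ (pow_pos (by omega) _)
    calc 2 * q ^ 6 * q ^ 11 ≤ p * p * (q ^ 6 * q ^ 11) := by
          rw [mul_assoc]
          exact Nat.mul_le_mul_right _ (h2p.trans (Nat.le_mul_of_pos_left _ hp.pos))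
      _ ≤ p * p * ((cl K he).ncard * q ^ 11) :=
          Nat.mul_le_mul_left _ (Nat.mul_le_mul_right _ hC)
      _ ≤ p * p * (K.index * q ^ 3 * Nat.card (pp K he) * (Nat.card (pp K he) - q)) :=
          Nat.mul_le_mul_left _ h1
      _ = K.index * q ^ 3 * ((p * Nat.card (pp K he)) * (p * (Nat.card (pp K he) - q))) := by ring
      _ ≤ K.index * q ^ 3 * (q ^ 4 * q ^ 4) := Nat.mul_le_mul_left _ (Nat.mul_le_mul hps
          ((Nat.mul_le_mul_left _ (Nat.sub_le _ _)).trans hps))
      _ = _ := by ring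
  · push Not at hs2
    have h1 := cl_bound h.nd hn he0 he (K := K)
    rw [h.rank, ← hqdef] at h1
    refine Nat.le_of_mul_le_mul_right (c := q ^ 4) ?_ (pow_pos (by omega) _)
    calc 2 * q ^ 6 * q ^ 4 ≤ q * q ^ 6 * q ^ 4 :=
          Nat.mul_le_mul_right _ (Nat.mul_le_mul_right _ (by omega))
      _ ≤ q ^ 6 * q ^ 7 := by
          rw [← pow_succ', ← pow_add, ← pow_add]
          exact Nat.pow_le_pow_right (by omega) (by omega)
      _ ≤ (cl K he).ncard * q ^ 7 := Nat.mul_le_mul_right _ hC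
      _ ≤ K.index * q ^ 2 * q ^ 2 :=
          h1.trans (Nat.mul_le_mul (Nat.mul_le_mul_left _ hs2) ((Nat.sub_le _ _).trans hs2))
      _ = _ := by ring

end Cfsg.Agent.Lib.MinIndexOmega
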