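import Mathlib
import Cfsg.Agent.Lib.MinIndexOmega.Levels

/-!
Lib/MinIndexOmega/Lifts: when every element of the point stabiliser lifts and the parameters are
trivial, the lifts of the root elements form a conjugate Levi part, for every field.
-/

set_option autoImplicit false
set_option linter.unusedSectionVars false

namespace Cfsg.Agent.Lib.MinIndexOmega

open Module QuadraticMap Cfsg.Agent.Lib.Forms Cfsg.Agent.Lib.OrthOmega Cfsg.Agent.Lib.AutPOmega
open scoped commutatorElement

variable {F : Type*} [Field F] [Finite F] {V : Type*} [AddCommGroup V] [Module F V]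
variable [FiniteDimensional F V] {Q : QuadraticForm F V}

/-- The elements fixing both ends of a pair. -/
def fix2 (Q : QuadraticForm F V) (e f : V) : Subgroup (EG Q) where
  carrier := {g | g.1.1 e = e ∧ g.1.1 f = f}
  one_mem' := ⟨rfl, rfl⟩
  mul_mem' := by
    rintro a b ⟨ha, ha'⟩ ⟨hb, hb'⟩
    exact ⟨by rw [eg_mul_apply, hb, ha], by rw [eg_mul_apply, hb', ha']⟩
  inv_mem' := by
    rintro a ⟨ha, ha'⟩
    exact ⟨by conv_lhs => rw [← ha, eg_inv_apply], by conv_lhs => rw [← ha', eg_inv_apply]⟩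

theorem fix2_core {e f : V} {g : EG Q} (hg : g ∈ fix2 Q e f) {w : V} (hw : w ∈ core Q e f) :
    g.1.1 w ∈ core Q e f := by
  refine mem_core.2 ⟨?_, ?_⟩
  · conv_lhs => arg 2; rw [← hg.1]
    rw [eg_polar]; exact (mem_core.1 hw).1
  · conv_lhs => arg 2; rw [← hg.2]
    rw [eg_polar]; exact (mem_core.1 hw).2

theorem el_mem_fix2 {e f x y : V} (hx : x ∈ core Q e f) (hy : y ∈ core Q e f) (h : SPair Q x y) :
    el Q x y ∈ fix2 Q e f :=
  ⟨el_fix h ((polar_comm Q _ _).trans (mem_core.1 hx).1)
      ((polar_comm Q _ _).trans (mem_core.1 hy).1),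
    el_fix h ((polar_comm Q _ _).trans (mem_core.1 hx).2)
      ((polar_comm Q _ _).trans (mem_core.1 hy).2)⟩

variable {e f : V} {K : Subgroup (EG Q)}

/-- The standing hypotheses. -/
structure LiftData (K : Subgroup (EG Q)) (e f : V) : Prop where
  pair : HypPair Q e f
  nd : Nondeg Q
  trivial : ∀ w ∈ pp K pair.left, ∃ t : F, w = t • e
  small : K.relIndex (pStab Q e) < 2 * Nat.card F ^ (finrank F V - 2)

open Classical in
/-- The parameter of the lift. -/
noncomputable def cz (K : Subgroup (EG Q)) (e f : V) (g : EG Q) : V :=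
  if h : ∃ w ∈ core Q e f, g * el Q e w ∈ K then h.choose else 0

variable (hd : LiftData K e f)

include hd

theorem cz_spec {g : EG Q} (hg : g ∈ fix2 Q e f) :
    cz K e f g ∈ core Q e f ∧ g * el Q e (cz K e f g) ∈ K := by
  have h : ∃ w ∈ core Q e f, g * el Q e w ∈ K := by
    obtain ⟨w, hw, hgw⟩ := exists_lift_of_lt hd.pair hd.trivial hd.small
      (g := g) ⟨1, one_ne_zero, by rw [one_smul]; exact hg.1⟩
    refine ⟨w + (-polar Q f w) • e, ?_, by rw [el_shift ⟨hd.pair.left, hw⟩]; exact hgw⟩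
    rw [mem_core, polar_add_right, polar_add_right, polar_smul_right, polar_smul_right,
      hd.pair.pol_ee, hd.pair.pol', hw]
    simp
  rw [cz, dif_pos h]
  exact h.choose_spec

theorem cz_unique {g : EG Q} (hg : g ∈ fix2 Q e f) {w : V} (hw : w ∈ core Q e f)
    (hK : g * el Q e w ∈ K) : cz K e f g = w := by
  obtain ⟨hc, hcK⟩ := cz_spec hd hg
  have hS : ∀ u ∈ core Q e f, SPair Q e u := fun u hu => ⟨hd.pair.left, (mem_core.1 hu).1⟩
  have h := K.mul_mem (K.inv_mem hK) hcK
  rw [mul_inv_rev, mul_assoc, inv_mul_cancel_left, el_inv, el_mul (hS w hw).neg (hS _ hc)] at h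
  have := eq_zero_of_mem hd.pair hd.trivial (add_mem (Submodule.neg_mem _ hw) hc) h
  rwa [neg_add_eq_zero, eq_comm] at this

theorem cz_one : cz K e f 1 = 0 :=
  cz_unique hd (one_mem _) (zero_mem _) (by rw [el_zero, one_mul]; exact K.one_mem)

theorem cz_mul {g h : EG Q} (hg : g ∈ fix2 Q e f) (hh : h ∈ fix2 Q e f) :
    cz K e f (g * h) = h⁻¹.1.1 (cz K e f g) + cz K e f h := by
  obtain ⟨h1, h1K⟩ := cz_spec hd hg
  obtain ⟨h2, h2K⟩ := cz_spec hd hh
  have hi := fix2_core (inv_mem hh) h1
  refine cz_unique hd (mul_mem hg hh) (add_mem hi h2) ?_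
  have h3 := el_mul_comm_of_scale hd.pair one_ne_zero (g := h) (by rw [one_smul]; exact hh.1)
    (cz K e f g)
  rw [inv_one, one_smul] at h3
  have h4 := K.mul_mem h1K h2K
  rw [mul_assoc, ← mul_assoc (el Q e (cz K e f g)), h3, mul_assoc h,
    el_mul ⟨hd.pair.left, (mem_core.1 hi).1⟩ ⟨hd.pair.left, (mem_core.1 h2).1⟩, ← mul_assoc] at h4
  exact h4

theorem cz_comm {g h : EG Q} (hg : g ∈ fix2 Q e f) (hh : h ∈ fix2 Q e f) (hc : g * h = h * g) :
    h⁻¹.1.1 (cz K e f g) - cz K e f g = g⁻¹.1.1 (cz K e f h) - cz K e f h := by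
  have h1 := cz_mul hd hg hh
  rw [hc, cz_mul hd hh hg] at h1
  have h2 : h⁻¹.1.1 (cz K e f g) = g⁻¹.1.1 (cz K e f h) + cz K e f g - cz K e f h := by
    rw [h1, add_sub_cancel_right]
  rw [h2]; abel

theorem cz_inv {g : EG Q} (hg : g ∈ fix2 Q e f) :
    cz K e f g⁻¹ = -(g.1.1 (cz K e f g)) := by
  have h1 := cz_mul hd hg (inv_mem hg)
  rw [mul_inv_cancel, cz_one hd, inv_inv] at h1
  exact eq_neg_of_add_eq_zero_right h1.symm

omit hd

/-- Two root elements with perpendicular data commute. -/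
theorem el_commute {a b x y : V} (hab : SPair Q a b) (hxa : polar Q a x = 0)
    (hxb : polar Q b x = 0) (hya : polar Q a y = 0) (hyb : polar Q b y = 0) :
    el Q x y * el Q a b = el Q a b * el Q x y := by
  have h := el_conj (el Q a b) x y
  rw [el_fix hab hxa hxb, el_fix hab hya hyb] at h
  exact (mul_inv_eq_iff_eq_mul.1 h).symm

theorem el_commute_same {x y z : V} (hy : SPair Q x y) (hz : SPair Q x z) :
    el Q x y * el Q x z = el Q x z * el Q x y := by
  rw [el_mul hy hz, el_mul hz hy, add_comm]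

theorem el_inv_apply_perp {x y u : V} (h : SPair Q x y) (hu : polar Q x u = 0) :
    ((el Q x y)⁻¹).1.1 u = u + polar Q y u • x := by
  rw [el_inv, el_apply_perp h.neg hu, polar_neg_left, neg_smul, sub_neg_eq_add]

theorem el_inv_apply {x y u : V} (h : SPair Q x y) :
    ((el Q x y)⁻¹).1.1 u =
      u - polar Q x u • y + (polar Q y u - Q y * polar Q x u) • x := by
  rw [el_inv, el_apply h.neg, QuadraticMap.map_neg, polar_neg_left, smul_neg, ← sub_eq_add_neg,
    sub_eq_add_neg (u - _) ((_ : F) • x), ← neg_smul]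
  congr 2; ring

include hd

/-- Commuting with root elements on the line's points puts the parameter orthogonal to the line. -/
theorem cz_perp {x v z : V} (hx : x ∈ core Q e f) (hv : v ∈ core Q e f) (hz : z ∈ core Q e f)
    (hl : LPair Q x v) (hxz : polar Q x z = 0) (hvz : polar Q v z = 0)
    (hzL : z ∉ Submodule.span F ({x, v} : Set V)) :
    polar Q x (cz K e f (el Q x v)) = 0 := by
  have hg := el_mem_fix2 hx hv hl.spair
  have hS : SPair Q x z := ⟨hl.qa, hxz⟩
  have hh := el_mem_fix2 hx hz hS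
  have h := cz_comm hd hg hh (el_commute_same hl.spair hS)
  rw [el_inv_apply hS, el_inv_apply hl.spair, hl.qb] at h
  by_contra hne
  refine hzL ?_
  set c := cz K e f (el Q x v)
  set c' := cz K e f (el Q x z)
  have h1 : z = (polar Q x c)⁻¹ • ((polar Q z c - Q z * polar Q x c) • x + polar Q x c' • v -
      polar Q v c' • x) := by
    rw [eq_inv_smul_iff₀ hne]
    rw [zero_mul, sub_zero] at h
    rw [← sub_eq_zero] at h ⊢
    rw [← neg_eq_zero.2 h]; module
  rw [h1]
  refine Submodule.smul_mem _ _ (sub_mem (add_mem ?_ ?_) ?_) <;>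
    exact Submodule.smul_mem _ _ (Submodule.subset_span (by simp))

/-- Commuting with a root element of the line's complement. -/
theorem cz_perp_compl {x v z w : V} (hx : x ∈ core Q e f) (hv : v ∈ core Q e f)
    (hz : z ∈ core Q e f) (hw : w ∈ core Q e f) (hl : LPair Q x v) (hzw : SPair Q z w)
    (hxz : polar Q x z = 0) (hvz : polar Q v z = 0) (hxw : polar Q x w = 0)
    (hvw : polar Q v w = 0)
    (hind : ∀ a b : F, a • z + b • w ∈ Submodule.span F ({x, v} : Set V) → a = 0 ∧ b = 0) :
    polar Q z (cz K e f (el Q x v)) = 0 ∧ polar Q w (cz K e f (el Q x v)) = 0 := by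
  have hg := el_mem_fix2 hx hv hl.spair
  have hh := el_mem_fix2 hz hw hzw
  have h := cz_comm hd hg hh (el_commute hzw ((polar_comm Q _ _).trans hxz)
    ((polar_comm Q _ _).trans hxw) ((polar_comm Q _ _).trans hvz) ((polar_comm Q _ _).trans hvw))
  rw [el_inv_apply hzw, el_inv_apply hl.spair, hl.qb] at h
  set c := cz K e f (el Q x v)
  set c' := cz K e f (el Q z w)
  obtain ⟨h1, h2⟩ := hind (polar Q w c - Q w * polar Q z c) (-(polar Q z c)) (by
    have h3 : (polar Q w c - Q w * polar Q z c) • z + (-(polar Q z c)) • w =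
        (-(polar Q x c')) • v + (polar Q v c' - 0 * polar Q x c') • x := by
      rw [← sub_eq_zero] at h ⊢
      rw [← h]; module
    rw [h3]
    exact add_mem (Submodule.smul_mem _ _ (Submodule.subset_span (by simp)))
      (Submodule.smul_mem _ _ (Submodule.subset_span (by simp))))
  rw [neg_eq_zero] at h2
  rw [h2, mul_zero, sub_zero] at h1
  exact ⟨h2, h1⟩

/-- The shape of the lift of a root element. -/
def LineLift (K : Subgroup (EG Q)) (e f : V) : Prop :=
  ∀ x v : V, x ∈ core Q e f → v ∈ core Q e f → LPair Q x v →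
    cz K e f (el Q x v) ∈ Submodule.span F ({x, v} : Set V)

/-- Two points of a residue see a common point. -/
theorem exists_common_res (h7 : 7 ≤ finrank F V) {x v w : V} (hx : x ∈ core Q e f)
    (hv : v ∈ core Q e f) (hw : w ∈ core Q e f) (hxv : LPair Q x v) (hxw : LPair Q x w) :
    ∃ u ∈ core Q e f, LPair Q x u ∧ polar Q v u ≠ 0 ∧ polar Q w u ≠ 0 := by
  set W := core Q e f
  have hW : Nondeg (res Q W) := hd.pair.nondeg_core hd.nd
  have hx0 : (⟨x, hx⟩ : W) ≠ 0 := fun h => hxv.ne (congrArg Subtype.val h)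
  obtain ⟨y, hpy⟩ := exists_hypPair hW hx0 (show res Q W ⟨x, hx⟩ = 0 from hxv.qa)
  set W1 := core (res Q W) ⟨x, hx⟩ y
  have hW1 : Nondeg (res (res Q W) W1) := hpy.nondeg_core hW
  have hdim : 3 ≤ finrank F W1 := by
    have h1 : finrank F W1 + 2 = finrank F W := hpy.finrank_core
    have h2 : finrank F W + 2 = finrank F V := hd.pair.finrank_core
    omega
  have proj : ∀ u : V, ∀ hu : u ∈ W, LPair Q x u → ∃ u₀ : W1, u₀ ≠ 0 ∧
      res (res Q W) W1 u₀ = 0 ∧ ∀ z : W1, polar Q u ((z : W) : V) = polar Q ((u₀ : W) : V) ((z : W) : V) := by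
    intro u hu hxu
    have hm := hpy.proj_mem ⟨u, hu⟩
    have h0 : polar (res Q W) ⟨x, hx⟩ ⟨u, hu⟩ = 0 := by rw [res_polar]; exact hxu.perp
    rw [h0, zero_smul, sub_zero] at hm
    refine ⟨⟨_, hm⟩, fun h => ?_, ?_, fun z => ?_⟩
    · have h1 := congrArg (fun z : W1 => ((z : W) : V)) h
      simp only [Submodule.coe_sub, Submodule.coe_smul, ZeroMemClass.coe_zero] at h1
      exact absurd (sub_eq_zero.1 h1).symm ((LinearIndependent.pair_iff' hxu.ne).1 hxu.ind _)
    · show Q (u - polar (res Q W) y ⟨u, hu⟩ • x) = 0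
      rw [sub_eq_add_neg, ← neg_smul, Q_add, Q_smul, hxu.qa, hxu.qb, polar_smul_right,
        polar_comm Q u x, hxu.perp]
      simp
    · show _ = polar Q (u - polar (res Q W) y ⟨u, hu⟩ • x) _
      have := (mem_core.1 z.2).1
      rw [res_polar] at this
      rw [polar_sub_left, polar_smul_left, this, smul_zero, sub_zero]
  obtain ⟨v₀, hv₀, hQv₀, hpv⟩ := proj v hv hxv
  obtain ⟨w₀, hw₀, hQw₀, hpw⟩ := proj w hw hxw
  obtain ⟨z, hQz, hz1, hz2⟩ := exists_common hW1 hdim hv₀ hw₀ hQv₀ hQw₀
  rw [res_polar, res_polar] at hz1 hz2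
  have hvz : polar Q v ((z : W) : V) = 1 := by rw [hpv, polar_comm]; exact hz1
  have hwz : polar Q w ((z : W) : V) ≠ 0 := by rw [hpw, polar_comm]; exact hz2
  have hxz : polar Q x ((z : W) : V) = 0 := by
    have := (mem_core.1 z.2).1
    rwa [res_polar] at this
  refine ⟨((z : W) : V), z.1.2, ⟨hxv.qa, hQz, hxz, ?_⟩, by rw [hvz]; exact one_ne_zero, hwz⟩
  refine (LinearIndependent.pair_iff' hxv.ne).2 fun t ht => ?_
  rw [← ht, polar_smul_right, polar_comm Q v x, hxv.perp, smul_zero] at hvz
  exact zero_ne_one hvz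

/-- The lifts of lines are governed by one function. -/
theorem exists_alpha (h7 : 7 ≤ finrank F V) (hL : LineLift K e f) :
    ∃ α : V → F, ∀ x v : V, x ∈ core Q e f → v ∈ core Q e f → LPair Q x v →
      cz K e f (el Q x v) = α x • v - α v • x := by
  classical
  have hshape : ∀ x v : V, x ∈ core Q e f → v ∈ core Q e f → LPair Q x v →
      ∃ a b : F, cz K e f (el Q x v) = a • v - b • x := by
    intro x v hx hv hl
    obtain ⟨s, t, hst⟩ := Submodule.mem_span_pair.1 (hL x v hx hv hl)
    exact ⟨t, -s, by rw [← hst]; module⟩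
  choose A Bc hAB using hshape
  have hne : ∀ {x v w : V} (hx : x ∈ core Q e f) (hv : v ∈ core Q e f) (hw : w ∈ core Q e f)
      (h1 : LPair Q x v) (h2 : LPair Q x w), polar Q v w ≠ 0 → A x v hx hv h1 = A x w hx hw h2 := by
    intro x v w hx hv hw h1 h2 hvw
    have h := cz_comm hd (el_mem_fix2 hx hv h1.spair) (el_mem_fix2 hx hw h2.spair)
      (el_commute_same h1.spair h2.spair)
    rw [hAB x v hx hv h1, hAB x w hx hw h2] at h
    have hxx : polar Q x x = 0 := by rw [polar_self', h1.qa, mul_zero]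
    have hcp : ∀ (c d : F) (u : V), polar Q x u = 0 → polar Q x (c • u - d • x) = 0 := fun c d u hu => by
      rw [polar_sub_right, polar_smul_right, polar_smul_right, hu, hxx]; simp
    rw [el_inv_apply_perp h2.spair (hcp _ _ _ h1.perp),
      el_inv_apply_perp h1.spair (hcp _ _ _ h2.perp)] at h
    simp only [polar_sub_right, polar_smul_right, smul_eq_mul, polar_comm Q w x, polar_comm Q v x,
      h1.perp, h2.perp, mul_zero, sub_zero, add_sub_cancel_left] at h
    have h3 := smul_left_injective F h1.ne h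
    rw [polar_comm Q w v] at h3
    exact mul_right_cancel₀ hvw h3
  have hall : ∀ x v w (hx : x ∈ core Q e f) (hv : v ∈ core Q e f) (hw : w ∈ core Q e f)
      (h1 : LPair Q x v) (h2 : LPair Q x w), A x v hx hv h1 = A x w hx hw h2 := by
    intro x v w hx hv hw h1 h2
    obtain ⟨u, hu, h3, hvu, hwu⟩ := exists_common_res hd h7 hx hv hw h1 h2
    exact (hne hx hv hu h1 h3 hvu).trans (hne hx hw hu h2 h3 hwu).symm
  let α : V → F := fun x =>
    if h : ∃ v, x ∈ core Q e f ∧ v ∈ core Q e f ∧ LPair Q x v then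
      A x h.choose h.choose_spec.1 h.choose_spec.2.1 h.choose_spec.2.2 else 0
  refine ⟨α, fun x v hx hv hl => ?_⟩
  have hα : ∀ x v (hx : x ∈ core Q e f) (hv : v ∈ core Q e f) (hl : LPair Q x v),
      α x = A x v hx hv hl := by
    intro x v hx hv hl
    have h : ∃ v, x ∈ core Q e f ∧ v ∈ core Q e f ∧ LPair Q x v := ⟨v, hx, hv, hl⟩
    simp only [α, dif_pos h]
    exact hall _ _ _ _ _ _ _ _
  have hl' : LPair Q v x := ⟨hl.qb, hl.qa, (polar_comm Q v x).trans hl.perp,
    LinearIndependent.pair_symm_iff.1 hl.ind⟩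
  have hswap : el Q v x = (el Q x v)⁻¹ := by rw [el_inv, el_swap hl.qa hl.qb hl.perp]
  have h1 := hAB v x hv hx hl'
  rw [hswap, cz_inv hd (el_mem_fix2 hx hv hl.spair), hAB x v hx hv hl] at h1
  have hfix : (el Q x v).1.1 (A x v hx hv hl • v - Bc x v hx hv hl • x) =
      A x v hx hv hl • v - Bc x v hx hv hl • x := by
    refine el_fix hl.spair ?_ ?_ <;>
    simp only [polar_sub_right, polar_smul_right, hl.perp, polar_comm Q v x, polar_self', hl.qa,
      hl.qb, mul_zero, smul_zero, sub_zero]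
  rw [hfix] at h1
  have h2 := (LinearIndependent.pair_iff.1 hl.ind) (Bc x v hx hv hl - A v x hv hx hl')
    (Bc v x hv hx hl' - A x v hx hv hl) (by
      rw [← sub_eq_zero] at h1
      rw [← h1]; module)
  rw [hAB x v hx hv hl, hα x v hx hv hl, hα v x hv hx hl', sub_eq_zero.1 h2.1]

/-- Additivity on a point's orthogonal. -/
theorem alpha_sum {α : V → F} (hα : ∀ x v : V, x ∈ core Q e f → v ∈ core Q e f → LPair Q x v →
      cz K e f (el Q x v) = α x • v - α v • x)
    (hsm : ∀ (t : F) (x : V), x ∈ core Q e f → Q x = 0 → α (t • x) = t * α x)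
    {x : V} (hx : x ∈ core Q e f) (hx0 : x ≠ 0) (hQx : Q x = 0) {ι : Type*} (s : Finset ι)
    (v : ι → V) (hv : ∀ i ∈ s, v i ∈ core Q e f ∧ Q (v i) = 0 ∧ polar Q x (v i) = 0) :
    cz K e f (el Q x (∑ i ∈ s, v i)) =
      α x • (∑ i ∈ s, v i) - ((∑ i ∈ s, α (v i)) - α x * Q (∑ i ∈ s, v i)) • x := by
  classical
  induction s using Finset.induction_on with
  | empty =>
    simp only [Finset.sum_empty, el_zero, cz_one hd, QuadraticMap.map_zero]
    module
  | insert a s has ih =>
    obtain ⟨ha, hQa, hxa⟩ := hv a (Finset.mem_insert_self a s)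
    have hs := ih fun i hi => hv i (Finset.mem_insert_of_mem hi)
    rw [Finset.sum_insert has, Finset.sum_insert has, add_comm (v a), add_comm (α (v a))]
    set S := ∑ i ∈ s, v i with hS
    have hSW : S ∈ core Q e f :=
      Submodule.sum_mem _ fun i hi => (hv i (Finset.mem_insert_of_mem hi)).1
    have hSx : polar Q x S = 0 := by
      show polarBilin Q x S = 0
      rw [hS, map_sum]
      exact Finset.sum_eq_zero fun i hi => (hv i (Finset.mem_insert_of_mem hi)).2.2
    have hone : cz K e f (el Q x (v a)) = α x • v a - α (v a) • x := by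
      by_cases hli : LinearIndependent F ![x, v a]
      · exact hα x (v a) hx ha ⟨hQx, hQa, hxa, hli⟩
      · obtain ⟨t, ht⟩ : ∃ t : F, t • x = v a := by
          by_contra hne'
          push Not at hne'
          exact hli ((LinearIndependent.pair_iff' hx0).2 hne')
        rw [← ht, el_self hQx, cz_one hd, hsm t x hx hQx]
        module
    rw [← el_mul ⟨hQx, hSx⟩ ⟨hQx, hxa⟩, cz_mul hd (el_mem_fix2 hx hSW ⟨hQx, hSx⟩)
      (el_mem_fix2 hx ha ⟨hQx, hxa⟩), hs, hone,
      el_inv_apply_perp ⟨hQx, hxa⟩ (by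
        rw [polar_sub_right, polar_smul_right, polar_smul_right, hSx, polar_self', hQx]; simp),
      Q_add, hQa, polar_sub_right, polar_smul_right, polar_smul_right, polar_comm Q (v a) x, hxa,
      polar_comm Q (v a) S, smul_eq_mul, smul_zero, sub_zero]
    module

set_option maxHeartbeats 1600000 in
/-- Line lifts give a Levi part. -/
theorem hasLevi_of_lineLift (h7 : 7 ≤ finrank F V) (hL : LineLift K e f) : HasLevi K e := by
  classical
  obtain ⟨α₀, hα₀⟩ := exists_alpha hd h7 hL
  set W := core Q e f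
  have hW : Nondeg (res Q W) := hd.pair.nondeg_core hd.nd
  have hWdim : finrank F W + 2 = finrank F V := hd.pair.finrank_core
  let α : V → F := fun x => if x = 0 then 0 else α₀ x
  have hα : ∀ x v : V, x ∈ W → v ∈ W → LPair Q x v →
      cz K e f (el Q x v) = α x • v - α v • x := by
    intro x v hx hv hl
    simp only [α, if_neg hl.ne, if_neg hl.ne']
    exact hα₀ x v hx hv hl
  have hline : ∀ x : V, x ∈ W → x ≠ 0 → Q x = 0 → ∃ v ∈ W, LPair Q x v := by
    intro x hx hx0 hQx
    obtain ⟨v, hv, hxv, hQv, hli⟩ := exists_perp_indep hd.nd hd.pair h7 hx hx0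
    exact ⟨v, hv, hQx, hQv, hxv, hli⟩
  have hsm : ∀ (t : F) (x : V), x ∈ W → Q x = 0 → α (t • x) = t * α x := by
    intro t x hx hQx
    by_cases hx0 : x = 0
    · simp [α, hx0]
    by_cases ht : t = 0
    · simp [α, ht]
    obtain ⟨v, hv, hl⟩ := hline x hx hx0 hQx
    have hli1 := LinearIndependent.pair_iff.1 hl.ind
    have hl1 : LPair Q (t • x) v := ⟨by rw [Q_smul, hQx, mul_zero], hl.qb,
      by rw [polar_smul_left, hl.perp, smul_zero],
      LinearIndependent.pair_iff.2 fun a b hab => by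
        obtain ⟨h1, h2⟩ := hli1 (a * t) b (by rw [← hab]; module)
        exact ⟨(mul_eq_zero.1 h1).resolve_right ht, h2⟩⟩
    have hl2 : LPair Q x (t • v) := ⟨hQx, by rw [Q_smul, hl.qb, mul_zero],
      by rw [polar_smul_right, hl.perp, smul_zero],
      LinearIndependent.pair_iff.2 fun a b hab => by
        obtain ⟨h1, h2⟩ := hli1 a (b * t) (by rw [← hab]; module)
        exact ⟨h1, (mul_eq_zero.1 h2).resolve_right ht⟩⟩
    have h1 := hα (t • x) v (W.smul_mem t hx) hv hl1
    rw [el_smul_left ht, hα x (t • v) hx (W.smul_mem t hv) hl2] at h1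
    have h2 := (hli1 (α v * t - α (t • v)) (α x * t - α (t • x)) (by
      rw [← sub_eq_zero] at h1
      rw [← h1]; module)).2
    linear_combination -h2
  have hsum : ∀ {x : V}, x ∈ W → x ≠ 0 → Q x = 0 → ∀ {k : ℕ} (v : Fin k → V),
      (∀ i, v i ∈ W ∧ Q (v i) = 0 ∧ polar Q x (v i) = 0) → Q (∑ i, v i) = 0 →
      α (∑ i, v i) = ∑ i, α (v i) := by
    intro x hx hx0 hQx k v hv hQ0
    have h1 := alpha_sum hd hα hsm hx hx0 hQx Finset.univ v fun i _ => hv i
    have h2 := alpha_sum hd hα hsm hx hx0 hQx ({()} : Finset Unit) (fun _ => ∑ i, v i) fun _ _ =>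
      ⟨Submodule.sum_mem _ fun i _ => (hv i).1, hQ0, by
        show polarBilin Q x (∑ i, v i) = 0
        rw [map_sum]
        exact Finset.sum_eq_zero fun i _ => (hv i).2.2⟩
    simp only [Finset.sum_singleton] at h2
    rw [h2, hQ0, mul_zero, sub_zero, sub_zero, sub_right_inj] at h1
    exact smul_left_injective F hx0 h1
  -- a pair and singular spanning vectors of its complement
  obtain ⟨x1, hx10, hQx1⟩ := OrthOmega.exists_singular hW (by omega)
  obtain ⟨y1, hp1⟩ := exists_hypPair hW hx10 hQx1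
  set W1 := core (res Q W) x1 y1
  have hW1 : Nondeg (res (res Q W) W1) := hp1.nondeg_core hW
  have hW1dim : finrank F W1 + 2 = finrank F W := hp1.finrank_core
  obtain ⟨p, hp0, hQp⟩ := OrthOmega.exists_singular hW1 (by omega)
  obtain ⟨p', hpp'⟩ := exists_hypPair hW1 hp0 hQp
  have hspan : Submodule.span F {u : W1 | res (res Q W) W1 u = 0} = ⊤ := by
    refine eq_top_iff.2 fun u _ => ?_
    obtain ⟨u0, hu0, a, b, rfl⟩ : ∃ u0 ∈ core (res (res Q W) W1) p p', ∃ a b : F,
        u = a • p + b • p' + u0 :=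
      ⟨_, hpp'.proj_mem u, _, _, (by abel : u = _ + (u - _ - _))⟩
    have hsing : res (res Q W) W1 (p + (-(res (res Q W) W1 u0)) • p' + u0) = 0 := by
      have := hpp'.Q_comb_core (1 : F) (-(res (res Q W) W1 u0)) hu0
      rw [one_smul] at this
      rw [this, one_mul, neg_add_cancel]
    have hu : u0 = (p + (-(res (res Q W) W1 u0)) • p' + u0) +
        (-1 : F) • p + (res (res Q W) W1 u0) • p' := by module
    refine add_mem (add_mem (Submodule.smul_mem _ _ (Submodule.subset_span hQp))
      (Submodule.smul_mem _ _ (Submodule.subset_span hpp'.right))) ?_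
    rw [hu]
    exact add_mem (add_mem (Submodule.subset_span hsing)
      (Submodule.smul_mem _ _ (Submodule.subset_span hQp)))
      (Submodule.smul_mem _ _ (Submodule.subset_span hpp'.right))
  let bs := Basis.ofSpan hspan.ge
  have hbs : ∀ i, res (res Q W) W1 (bs i) = 0 := fun i =>
    Basis.ofSpan_subset hspan.ge ⟨i, rfl⟩
  let X1 : V := x1
  let Y1 : V := y1
  have hX1 : X1 ∈ W := x1.2
  have hY1 : Y1 ∈ W := y1.2
  have hXX : polar Q X1 X1 = 0 := by rw [polar_self', show Q X1 = 0 from hQx1, mul_zero]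
  have hYY : polar Q Y1 Y1 = 0 := by rw [polar_self', show Q Y1 = 0 from hp1.right, mul_zero]
  have hXY : polar Q X1 Y1 = 1 := by have := hp1.pol; rwa [res_polar] at this
  -- the functional
  let φ : W1 →ₗ[F] F := bs.constr F fun i => α ((bs i : W) : V)
  obtain ⟨w1, hw1⟩ : ∃ w1 : W1, ∀ u : W1, polar (res (res Q W) W1) w1 u = φ u :=
    ⟨(LinearMap.BilinForm.toDual (polarBilin (res (res Q W) W1)) hW1.polarBilin).symm φ,
      fun u => LinearMap.BilinForm.apply_toDual_symm_apply (B := polarBilin (res (res Q W) W1))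
        (hB := hW1.polarBilin) φ u⟩
  set w0 : V := α X1 • Y1 + α Y1 • X1 + ((w1 : W) : V) with hw0
  have hw0W : w0 ∈ W := add_mem (add_mem (W.smul_mem _ hY1) (W.smul_mem _ hX1)) w1.1.2
  have hcX : ∀ u : W1, polar Q X1 ((u : W) : V) = 0 ∧ polar Q Y1 ((u : W) : V) = 0 := fun u => by
    have h1 := mem_core.1 u.2
    rw [res_polar, res_polar] at h1
    exact h1
  have hw0X : polar Q w0 X1 = α X1 := by
    rw [hw0, polar_add_left, polar_add_left, polar_smul_left, polar_smul_left, polar_comm Q Y1,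
      hXY, hXX, polar_comm Q _ X1, (hcX w1).1]
    simp
  have hw0Y : polar Q w0 Y1 = α Y1 := by
    rw [hw0, polar_add_left, polar_add_left, polar_smul_left, polar_smul_left, hXY, hYY,
      polar_comm Q _ Y1, (hcX w1).2]
    simp
  have hw0u : ∀ u : W1, polar Q w0 ((u : W) : V) = φ u := fun u => by
    have h1 := hw1 u
    rw [res_polar, res_polar] at h1
    rw [hw0, polar_add_left, polar_add_left, polar_smul_left, polar_smul_left, (hcX u).1,
      (hcX u).2]
    simpa using h1
  -- vectors with an orthogonal end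
  have hend : ∀ (c X : V), c ∈ W → X ∈ W → X ≠ 0 → Q X = 0 → polar Q w0 X = α X →
      (∀ u : W1, polar Q X ((u : W) : V) = 0) → c = X →
      ∀ (t : F) (u : W1), Q (t • X + ((u : W) : V)) = 0 →
      α (t • X + ((u : W) : V)) = polar Q w0 (t • X + ((u : W) : V)) := by
    intro c X _ hX hX0 hQX hwX hperp _ t u hQu
    let v : Fin (Fintype.card _ + 1) → V := Fin.cons (t • X)
      fun i => (bs.repr u ((Fintype.equivFin _).symm i)) • ((bs ((Fintype.equivFin _).symm i) : W) : V)
    have hv : ∀ i, v i ∈ W ∧ Q (v i) = 0 ∧ polar Q X (v i) = 0 := by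
      intro i
      refine Fin.cases ?_ (fun i => ?_) i
      · exact ⟨W.smul_mem t hX, by show Q (t • X) = 0; rw [Q_smul, hQX, mul_zero],
          by show polar Q X (t • X) = 0; rw [polar_smul_right, polar_self', hQX]; simp⟩
      · refine ⟨W.smul_mem _ (bs _).1.2, ?_, ?_⟩
        · show Q (_ • _) = 0
          rw [Q_smul, show Q ((bs _ : W) : V) = 0 from hbs _, mul_zero]
        · show polar Q X (_ • _) = 0
          rw [polar_smul_right, hperp, smul_zero]
    have hsv : ∑ i, v i = t • X + ((u : W) : V) := by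
      rw [Fin.sum_univ_succ]
      congr 1
      simp only [v, Fin.cons_succ]
      rw [Equiv.sum_comp (Fintype.equivFin _).symm fun j => bs.repr u j • ((bs j : W) : V)]
      conv_rhs => rw [← bs.sum_repr u]
      simp
    have h1 := hsum hX hX0 hQX v hv (hsv ▸ hQu)
    rw [hsv, Fin.sum_univ_succ] at h1
    rw [h1, polar_add_right, polar_smul_right, hwX, hw0u]
    congr 1
    · exact hsm t X hX hQX
    · simp only [v, Fin.cons_succ, hsm _ _ (bs _).1.2 (hbs _)]
      rw [Equiv.sum_comp (Fintype.equivFin _).symm fun j => bs.repr u j * α ((bs j : W) : V)]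
      show _ = (bs.constr F fun i => α ((bs i : W) : V)) u
      rw [Module.Basis.constr_apply_fintype]
      simp only [smul_eq_mul]
      rfl
  have hX0 : X1 ≠ 0 := fun h => hx10 (Subtype.ext h)
  have hY0 : Y1 ≠ 0 := fun h => by
    rw [h, polar_zero_right] at hXY; exact zero_ne_one hXY
  have hmain : ∀ r : V, r ∈ W → Q r = 0 → α r = polar Q w0 r := by
    intro r hr hQr
    obtain ⟨u, a, b, hru⟩ : ∃ (u : W1) (a b : F), r = b • X1 + a • Y1 + ((u : W) : V) := by
      refine ⟨⟨_, hp1.proj_mem ⟨r, hr⟩⟩, polar (res Q W) x1 ⟨r, hr⟩, polar (res Q W) y1 ⟨r, hr⟩, ?_⟩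
      simp only [Submodule.coe_sub, Submodule.coe_smul, X1, Y1]
      abel
    have hQru : b * a + Q ((u : W) : V) = 0 := by
      have h1 := hp1.Q_comb_core b a u.2
      rw [← hQr, hru]
      exact h1.symm
    by_cases ha : a = 0
    · rw [ha, zero_smul, add_zero] at hru
      rw [hru] at hQr ⊢
      exact hend X1 X1 hX1 hX1 hX0 hQx1 hw0X (fun u => (hcX u).1) rfl b u hQr
    by_cases hu : u = 0
    · have hb : b = 0 := by
        rw [hu] at hQru
        simp at hQru
        exact hQru.resolve_right ha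
      rw [hb, zero_smul, zero_add] at hru
      rw [hru] at hQr ⊢
      exact hend Y1 Y1 hY1 hY1 hY0 hp1.right hw0Y (fun u => (hcX u).2) rfl a u hQr
    -- a point seen from both ends
    obtain ⟨i, hi⟩ : ∃ i, polar Q ((bs i : W) : V) ((u : W) : V) ≠ 0 := by
      by_contra hcon
      push Not at hcon
      refine hu (hW1 u fun z => ?_)
      rw [polar_comm]
      show polarBilin (res (res Q W) W1) z u = 0
      rw [← bs.sum_repr z, map_sum, LinearMap.sum_apply]
      refine Finset.sum_eq_zero fun i _ => ?_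
      rw [map_smul, LinearMap.smul_apply]
      show _ • polar (res (res Q W) W1) (bs i) u = 0
      rw [res_polar, res_polar, hcon i, smul_zero]
    set s := -a / polar Q ((bs i : W) : V) ((u : W) : V)
    set x : V := X1 + s • ((bs i : W) : V)
    have hxW : x ∈ W := add_mem hX1 (W.smul_mem _ (bs i).1.2)
    have hQx : Q x = 0 := by
      show Q (X1 + _) = 0
      rw [Q_add, Q_smul, show Q X1 = 0 from hQx1, show Q ((bs i : W) : V) = 0 from hbs i,
        polar_smul_right, (hcX _).1]
      simp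
    have hxX : polar Q X1 x = 0 := by
      show polar Q X1 (X1 + _) = 0
      rw [polar_add_right, hXX, polar_smul_right, (hcX _).1]; simp
    have hxY : polar Q Y1 x = 1 := by
      show polar Q Y1 (X1 + _) = 1
      rw [polar_add_right, polar_comm Q Y1 X1, hXY, polar_smul_right, (hcX _).2]; simp
    have hx0 : x ≠ 0 := fun h => by rw [h, polar_zero_right] at hxY; exact zero_ne_one hxY
    have hxu : polar Q x ((u : W) : V) = -a := by
      show polar Q (X1 + _) _ = -a
      rw [polar_add_left, polar_smul_left, (hcX u).1, smul_eq_mul, zero_add]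
      simp only [s]; field_simp
    let v : Fin (Fintype.card _ + 1) → V := Fin.cons (b • X1) fun j =>
      (-(polar Q x (bs.repr u ((Fintype.equivFin _).symm j) • ((bs ((Fintype.equivFin _).symm j) : W) : V)))) • Y1 +
        ((bs.repr u ((Fintype.equivFin _).symm j) • bs ((Fintype.equivFin _).symm j) : W1) : W).1
    have hbsmul : ∀ (c : F) j, ((c • bs j : W1) : W).1 = c • ((bs j : W) : V) := fun c j => rfl
    have hQj : ∀ (c d : F) j, Q (d • Y1 + ((c • bs j : W1) : W).1) = 0 := fun c d j => by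
      rw [hbsmul, Q_add, Q_smul, Q_smul, show Q Y1 = 0 from hp1.right,
        show Q ((bs j : W) : V) = 0 from hbs j, polar_smul_left, polar_smul_right, (hcX _).2]
      simp
    have hv : ∀ j, v j ∈ W ∧ Q (v j) = 0 ∧ polar Q x (v j) = 0 := by
      intro j
      refine Fin.cases ?_ (fun j => ?_) j
      · exact ⟨W.smul_mem b hX1, by show Q (b • X1) = 0; rw [Q_smul, show Q X1 = 0 from hQx1, mul_zero],
          by show polar Q x (b • X1) = 0; rw [polar_smul_right, polar_comm, hxX, smul_zero]⟩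
      · refine ⟨add_mem (W.smul_mem _ hY1) (W.smul_mem _ (bs _).1.2), hQj _ _ _, ?_⟩
        show polar Q x (_ • Y1 + _) = 0
        rw [hbsmul, polar_add_right, polar_smul_right (a := -_), polar_comm Q x Y1, hxY,
          smul_eq_mul, mul_one, neg_add_cancel]
    have hsv : ∑ j, v j = r := by
      rw [hru, Fin.sum_univ_succ, add_assoc (b • X1)]
      congr 1
      simp only [v, Fin.cons_succ, hbsmul]
      rw [Finset.sum_add_distrib, ← Finset.sum_smul, Finset.sum_neg_distrib]
      rw [Equiv.sum_comp (Fintype.equivFin _).symm fun j => bs.repr u j • ((bs j : W) : V),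
        Equiv.sum_comp (Fintype.equivFin _).symm fun j =>
          polar Q x (bs.repr u j • ((bs j : W) : V))]
      have hu' : ∑ j, bs.repr u j • ((bs j : W) : V) = ((u : W) : V) := by
        conv_rhs => rw [← bs.sum_repr u]
        simp
      rw [hu', show (∑ j, polar Q x (bs.repr u j • ((bs j : W) : V))) = -a by
        rw [← hxu, ← hu']
        exact (map_sum (polarBilin Q x) _ _).symm, neg_neg]
    have h1 := hsum hxW hx0 hQx v hv (hsv.symm ▸ hQr)
    have h2 : polar Q w0 r = ∑ j, polar Q w0 (v j) := by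
      rw [← hsv]; exact map_sum (polarBilin Q w0) _ _
    rw [hsv] at h1
    rw [h1, h2]
    refine Finset.sum_congr rfl fun j _ => ?_
    refine Fin.cases ?_ (fun j => ?_) j
    · show α (b • X1) = polar Q w0 (b • X1)
      rw [hsm b X1 hX1 hQx1, polar_smul_right, hw0X, smul_eq_mul]
    · exact hend Y1 Y1 hY1 hY1 hY0 hp1.right hw0Y (fun u => (hcX u).2) rfl _ _ (hQj _ _ _)
  -- the new pair
  set D := el Q e (-w0) with hD
  have hSw : SPair Q e w0 := ⟨hd.pair.left, (mem_core.1 hw0W).1⟩
  have hDe : D.1.1 e = e := el_fix_base hSw.neg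
  refine ⟨D.1.1 f, ⟨hd.pair.left, (eg_Q D f).trans hd.pair.right, by
    conv_lhs => arg 2; rw [← hDe]
    rw [eg_polar]; exact hd.pair.pol⟩, fun x y hx hy hQx hQy hxy => ?_⟩
  have hinv : ∀ w ∈ core Q e (D.1.1 f), D⁻¹.1.1 w ∈ W := fun w hw => by
    refine mem_core.2 ⟨?_, ?_⟩
    · rw [← eg_polar D, hDe, eg_apply_inv]; exact (mem_core.1 hw).1
    · rw [← eg_polar D, eg_apply_inv]; exact (mem_core.1 hw).2
  set x' := D⁻¹.1.1 x
  set y' := D⁻¹.1.1 y
  have hx' := hinv x hx
  have hy' := hinv y hy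
  have hQx' : Q x' = 0 := (eg_Q _ _).trans hQx
  have hQy' : Q y' = 0 := (eg_Q _ _).trans hQy
  have hxy' : polar Q x' y' = 0 := (eg_polar _ _ _).trans hxy
  have hback : el Q x y = D * el Q x' y' * D⁻¹ := by
    rw [el_conj, eg_apply_inv, eg_apply_inv]
  rw [hback]
  have hS' : SPair Q x' y' := ⟨hQx', hxy'⟩
  have hg := el_mem_fix2 hx' hy' hS'
  have hcz : cz K e f (el Q x' y') = polar Q w0 x' • y' - polar Q w0 y' • x' := by
    by_cases hx0 : x' = 0
    · have : el Q x' y' = 1 := EG_ext fun z => by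
        rw [el_apply hS', hx0]; simp [eg_one_apply]
      rw [this, cz_one hd, hx0, polar_zero_right]; simp
    by_cases hli : LinearIndependent F ![x', y']
    · rw [hα x' y' hx' hy' ⟨hQx', hQy', hxy', hli⟩, hmain x' hx' hQx', hmain y' hy' hQy']
    · obtain ⟨t, ht⟩ : ∃ t : F, t • x' = y' := by
        by_contra hne'
        push Not at hne'
        exact hli ((LinearIndependent.pair_iff' hx0).2 hne')
      rw [← ht, el_self hQx', cz_one hd, polar_smul_right, smul_eq_mul]
      module
  have h1 := el_mul_comm_of_scale hd.pair one_ne_zero (g := el Q x' y')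
    (by rw [one_smul]; exact hg.1) (-w0)
  rw [inv_one, one_smul] at h1
  have hSi : SPair Q e ((el Q x' y')⁻¹.1.1 (-w0)) :=
    ⟨hd.pair.left, (mem_core.1 (fix2_core (inv_mem hg) (W.neg_mem hw0W))).1⟩
  have hneg : (el Q e (-w0))⁻¹ = el Q e w0 := by rw [el_inv, neg_neg]
  rw [hD, h1, hneg, mul_assoc, el_mul hSi hSw,
    show (el Q x' y')⁻¹.1.1 (-w0) + w0 = cz K e f (el Q x' y') by
      rw [el_inv_apply hS', hcz, hQy', polar_neg_right, polar_neg_right, polar_comm Q x' w0,
        polar_comm Q y' w0]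
      module]
  exact (cz_spec hd hg).2

omit hd in
theorem refl_refl' (v x : V) : refl Q v (refl Q v x) = x := reflMap_involutive Q v x

omit hd in
/-- The commutator of two reflections in a plane moves every vector of the plane. -/
theorem refl_comm_fix {a b w : V} (ha : Q a ≠ 0) (hb : Q b ≠ 0)
    (hab : ∀ t : F, refl Q b a ≠ t • a)
    (hfix : refl Q a (refl Q b (refl Q a (refl Q b w))) = w) :
    polar Q a w = 0 ∧ polar Q (refl Q b a) w = 0 := by
  have h1 : refl Q b (refl Q a (refl Q b w)) = refl Q a w := by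
    conv_rhs => rw [← hfix]
    rw [refl_refl']
  have h2 : refl Q b (refl Q a (refl Q b w)) =
      w - ((Q a)⁻¹ * polar Q (refl Q b a) w) • refl Q b a := by
    rw [refl_apply Q a (refl Q b w), map_sub, map_smul, refl_refl']
    congr 3
    rw [← orth_polar (refl_mem Q b) (refl Q b a) w, refl_refl']
  rw [h2, refl_apply Q a w, sub_right_inj] at h1
  by_cases h0 : (Q a)⁻¹ * polar Q (refl Q b a) w = 0
  · rw [h0, zero_smul, eq_comm, smul_eq_zero] at h1
    have ha0 : a ≠ 0 := fun h => ha (by rw [h, QuadraticMap.map_zero])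
    exact ⟨(mul_eq_zero.1 (h1.resolve_right ha0)).resolve_left (inv_ne_zero ha),
      (mul_eq_zero.1 h0).resolve_left (inv_ne_zero ha)⟩
  · refine absurd ?_ (hab (((Q a)⁻¹ * polar Q (refl Q b a) w)⁻¹ * ((Q a)⁻¹ * polar Q a w)))
    rw [← smul_smul, ← h1, smul_smul, inv_mul_cancel₀ h0, one_smul]

end Cfsg.Agent.Lib.MinIndexOmega
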