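import Mathlib
import Cfsg.Agent.Lib.MinIndexOmega.Lifts

/-!
Lib/MinIndexOmega/LineLift: the lift of a root element lies on its line, in dimension at least
nine and in dimension eight of minus type.
-/

set_option autoImplicit false
set_option linter.unusedSectionVars false

namespace Cfsg.Agent.Lib.MinIndexOmega

open Module QuadraticMap Cfsg.Agent.Lib.Forms Cfsg.Agent.Lib.OrthOmega Cfsg.Agent.Lib.AutPOmega
open scoped commutatorElement

variable {F : Type*} [Field F] [Finite F] {V : Type*} [AddCommGroup V] [Module F V]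
variable [FiniteDimensional F V] {Q : QuadraticForm F V} {e f : V} {K : Subgroup (EG Q)}

/-- The vectors of the complement orthogonal to a line. -/
abbrev lineC (Q : QuadraticForm F V) (e f x v : V) : Submodule F V :=
  perpS Q (Submodule.span F ({e, f, x, v} : Set V))

theorem mem_lineC {x v u : V} :
    u ∈ lineC Q e f x v ↔ u ∈ core Q e f ∧ polar Q x u = 0 ∧ polar Q v u = 0 := by
  rw [mem_perpS_span, mem_core]
  simp [and_assoc]

theorem finrank_lineC_ge (hQ : Nondeg Q) (e f x v : V) :
    finrank F V - 4 ≤ finrank F (lineC Q e f x v) := by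
  classical
  rw [finrank_perpS hQ]
  have h4 : finrank F (Submodule.span F ({e, f, x, v} : Set V)) ≤ 4 := by
    refine (finrank_span_le_card (R := F) ({e, f, x, v} : Set V)).trans ?_
    simp only [Set.toFinset_insert, Set.toFinset_singleton]
    exact Finset.card_le_four
  omega

theorem line_le_lineC {x v : V} (hx : x ∈ core Q e f) (hv : v ∈ core Q e f) (hl : LPair Q x v) :
    Submodule.span F ({x, v} : Set V) ≤ lineC Q e f x v := Submodule.span_le.2 (by
  rintro u (rfl | rfl)
  · exact mem_lineC.2 ⟨hx, by rw [polar_self', hl.qa, mul_zero], (polar_comm Q _ _).trans hl.perp⟩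
  · exact mem_lineC.2 ⟨hv, hl.perp, by rw [polar_self', hl.qb, mul_zero]⟩)

theorem finrank_line_le (x v : V) : finrank F (Submodule.span F ({x, v} : Set V)) ≤ 2 := by
  classical
  refine (finrank_span_le_card (R := F) ({x, v} : Set V)).trans ?_
  rw [Set.toFinset_insert, Set.toFinset_singleton]
  exact Finset.card_le_two

/-- What is orthogonal to `lineC` and in the complement lies on the line. -/
theorem mem_line_of_perp (hQ : Nondeg Q) (hp : HypPair Q e f) {x v c : V} (hx : x ∈ core Q e f)
    (hv : v ∈ core Q e f) (hc : c ∈ core Q e f)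
    (h : ∀ u ∈ lineC Q e f x v, polar Q u c = 0) : c ∈ Submodule.span F ({x, v} : Set V) := by
  have hcS : c ∈ Submodule.span F ({e, f, x, v} : Set V) := by
    rw [← perpS_perpS hQ (Submodule.span F ({e, f, x, v} : Set V))]
    exact h
  rw [show ({e, f, x, v} : Set V) = {e, f} ∪ {x, v} by ext; simp; tauto,
    Submodule.span_union, Submodule.mem_sup] at hcS
  obtain ⟨p, hp', l, hl, rfl⟩ := hcS
  have hlW : l ∈ core Q e f := (Submodule.span_le.2 (by
    rintro u (rfl | rfl) <;> assumption) : Submodule.span F ({x, v} : Set V) ≤ core Q e f) hl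
  obtain ⟨α, β, rfl⟩ := Submodule.mem_span_pair.1 hp'
  have h1 := mem_core.1 ((core Q e f).sub_mem hc hlW)
  rw [add_sub_cancel_right, polar_add_right, polar_add_right, polar_smul_right, polar_smul_right,
    polar_smul_right, polar_smul_right, hp.pol_ee, hp.pol, hp.pol', hp.pol_ff] at h1
  simp only [smul_eq_mul, mul_zero, mul_one, zero_add, add_zero] at h1
  rw [h1.1, h1.2, zero_smul, zero_smul, add_zero, zero_add]
  exact hl

variable (hd : LiftData K e f)

include hd

/-- The lift is orthogonal to its line. -/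
theorem cz_perp_line (h7 : 7 ≤ finrank F V) {x v : V} (hx : x ∈ core Q e f) (hv : v ∈ core Q e f)
    (hl : LPair Q x v) :
    polar Q x (cz K e f (el Q x v)) = 0 ∧ polar Q v (cz K e f (el Q x v)) = 0 := by
  obtain ⟨z, hz, hzL⟩ : ∃ z ∈ lineC Q e f x v, z ∉ Submodule.span F ({x, v} : Set V) := by
    by_contra hcon
    push Not at hcon
    have := Submodule.finrank_mono
      (show lineC Q e f x v ≤ Submodule.span F ({x, v} : Set V) from hcon)
    have := finrank_lineC_ge hd.nd e f x v
    have := finrank_line_le (F := F) x v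
    omega
  obtain ⟨hzW, hxz, hvz⟩ := mem_lineC.1 hz
  have hl' : LPair Q v x := ⟨hl.qb, hl.qa, (polar_comm Q v x).trans hl.perp,
    LinearIndependent.pair_symm_iff.1 hl.ind⟩
  refine ⟨cz_perp hd hx hv hzW hl hxz hvz hzL, ?_⟩
  have hg := el_mem_fix2 hx hv hl.spair
  have h := cz_perp hd hv hx hzW hl' hvz hxz (by rwa [Set.pair_comm])
  rw [show el Q v x = (el Q x v)⁻¹ by rw [el_inv, el_swap hl.qa hl.qb hl.perp], cz_inv hd hg,
    polar_neg_right, neg_eq_zero] at h
  have h1 := eg_polar (el Q x v) v (cz K e f (el Q x v))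
  rw [el_fix hl.spair hl.perp (by rw [polar_self', hl.qb, mul_zero])] at h1
  exact h1.symm.trans h

/-- The lift of a root element lies on its line. -/
theorem lineLift_of_nine (h9 : 9 ≤ finrank F V) : LineLift K e f := by
  classical
  intro x v hx hv hl
  set c := cz K e f (el Q x v)
  have hcW : c ∈ core Q e f := (cz_spec hd (el_mem_fix2 hx hv hl.spair)).1
  obtain ⟨hxc, hvc⟩ := cz_perp_line hd (by omega) hx hv hl
  set L := Submodule.span F ({x, v} : Set V)
  set Z := lineC Q e f x v
  have hLc : ∀ u ∈ L, polar Q u c = 0 := fun u hu => by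
    obtain ⟨α, β, rfl⟩ := Submodule.mem_span_pair.1 hu
    rw [polar_add_left, polar_smul_left, polar_smul_left, hxc, hvc]; simp
  have hZd : finrank F V - 4 ≤ finrank F Z := finrank_lineC_ge hd.nd e f x v
  have hLd : finrank F L ≤ 2 := finrank_line_le x v
  -- singular vectors off the line see the lift trivially
  have key : ∀ z ∈ Z, Q z = 0 → z ∉ L →
      polar Q z c = 0 ∧ ∀ u ∈ Z, polar Q z u = 0 → polar Q u c = 0 := by
    intro z hzZ hQz hzL
    obtain ⟨hzW, hxz, hvz⟩ := mem_lineC.1 hzZ
    have main : ∀ u ∈ Z, polar Q z u = 0 → u ∉ L ⊔ Submodule.span F ({z} : Set V) →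
        polar Q z c = 0 ∧ polar Q u c = 0 := by
      intro u huZ hzu hu
      obtain ⟨huW, hxu, hvu⟩ := mem_lineC.1 huZ
      refine cz_perp_compl hd hx hv hzW huW hl ⟨hQz, hzu⟩ hxz hvz hxu hvu fun a b hab => ?_
      by_cases hb : b = 0
      · rw [hb, zero_smul, add_zero] at hab
        refine ⟨?_, hb⟩
        by_contra ha
        exact hzL (by simpa [smul_smul, inv_mul_cancel₀ ha] using L.smul_mem a⁻¹ hab)
      · refine absurd ?_ hu
        rw [Submodule.mem_sup]
        refine ⟨b⁻¹ • (a • z + b • u), L.smul_mem _ hab, (-(b⁻¹ * a)) • z,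
          Submodule.smul_mem _ _ (Submodule.mem_span_singleton_self z), ?_⟩
        rw [smul_add, smul_smul, smul_smul, inv_mul_cancel₀ hb, one_smul]; module
    obtain ⟨w, hw, hwP⟩ : ∃ w ∈ Z ⊓ LinearMap.ker (polarBilin Q z),
        w ∉ L ⊔ Submodule.span F ({z} : Set V) := by
      by_contra hcon
      push Not at hcon
      have h1 := Submodule.finrank_mono (show Z ⊓ LinearMap.ker (polarBilin Q z) ≤
        L ⊔ Submodule.span F ({z} : Set V) from hcon)
      have h2 := Submodule.finrank_add_le_finrank_add_finrank L (Submodule.span F ({z} : Set V))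
      have h2' : finrank F (Submodule.span F ({z} : Set V)) ≤ 1 := by
        refine (finrank_span_le_card (R := F) ({z} : Set V)).trans ?_
        simp
      have h3 := Submodule.finrank_sup_add_finrank_inf_eq Z (LinearMap.ker (polarBilin Q z))
      have h4 := Submodule.finrank_le (Z ⊔ LinearMap.ker (polarBilin Q z))
      have h5 := LinearMap.finrank_range_add_finrank_ker (polarBilin Q z)
      have h6 := Submodule.finrank_le (LinearMap.range (polarBilin Q z))
      rw [finrank_self] at h6
      omega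
    obtain ⟨hzc, -⟩ := main w hw.1 hw.2 hwP
    refine ⟨hzc, fun u huZ hzu => ?_⟩
    by_cases hu : u ∈ L ⊔ Submodule.span F ({z} : Set V)
    · obtain ⟨l, hl', s, hs, rfl⟩ := Submodule.mem_sup.1 hu
      obtain ⟨r, rfl⟩ := Submodule.mem_span_singleton.1 hs
      rw [polar_add_left, hLc l hl', polar_smul_left, hzc, smul_zero, add_zero]
    · exact (main u huZ hzu hu).2
  -- a hyperbolic pair in the orthogonal of the line
  obtain ⟨C, hC⟩ := Submodule.exists_isCompl (L.comap Z.subtype)
  obtain ⟨_, ⟨z, hzC, rfl⟩, hz0, hQz⟩ := exists_singular_any (Q := Q) (C.map Z.subtype) (by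
    rw [← (Submodule.equivMapOfInjective Z.subtype Subtype.val_injective C).finrank_eq]
    have h1 := Submodule.finrank_add_eq_of_isCompl hC
    have h2 : finrank F (L.comap Z.subtype) = finrank F L :=
      (Submodule.comapSubtypeEquivOfLe (line_le_lineC hx hv hl)).finrank_eq
    omega)
  have hzL : (z : V) ∉ L := fun h0 => hz0 (congrArg Subtype.val
    ((Submodule.disjoint_def.1 hC.disjoint) z h0 hzC))
  set S := Submodule.span F ({e, f, x, v} : Set V)
  have hrad : S ⊓ perpS Q S ≤ L := by
    rintro u ⟨huS, huZ⟩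
    refine mem_line_of_perp hd.nd hd.pair hx hv (mem_lineC.1 huZ).1 fun u' hu' => ?_
    rw [polar_comm]
    exact hu' u huS
  have hzS : (z : V) ∉ S := fun h0 => hzL (hrad ⟨h0, z.2⟩)
  obtain ⟨z₁, hQz₁, hz₁S, hz₁z⟩ := exists_sing_sep hd.nd hzS (by
    have h1 := Submodule.finrank_mono hrad
    show _ ≤ finrank F Z
    omega)
  set z' := (polar Q z₁ (z : V))⁻¹ • z₁
  have hz'Z : z' ∈ Z := Z.smul_mem _ hz₁S
  have hzz' : polar Q z' (z : V) = 1 := by
    show polar Q (_ • z₁) _ = 1
    rw [polar_smul_left, smul_eq_mul, inv_mul_cancel₀ hz₁z]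
  have hQz' : Q z' = 0 := by show Q (_ • z₁) = 0; rw [Q_smul, hQz₁, mul_zero]
  have hz'L : z' ∉ L := fun h0 => by
    have := (mem_lineC.1 z.2).2
    obtain ⟨α, β, hab⟩ := Submodule.mem_span_pair.1 h0
    rw [← hab, polar_add_left, polar_smul_left, polar_smul_left, this.1, this.2] at hzz'
    simp at hzz'
  obtain ⟨hzc, -⟩ := key z z.2 hQz hzL
  obtain ⟨hz'c, -⟩ := key z' hz'Z hQz' hz'L
  refine mem_line_of_perp hd.nd hd.pair hx hv hcW fun u hu => ?_
  set u' := u - polar Q z' u • (z : V)
  have hu' : polar Q u' c = 0 := (key z' hz'Z hQz' hz'L).2 u' (Z.sub_mem hu (Z.smul_mem _ z.2)) (by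
    show polar Q z' (u - _) = 0
    rw [polar_sub_right, polar_smul_right, hzz', smul_eq_mul, mul_one, sub_self])
  rwa [polar_sub_left, polar_smul_left, hzc, smul_zero, sub_zero] at hu'

/-- Dimension eight of minus type: rotations of the anisotropic plane. -/
theorem lineLift_of_eight (h8 : finrank F V = 8)
    (hwitt : ∀ U : Submodule F V, (∀ u ∈ U, Q u = 0) → finrank F U ≤ 3) : LineLift K e f := by
  classical
  intro x v hx hv hl
  set g := el Q x v
  have hg := el_mem_fix2 hx hv hl.spair
  set c := cz K e f g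
  have hcW : c ∈ core Q e f := (cz_spec hd hg).1
  obtain ⟨hxc, hvc⟩ := cz_perp_line hd (by omega) hx hv hl
  set L := Submodule.span F ({x, v} : Set V)
  set Z := lineC Q e f x v
  have hLc : ∀ u ∈ L, polar Q u c = 0 := fun u hu => by
    obtain ⟨α, β, rfl⟩ := Submodule.mem_span_pair.1 hu
    rw [polar_add_left, polar_smul_left, polar_smul_left, hxc, hvc]; simp
  have hL2 : finrank F L = 2 := by
    have h := finrank_span_eq_card hl.ind
    rw [Matrix.range_cons, Matrix.range_cons, Matrix.range_empty, Set.union_empty,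
      Set.singleton_union, Fintype.card_fin] at h
    exact h
  have haniso : ∀ u ∈ Z, u ∉ L → Q u ≠ 0 := by
    intro u hu huL hQu
    obtain ⟨huW, hxu, hvu⟩ := mem_lineC.1 hu
    have hli : LinearIndependent F ![e, x, v, u] := by
      have h3 : LinearIndependent F ![x, v, u] := by
        rw [show ![x, v, u] = Fin.snoc ![x, v] u from by ext i; fin_cases i <;> rfl]
        refine linearIndependent_finSnoc.2 ⟨hl.ind, ?_⟩
        rw [Matrix.range_cons, Matrix.range_cons, Matrix.range_empty, Set.union_empty,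
          Set.singleton_union]
        exact huL
      refine linearIndependent_finCons.2 ⟨h3, fun h0 => ?_⟩
      have h1 : Submodule.span F (Set.range ![x, v, u]) ≤ core Q e f := Submodule.span_le.2 (by
        rintro _ ⟨i, rfl⟩; fin_cases i <;> assumption)
      have h2 := (mem_core.1 (h1 h0)).2
      rw [hd.pair.pol'] at h2
      exact one_ne_zero h2
    have hts : ∀ w ∈ Submodule.span F (Set.range ![e, x, v, u]), Q w = 0 := by
      intro w hw
      rw [Submodule.mem_span_range_iff_exists_fun, ] at hw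
      obtain ⟨r, rfl⟩ := hw
      simp only [Fin.sum_univ_four, Matrix.cons_val, Q_add, Q_smul,
        hd.pair.left, hl.qa, hl.qb, hQu, polar_add_left, polar_smul_left, polar_smul_right,
        (mem_core.1 hx).1, (mem_core.1 hv).1, (mem_core.1 huW).1, hl.perp, hxu, hvu, mul_zero,
        smul_zero, add_zero]
    have := hwitt _ hts
    rw [finrank_span_eq_card hli, Fintype.card_fin] at this
    omega
  have hZd : finrank F V - 4 ≤ finrank F Z := finrank_lineC_ge hd.nd e f x v
  obtain ⟨a, haZ, haL⟩ : ∃ a ∈ Z, a ∉ L := by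
    by_contra hcon
    push Not at hcon
    have := Submodule.finrank_mono (show Z ≤ L from hcon)
    omega
  set P := L ⊔ Submodule.span F ({a} : Set V)
  obtain ⟨y₀, hy₀Z, hay₀⟩ : ∃ y ∈ Z, polar Q a y ≠ 0 := by
    by_contra hcon
    push Not at hcon
    exact haL (mem_line_of_perp hd.nd hd.pair hx hv (mem_lineC.1 haZ).1 fun u hu =>
      (polar_comm Q u a).trans (hcon u hu))
  obtain ⟨b, hbZ, hab, hbP⟩ : ∃ b ∈ Z, polar Q a b ≠ 0 ∧ b ∉ P := by
    by_cases hy₀P : y₀ ∈ P
    swap
    · exact ⟨y₀, hy₀Z, hay₀, hy₀P⟩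
    obtain ⟨y₁, hy₁Z, hy₁P⟩ : ∃ y ∈ Z, y ∉ P := by
      by_contra hcon
      push Not at hcon
      have h1 := Submodule.finrank_mono (show Z ≤ P from hcon)
      have h2 : finrank F P ≤ finrank F L + finrank F (Submodule.span F ({a} : Set V)) :=
        Submodule.finrank_add_le_finrank_add_finrank L (Submodule.span F ({a} : Set V))
      have h3 : finrank F (Submodule.span F ({a} : Set V)) ≤ 1 := by
        refine (finrank_span_le_card (R := F) ({a} : Set V)).trans ?_
        simp
      omega
    by_cases h1 : polar Q a y₁ = 0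
    · exact ⟨y₀ + y₁, Z.add_mem hy₀Z hy₁Z, by rw [polar_add_right, h1, add_zero]; exact hay₀,
        fun h0 => hy₁P ((P.add_mem_iff_right hy₀P).1 h0)⟩
    · exact ⟨y₁, hy₁Z, h1, hy₁P⟩
  have hbL : b ∉ L := fun h0 => hbP (Submodule.mem_sup_left h0)
  have hQa := haniso a haZ haL
  have hQb := haniso b hbZ hbL
  obtain ⟨haW, hxa, hva⟩ := mem_lineC.1 haZ
  obtain ⟨hbW, hxb, hvb⟩ := mem_lineC.1 hbZ
  -- the rotation
  have hmem : ⁅orefl Q a, orefl Q b⁆ ∈ EG Q := by
    rw [← commutator_eq_EG hd.nd (by omega)]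
    exact Subgroup.commutator_mem_commutator (Subgroup.mem_top _) (Subgroup.mem_top _)
  set ρ : EG Q := ⟨_, hmem⟩
  have happ : ∀ y, ρ.1.1 y = refl Q a (refl Q b (refl Q a (refl Q b y))) := fun y => by
    show (orefl Q a * orefl Q b * (orefl Q a)⁻¹ * (orefl Q b)⁻¹ : orth Q).1 y = _
    simp only [Subgroup.coe_mul, Subgroup.coe_inv, orefl, refl_inv]
    rfl
  have hfix : ∀ y, polar Q a y = 0 → polar Q b y = 0 → ρ.1.1 y = y := fun y h1 h2 => by
    rw [happ, refl_fix Q h2, refl_fix Q h1, refl_fix Q h2, refl_fix Q h1]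
  have hρ : ρ ∈ fix2 Q e f :=
    ⟨hfix e ((polar_comm Q _ _).trans (mem_core.1 haW).1) ((polar_comm Q _ _).trans (mem_core.1 hbW).1),
      hfix f ((polar_comm Q _ _).trans (mem_core.1 haW).2) ((polar_comm Q _ _).trans (mem_core.1 hbW).2)⟩
  have hcomm : g * ρ = ρ * g := by
    have h := el_conj ρ x v
    rw [hfix x ((polar_comm Q _ _).trans hxa) ((polar_comm Q _ _).trans hxb),
      hfix v ((polar_comm Q _ _).trans hva) ((polar_comm Q _ _).trans hvb)] at h
    exact (mul_inv_eq_iff_eq_mul.1 h).symm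
  have h := cz_comm hd hg hρ hcomm
  set N := Submodule.span F ({a, b} : Set V)
  have hd1 : ∀ r u, (r = a ∨ r = b) → refl Q r u - u ∈ N := fun r u hr => by
    rw [refl_apply, sub_sub_cancel_left]
    exact N.neg_mem (N.smul_mem _ (Submodule.subset_span (by simpa using hr)))
  have hρd : ∀ u, ρ.1.1 u - u ∈ N := fun u => by
    rw [happ]
    set u1 := refl Q b u
    set u2 := refl Q a u1
    set u3 := refl Q b u2
    rw [show refl Q a u3 - u = (refl Q a u3 - u3) + (u3 - u2) + (u2 - u1) + (u1 - u) by abel]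
    exact add_mem (add_mem (add_mem (hd1 a u3 (Or.inl rfl)) (hd1 b u2 (Or.inr rfl)))
      (hd1 a u1 (Or.inl rfl))) (hd1 b u (Or.inr rfl))
  have hLρ : ρ⁻¹.1.1 c - c ∈ L := by
    rw [h, el_inv_apply hl.spair, hl.qb]
    set c' := cz K e f ρ
    rw [show c' - polar Q x c' • v + (polar Q v c' - 0 * polar Q x c') • x - c' =
      (-(polar Q x c')) • v + (polar Q v c' - 0 * polar Q x c') • x by module]
    exact add_mem (L.smul_mem _ (Submodule.subset_span (by simp)))
      (L.smul_mem _ (Submodule.subset_span (by simp)))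
  have hNρ : ρ⁻¹.1.1 c - c ∈ N := by
    have := hρd (ρ⁻¹.1.1 c)
    rw [eg_apply_inv] at this
    simpa using N.neg_mem this
  have hzero : ρ⁻¹.1.1 c - c = 0 := by
    obtain ⟨α, β, hαβ⟩ := Submodule.mem_span_pair.1 hNρ
    rw [← hαβ] at hLρ ⊢
    by_cases hβ : β = 0
    · rw [hβ, zero_smul, add_zero] at hLρ ⊢
      by_contra hne
      obtain ⟨hα, -⟩ := smul_ne_zero_iff.1 hne
      exact haL (by simpa [smul_smul, inv_mul_cancel₀ hα] using L.smul_mem α⁻¹ hLρ)
    · refine absurd ?_ hbP
      rw [Submodule.mem_sup]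
      refine ⟨β⁻¹ • (α • a + β • b), L.smul_mem _ hLρ, (-(β⁻¹ * α)) • a,
        Submodule.smul_mem _ _ (Submodule.mem_span_singleton_self a), ?_⟩
      rw [smul_add, smul_smul, smul_smul, inv_mul_cancel₀ hβ, one_smul]; module
  have hρc : refl Q a (refl Q b (refl Q a (refl Q b c))) = c := by
    rw [← happ]
    conv_lhs => rw [← sub_eq_zero.1 hzero, eg_apply_inv]
  have hk : (Q b)⁻¹ * polar Q b a ≠ 0 :=
    mul_ne_zero (inv_ne_zero hQb) (by rwa [polar_comm])
  obtain ⟨hac, hac'⟩ := refl_comm_fix hQa hQb (fun t ht => hbP (Submodule.mem_sup_right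
    (Submodule.mem_span_singleton.2 ⟨((Q b)⁻¹ * polar Q b a)⁻¹ * (1 - t), by
      rw [refl_apply, sub_eq_iff_eq_add', ← sub_eq_iff_eq_add] at ht
      rw [← smul_smul, sub_smul, one_smul, ht, smul_smul, inv_mul_cancel₀ hk, one_smul]⟩))) hρc
  have hbc : polar Q b c = 0 := by
    rw [refl_apply, polar_sub_left, polar_smul_left, hac, zero_sub, neg_eq_zero, smul_eq_mul] at hac'
    exact (mul_eq_zero.1 hac').resolve_left hk
  refine mem_line_of_perp hd.nd hd.pair hx hv hcW fun u hu => ?_
  have hPc : ∀ w ∈ P ⊔ Submodule.span F ({b} : Set V), polar Q w c = 0 := fun w hw => by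
    obtain ⟨p, hp, s, hs, rfl⟩ := Submodule.mem_sup.1 hw
    obtain ⟨l, hl', s', hs', rfl⟩ := Submodule.mem_sup.1 hp
    obtain ⟨r, rfl⟩ := Submodule.mem_span_singleton.1 hs
    obtain ⟨r', rfl⟩ := Submodule.mem_span_singleton.1 hs'
    rw [polar_add_left, polar_add_left, hLc l hl', polar_smul_left, polar_smul_left, hac, hbc]
    simp
  refine hPc u ?_
  have hle : P ⊔ Submodule.span F ({b} : Set V) ≤ Z :=
    sup_le (sup_le (line_le_lineC hx hv hl) ((Submodule.span_singleton_le_iff_mem _ _).2 haZ))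
      ((Submodule.span_singleton_le_iff_mem _ _).2 hbZ)
  have hlt1 : L < P := lt_of_le_of_ne le_sup_left fun h0 =>
    haL (h0 ▸ Submodule.mem_sup_right (Submodule.mem_span_singleton_self a))
  have hlt2 : P < P ⊔ Submodule.span F ({b} : Set V) := lt_of_le_of_ne le_sup_left fun h0 =>
    hbP (h0 ▸ Submodule.mem_sup_right (Submodule.mem_span_singleton_self b))
  have h1 := Submodule.finrank_lt_finrank_of_lt hlt1
  have h2 := Submodule.finrank_lt_finrank_of_lt hlt2
  have hZ4 : finrank F Z ≤ 4 := by
    rw [finrank_perpS hd.nd]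
    have hind : LinearIndependent F ![e, f] := LinearIndependent.pair_iff.2 fun s t hst => by
      have ha := congrArg (polar Q e) hst
      have hb := congrArg (polar Q f) hst
      simp only [polar_add_right, polar_smul_right, hd.pair.pol_ee, hd.pair.pol, hd.pair.pol',
        hd.pair.pol_ff, polar_zero_right, smul_eq_mul, mul_zero, mul_one, zero_add, add_zero] at ha hb
      exact ⟨hb, ha⟩
    have hdis : Submodule.span F ({e, f} : Set V) ⊓ L = ⊥ := by
      rw [Submodule.eq_bot_iff]
      rintro w ⟨hw, hwL⟩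
      have hwW := mem_core.1 ((Submodule.span_le.2 (by
        rintro u' (rfl | rfl) <;> assumption) : L ≤ core Q e f) hwL)
      obtain ⟨s, t, rfl⟩ := Submodule.mem_span_pair.1 hw
      simp only [polar_add_right, polar_smul_right, hd.pair.pol_ee, hd.pair.pol, hd.pair.pol',
        hd.pair.pol_ff, smul_eq_mul, mul_zero, mul_one, zero_add, add_zero] at hwW
      rw [hwW.1, hwW.2]; simp
    have hs2 : finrank F (Submodule.span F ({e, f} : Set V)) = 2 := by
      have h := finrank_span_eq_card hind
      rw [Matrix.range_cons, Matrix.range_cons, Matrix.range_empty, Set.union_empty,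
        Set.singleton_union, Fintype.card_fin] at h
      exact h
    have h4 := Submodule.finrank_sup_add_finrank_inf_eq (Submodule.span F ({e, f} : Set V)) L
    rw [hdis, finrank_bot, hs2, hL2, ← Submodule.span_union,
      show ({e, f} : Set V) ∪ {x, v} = {e, f, x, v} by ext; simp; tauto] at h4
    omega
  rw [Submodule.eq_of_le_of_finrank_le hle (by omega)]
  exact hu

end Cfsg.Agent.Lib.MinIndexOmega
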