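import Mathlib
import Cfsg.Agent.Lib.MinIndexOmega.LineLift

/-!
Lib/MinIndexOmega/Neighbour: a point with trivial parameters and a point orthogonal to it. If the
second point has many parameters, or has trivial parameters and all lifts, the lift of a root
element at the first point is tied to the line.
-/

set_option autoImplicit false
set_option linter.unusedSectionVars false

namespace Cfsg.Agent.Lib.MinIndexOmega

open Module QuadraticMap Cfsg.Agent.Lib.Forms Cfsg.Agent.Lib.OrthOmega Cfsg.Agent.Lib.AutPOmega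

variable {F : Type*} [Field F] [Finite F] {V : Type*} [AddCommGroup V] [Module F V]
variable [FiniteDimensional F V] {Q : QuadraticForm F V} {e f x v : V} {K : Subgroup (EG Q)}

/-- The plane of a point and a line of its residue. -/
abbrev plane (F : Type*) [Field F] {V : Type*} [AddCommGroup V] [Module F V] (e x v : V) :
    Submodule F V :=
  Submodule.span F ({e, x, v} : Set V)

/-- A line with its point, and partners in the complement. -/
structure Frame (Q : QuadraticForm F V) (e f x v x' : V) : Prop where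
  hx : x ∈ core Q e f
  hv : v ∈ core Q e f
  hl : LPair Q x v
  hx' : x' ∈ core Q e f
  pair : HypPair Q x x'
  perp : polar Q v x' = 0

theorem exists_frame' (hQ : Nondeg Q) (hp : HypPair Q e f) (hx : x ∈ core Q e f)
    (hv : v ∈ core Q e f) (hl : LPair Q x v) : ∃ x', Frame Q e f x v x' := by
  have hli : LinearIndependent F ![e, f, x, v] := by
    rw [Fintype.linearIndependent_iff]
    intro g hg
    simp only [Fin.sum_univ_four, Matrix.cons_val] at hg
    have h0 := congrArg (polar Q e) hg
    have h1 := congrArg (polar Q f) hg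
    simp only [polar_add_right, polar_smul_right, hp.pol_ee, hp.pol, hp.pol', hp.pol_ff,
      (mem_core.1 hx).1, (mem_core.1 hx).2, (mem_core.1 hv).1, (mem_core.1 hv).2, polar_zero_right,
      smul_eq_mul, mul_zero, mul_one, zero_add, add_zero] at h0 h1
    rw [h0, h1, zero_smul, zero_smul, zero_add, zero_add] at hg
    obtain ⟨h2, h3⟩ := LinearIndependent.pair_iff.1 hl.ind _ _ hg
    intro i; fin_cases i
    · exact h1
    · exact h0
    · exact h2
    · exact h3
  obtain ⟨w, hw⟩ := exists_dual hQ hli ![0, 0, 1, 0]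
  have h0 : polar Q e w = 0 := hw 0
  have h1 : polar Q f w = 0 := hw 1
  have h2 : polar Q x w = 1 := hw 2
  have h3 : polar Q v w = 0 := hw 3
  refine ⟨w + (-(Q w)) • x, hx, hv, hl, ?_, ⟨hl.qa, ?_, ?_⟩, ?_⟩
  · rw [mem_core, polar_add_right, polar_add_right, polar_smul_right, polar_smul_right,
      (mem_core.1 hx).1, (mem_core.1 hx).2, h0, h1]
    simp
  · rw [Q_add, Q_smul, hl.qa, polar_smul_right, polar_comm Q w x, h2, smul_eq_mul]; ring
  · rw [polar_add_right, polar_smul_right, h2, polar_self', hl.qa]; simp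
  · rw [polar_add_right, polar_smul_right, h3, polar_comm Q v x, hl.perp]; simp

theorem plane_ts (hp : HypPair Q e f) (hx : x ∈ core Q e f) (hv : v ∈ core Q e f)
    (hl : LPair Q x v) : ∀ w ∈ plane F e x v, ∀ r ∈ plane F e x v, polar Q w r = 0 ∧ Q w = 0 := by
  intro w hw r hr
  rw [Submodule.mem_span_triple] at hw hr
  obtain ⟨a, b, c, rfl⟩ := hw
  obtain ⟨a', b', c', rfl⟩ := hr
  constructor <;>
  simp only [Q_add, Q_smul, polar_add_left, polar_add_right, polar_smul_left, polar_smul_right,
    hp.left, hl.qa, hl.qb, hp.pol_ee, (mem_core.1 hx).1, (mem_core.1 hv).1,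
    (polar_comm Q x e).trans (mem_core.1 hx).1, (polar_comm Q v e).trans (mem_core.1 hv).1,
    hl.perp, (polar_comm Q v x).trans hl.perp, show polar Q x x = 0 by rw [polar_self', hl.qa, mul_zero],
    show polar Q v v = 0 by rw [polar_self', hl.qb, mul_zero], smul_eq_mul, mul_zero, smul_zero,
    add_zero]

/-- A root element of the plane splits over the point. -/
theorem el_plane (hp : HypPair Q e f) (hx : x ∈ core Q e f) (hv : v ∈ core Q e f)
    (hl : LPair Q x v) (a0 a1 a2 b0 b1 b2 : F) :
    el Q (a0 • e + a1 • x + a2 • v) (b0 • e + b1 • x + b2 • v) =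
      el Q x ((a1 * b2 - a2 * b1) • v) *
        el Q e ((a0 * b1 - a1 * b0) • x + (a0 * b2 - a2 * b0) • v) := by
  have hts := plane_ts hp hx hv hl
  have hm : ∀ a b c : F, a • e + b • x + c • v ∈ plane F e x v := fun a b c =>
    add_mem (add_mem (Submodule.smul_mem _ _ (Submodule.subset_span (by simp)))
      (Submodule.smul_mem _ _ (Submodule.subset_span (by simp))))
      (Submodule.smul_mem _ _ (Submodule.subset_span (by simp)))
  obtain ⟨h1, h2⟩ := hts _ (hm a0 a1 a2) _ (hm b0 b1 b2)
  have hS : SPair Q (a0 • e + a1 • x + a2 • v) (b0 • e + b1 • x + b2 • v) := ⟨h2, h1⟩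
  have hSx : SPair Q x ((a1 * b2 - a2 * b1) • v) := hl.spair.smul _
  have hSe : SPair Q e ((a0 * b1 - a1 * b0) • x + (a0 * b2 - a2 * b0) • v) := ⟨hp.left, by
    rw [polar_add_right, polar_smul_right, polar_smul_right, (mem_core.1 hx).1, (mem_core.1 hv).1]
    simp⟩
  have hQ1 := (hts _ (hm b0 b1 b2) _ (hm b0 b1 b2)).2
  have hQ2 : Q ((a0 * b1 - a1 * b0) • x + (a0 * b2 - a2 * b0) • v) = 0 := by
    have := (hts _ (hm 0 (a0 * b1 - a1 * b0) (a0 * b2 - a2 * b0)) _
      (hm 0 (a0 * b1 - a1 * b0) (a0 * b2 - a2 * b0))).2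
    rwa [zero_smul, zero_add] at this
  refine EG_ext fun y => ?_
  rw [eg_mul_apply, el_apply hS, el_apply hSe, el_apply hSx, hQ1, hQ2, Q_smul, hl.qb]
  simp only [polar_add_left, polar_add_right, polar_sub_right, polar_smul_left, polar_smul_right,
    (mem_core.1 hx).1, (mem_core.1 hv).1, (polar_comm Q x e).trans (mem_core.1 hx).1,
    (polar_comm Q v e).trans (mem_core.1 hv).1,
    show polar Q x x = 0 by rw [polar_self', hl.qa, mul_zero],
    show polar Q v v = 0 by rw [polar_self', hl.qb, mul_zero], hl.perp,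
    (polar_comm Q v x).trans hl.perp, smul_eq_mul, mul_zero, zero_mul, add_zero, sub_zero]
  module

variable (hd : LiftData K e f)

include hd

/-- An element of `K` built inside the plane puts the lift on the line. -/
theorem plane_elt (h7 : 7 ≤ finrank F V) (hk : ∀ t : F, t ≠ 0 → t = 1 ∨ t = -1)
    (hx : x ∈ core Q e f) (hv : v ∈ core Q e f) (hl : LPair Q x v) {k : F} {l : V}
    (hl' : l ∈ Submodule.span F ({x, v} : Set V)) (hne : k ≠ 0 ∨ l ≠ 0)
    (hK : el Q x (k • v) * el Q e l ∈ K) :
    cz K e f (el Q x v) ∈ Submodule.span F ({x, v} : Set V) := by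
  have hlW : l ∈ core Q e f := (Submodule.span_le.2 (by
    rintro w (rfl | rfl) <;> assumption) : Submodule.span F ({x, v} : Set V) ≤ core Q e f) hl'
  by_cases hk0 : k = 0
  · rw [hk0, zero_smul, el_zero, one_mul] at hK
    exact absurd (eq_zero_of_mem hd.pair hd.trivial hlW hK) (hne.resolve_left (not_not.2 hk0))
  have h := cz_unique hd (el_mem_fix2 hx (Submodule.smul_mem _ k hv) (hl.spair.smul k)) hlW hK
  obtain ⟨hxc, hvc⟩ := cz_perp_line hd h7 hx hv hl
  rcases hk k hk0 with rfl | rfl
  · rw [one_smul] at h; rw [h]; exact hl'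
  · rw [show el Q x ((-1 : F) • v) = (el Q x v)⁻¹ by rw [el_inv, neg_one_smul],
      cz_inv hd (el_mem_fix2 hx hv hl.spair), el_fix hl.spair hxc hvc] at h
    rw [← neg_neg (cz K e f (el Q x v)), h]
    exact Submodule.neg_mem _ hl'

/-- Root elements at other points of the plane see the lift trivially. -/
theorem lift_commutes (hx : x ∈ core Q e f) (hv : v ∈ core Q e f) (hl : LPair Q x v)
    (h7 : 7 ≤ finrank F V) {r w : V} (hr : r ∈ plane F e x v) (hr' : ∀ t : F, r ≠ t • e)
    (hw : w ∈ perpS Q (plane F e x v)) (hrw : polar Q r w = 0)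
    (hK : el Q r w ∈ K) : polar Q (cz K e f (el Q x v)) w = 0 := by
  have hts := plane_ts hd.pair hx hv hl
  have heP : e ∈ plane F e x v := Submodule.subset_span (by simp)
  have hxP : x ∈ plane F e x v := Submodule.subset_span (by simp)
  have hvP : v ∈ plane F e x v := Submodule.subset_span (by simp)
  set c := cz K e f (el Q x v)
  obtain ⟨hcW, hcK⟩ := cz_spec hd (el_mem_fix2 hx hv hl.spair)
  obtain ⟨hxc, hvc⟩ := cz_perp_line hd h7 hx hv hl
  have hce : polar Q c e = 0 := (polar_comm Q _ _).trans (mem_core.1 hcW).1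
  have hcr : polar Q c r = 0 := by
    rw [Submodule.mem_span_triple] at hr
    obtain ⟨a, b, d, rfl⟩ := hr
    rw [polar_add_right, polar_add_right, polar_smul_right, polar_smul_right, polar_smul_right,
      hce, polar_comm Q c x, hxc, polar_comm Q c v, hvc]
    simp
  have hSc : SPair Q e c := ⟨hd.pair.left, (mem_core.1 hcW).1⟩
  have h := K.mul_mem (K.mul_mem hcK hK) (K.inv_mem hcK)
  rw [el_conj, eg_mul_apply, eg_mul_apply, el_fix hSc (hts e heP r hr).1 hcr,
    el_fix hl.spair (hts x hxP r hr).1 (hts v hvP r hr).1, el_apply_perp hSc (hw e heP), map_sub,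
    map_smul, el_fix hl.spair (hw x hxP) (hw v hvP),
    el_fix hl.spair ((polar_comm Q _ _).trans (mem_core.1 hx).1)
      ((polar_comm Q _ _).trans (mem_core.1 hv).1), sub_eq_add_neg, ← neg_smul] at h
  have hS1 : SPair Q r ((-polar Q c w) • e) := ⟨(hts r hr r hr).2, by
    rw [polar_smul_right, (hts r hr e heP).1, smul_zero]⟩
  rw [← el_mul ⟨(hts r hr r hr).2, hrw⟩ hS1, K.mul_mem_cancel_left hK] at h
  by_contra hne
  have ht : -polar Q c w ≠ 0 := neg_ne_zero.2 hne
  rw [el_swap (by rw [Q_smul, hd.pair.left, mul_zero]) (hts r hr r hr).2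
    (by rw [polar_smul_left, (hts e heP r hr).1, smul_zero]), el_smul_left ht] at h
  obtain ⟨t, htr⟩ := hd.trivial _ ⟨by
    rw [polar_smul_right, polar_neg_right, (hts e heP r hr).1, neg_zero, smul_zero], h⟩
  refine hr' (-((-polar Q c w)⁻¹ * t)) ?_
  rw [neg_smul, ← smul_smul, ← htr, smul_smul, inv_mul_cancel₀ ht, one_smul, neg_neg]

theorem mem_line_of_perp_plane (hx : x ∈ core Q e f) (hv : v ∈ core Q e f) {c : V}
    (hc : c ∈ core Q e f) (h : c ∈ perpS Q (perpS Q (plane F e x v))) :
    c ∈ Submodule.span F ({x, v} : Set V) := by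
  rw [perpS_perpS hd.nd, Submodule.mem_span_triple] at h
  obtain ⟨a, b, d, rfl⟩ := h
  have h1 := (mem_core.1 hc).2
  rw [polar_add_right, polar_add_right, polar_smul_right, polar_smul_right, polar_smul_right,
    hd.pair.pol', (mem_core.1 hx).2, (mem_core.1 hv).2] at h1
  simp only [smul_eq_mul, mul_one, mul_zero, add_zero] at h1
  rw [h1, zero_smul, zero_add]
  exact Submodule.mem_span_pair.2 ⟨b, d, rfl⟩

theorem finrank_plane (hx : x ∈ core Q e f) (hv : v ∈ core Q e f) (hl : LPair Q x v) :
    finrank F (plane F e x v) = 3 := by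
  have hli : LinearIndependent F ![e, x, v] := by
    rw [Fintype.linearIndependent_iff]
    intro g hg
    simp only [Fin.sum_univ_three, Matrix.cons_val] at hg
    have h1 := congrArg (polar Q f) hg
    simp only [polar_add_right, polar_smul_right, hd.pair.pol', (mem_core.1 hx).2,
      (mem_core.1 hv).2, polar_zero_right, smul_eq_mul, mul_zero, mul_one, add_zero] at h1
    rw [h1, zero_smul, zero_add] at hg
    obtain ⟨h2, h3⟩ := LinearIndependent.pair_iff.1 hl.ind _ _ hg
    intro i; fin_cases i <;> assumption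
  have h := finrank_span_eq_card hli
  rw [show Set.range ![e, x, v] = ({e, x, v} : Set V) by
    ext; simp [Matrix.range_cons, Matrix.range_empty]; tauto, Fintype.card_fin] at h
  exact h

/-- A point of the plane with many parameters puts the lift on the line. -/
theorem lift_of_big (h7 : 7 ≤ finrank F V) (hk : ∀ t : F, t ≠ 0 → t = 1 ∨ t = -1)
    (hx : x ∈ core Q e f) (hv : v ∈ core Q e f) (hl : LPair Q x v) {r : V}
    (hr : r ∈ plane F e x v) (hr' : ∀ t : F, r ≠ t • e) {U : Submodule F V}
    (hU : ∀ w ∈ U, polar Q r w = 0 ∧ el Q r w ∈ K) (hdim : finrank F V - 3 ≤ finrank F U) :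
    cz K e f (el Q x v) ∈ Submodule.span F ({x, v} : Set V) := by
  classical
  set P := plane F e x v
  have hP3 : finrank F P = 3 := finrank_plane hd hx hv hl
  set M := U ⊓ perpS Q P
  by_cases hcase : ∃ w ∈ M ⊓ P, ∀ t : F, w ≠ t • r
  · obtain ⟨w, ⟨⟨hwU, -⟩, hwP⟩, hne⟩ := hcase
    have hK := (hU w hwU).2
    obtain ⟨b0, b1, b2, rfl⟩ := Submodule.mem_span_triple.1 (show w ∈ P from hwP)
    obtain ⟨a0, a1, a2, rfl⟩ := Submodule.mem_span_triple.1 hr
    rw [el_plane hd.pair hx hv hl] at hK
    refine plane_elt hd h7 hk hx hv hl (Submodule.mem_span_pair.2 ⟨_, _, rfl⟩) ?_ hK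
    by_contra hcon
    push Not at hcon
    obtain ⟨hk0, hl0⟩ := hcon
    obtain ⟨h01, h02⟩ := LinearIndependent.pair_iff.1 hl.ind _ _ hl0
    by_cases ha1 : a1 = 0
    · by_cases ha2 : a2 = 0
      · exact hr' a0 (by rw [ha1, ha2, zero_smul, zero_smul, add_zero, add_zero])
      · refine hne (b2 / a2) ?_
        rw [smul_add, smul_add, smul_smul, smul_smul, smul_smul]
        congr 2 <;> congr 1 <;> field_simp
        · linear_combination -h02
        · linear_combination -hk0
    · refine hne (b1 / a1) ?_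
      rw [smul_add, smul_add, smul_smul, smul_smul, smul_smul]
      congr 2 <;> congr 1 <;> field_simp
      · linear_combination -h01
      · linear_combination hk0
  · push Not at hcase
    have hrU : finrank F (M ⊓ P : Submodule F V) ≤ 1 := by
      refine (Submodule.finrank_mono (t := Submodule.span F ({r} : Set V)) fun w hw => ?_).trans ?_
      · obtain ⟨t, ht⟩ := hcase w hw
        exact Submodule.mem_span_singleton.2 ⟨t, ht.symm⟩
      · refine (finrank_span_le_card (R := F) ({r} : Set V)).trans ?_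
        simp
    have hts := plane_ts hd.pair hx hv hl
    have hPle : P ≤ perpS Q P := fun w hw u hu => (hts u hu w hw).1
    have hr0 : r ≠ 0 := fun h => hr' 0 (by rw [h, zero_smul])
    set H := perpS Q (Submodule.span F ({r} : Set V))
    have hUH : U ⊔ perpS Q P ≤ H := sup_le
      (fun w hw => mem_perpS_span.2 fun u hu => by rw [Set.mem_singleton_iff.1 hu]; exact (hU w hw).1)
      (fun w hw => mem_perpS_span.2 fun u hu => by rw [Set.mem_singleton_iff.1 hu]; exact hw r hr)
    have h1 := Submodule.finrank_sup_add_finrank_inf_eq U (perpS Q P)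
    have h2 := Submodule.finrank_mono hUH
    have h3 : finrank F H = finrank F V - 1 := by
      rw [finrank_perpS hd.nd, finrank_span_singleton hr0]
    have h4 : finrank F (perpS Q P) = finrank F V - 3 := by rw [finrank_perpS hd.nd, hP3]
    have h5 := Submodule.finrank_sup_add_finrank_inf_eq M P
    have hMle : M ⊔ P ≤ perpS Q P := sup_le inf_le_right hPle
    have h6 : finrank F (U ⊓ perpS Q P : Submodule F V) = finrank F M := rfl
    have heq : M ⊔ P = perpS Q P :=
      Submodule.eq_of_le_of_finrank_le hMle (by omega)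
    obtain ⟨hxc, hvc⟩ := cz_perp_line hd h7 hx hv hl
    obtain ⟨hcW, -⟩ := cz_spec hd (el_mem_fix2 hx hv hl.spair)
    refine mem_line_of_perp_plane hd hx hv hcW fun u hu => ?_
    rw [← heq] at hu
    obtain ⟨m, ⟨hmU, hmP⟩, p, hp, rfl⟩ := Submodule.mem_sup.1 hu
    show polar Q (m + p) _ = 0
    rw [polar_add_left, polar_comm Q m, lift_commutes hd hx hv hl h7 hr hr' hmP (hU m hmU).1
      (hU m hmU).2, zero_add]
    rw [Submodule.mem_span_triple] at hp
    obtain ⟨a, b, d, rfl⟩ := hp
    rw [polar_add_left, polar_add_left, polar_smul_left, polar_smul_left, polar_smul_left,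
      (mem_core.1 hcW).1, hxc, hvc]
    simp

/-- A neighbour with lifts: its lift is orthogonal to ours, and off the plane unless ours is on the
line. -/
theorem lift_neighbour (h7 : 7 ≤ finrank F V) (hk : ∀ t : F, t ≠ 0 → t = 1 ∨ t = -1) {x' : V}
    (hfr : Frame Q e f x v x') (hdx : LiftData K x x') :
    ∃ m, m ∈ perpS Q (plane F e x v) ∧ m ∈ core Q x x' ∧ el Q e v * el Q x m ∈ K ∧
      polar Q (cz K e f (el Q x v)) m = 0 ∧
      (m ∈ plane F e x v → cz K e f (el Q x v) ∈ Submodule.span F ({x, v} : Set V)) := by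
  obtain ⟨hx, hv, hl, hx', hp', hvx'⟩ := hfr
  have hts := plane_ts hd.pair hx hv hl
  have heP : e ∈ plane F e x v := Submodule.subset_span (by simp)
  have hxP : x ∈ plane F e x v := Submodule.subset_span (by simp)
  have hvP : v ∈ plane F e x v := Submodule.subset_span (by simp)
  have hee : e ∈ core Q x x' := mem_core.2 ⟨(polar_comm Q _ _).trans (mem_core.1 hx).1,
    (polar_comm Q _ _).trans (mem_core.1 hx').1⟩
  have hvv : v ∈ core Q x x' := mem_core.2 ⟨hl.perp, (polar_comm Q _ _).trans hvx'⟩
  have hev : LPair Q e v := ⟨hd.pair.left, hl.qb, (mem_core.1 hv).1, by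
    refine LinearIndependent.pair_iff.2 fun s t hst => ?_
    have h1 := congrArg (polar Q f) hst
    simp only [polar_add_right, polar_smul_right, hd.pair.pol', (mem_core.1 hv).2, polar_zero_right,
      smul_eq_mul, mul_one, mul_zero, add_zero] at h1
    rw [h1, zero_smul, zero_add, smul_eq_zero] at hst
    exact ⟨h1, hst.resolve_right hl.ne'⟩⟩
  set m := cz K x x' (el Q e v)
  obtain ⟨hmW, hmK⟩ := cz_spec hdx (el_mem_fix2 hee hvv hev.spair)
  obtain ⟨hem, hvm⟩ := cz_perp_line hdx h7 hee hvv hev
  have hmP : m ∈ perpS Q (plane F e x v) := mem_perpS_span.2 fun u hu => by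
    rcases hu with rfl | rfl | rfl
    · exact hem
    · exact (mem_core.1 hmW).1
    · exact hvm
  refine ⟨m, hmP, hmW, hmK, ?_, fun hmem => ?_⟩
  · -- conjugate the neighbour's element by ours
    set c := cz K e f (el Q x v)
    obtain ⟨hcW, hcK⟩ := cz_spec hd (el_mem_fix2 hx hv hl.spair)
    obtain ⟨hxc, hvc⟩ := cz_perp_line hd h7 hx hv hl
    have hSc : SPair Q e c := ⟨hd.pair.left, (mem_core.1 hcW).1⟩
    have hcfix : ∀ u ∈ plane F e x v, (el Q x v * el Q e c).1.1 u = u := by
      intro u hu
      have hcu : polar Q c u = 0 := by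
        rw [Submodule.mem_span_triple] at hu
        obtain ⟨a, b, d, rfl⟩ := hu
        rw [polar_add_right, polar_add_right, polar_smul_right, polar_smul_right, polar_smul_right,
          (polar_comm Q c e).trans (mem_core.1 hcW).1, polar_comm Q c x, hxc, polar_comm Q c v, hvc]
        simp
      rw [eg_mul_apply, el_fix hSc (hts e heP u hu).1 hcu,
        el_fix hl.spair (hts x hxP u hu).1 (hts v hvP u hu).1]
    have hcm : (el Q x v * el Q e c).1.1 m = m + (-polar Q c m) • e := by
      rw [eg_mul_apply, el_apply_perp hSc hem, map_sub, map_smul,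
        el_fix hl.spair (mem_core.1 hmW).1 hvm,
        el_fix hl.spair (hts x hxP e heP).1 (hts v hvP e heP).1, sub_eq_add_neg, ← neg_smul]
    have hS2 : SPair Q x ((-polar Q c m) • e) :=
      ⟨hl.qa, by rw [polar_smul_right, (hts x hxP e heP).1, smul_zero]⟩
    have hconj : (el Q x v * el Q e c) * (el Q e v * el Q x m) * (el Q x v * el Q e c)⁻¹ =
        el Q e v * el Q x m * el Q x ((-polar Q c m) • e) := by
      rw [show (el Q x v * el Q e c) * (el Q e v * el Q x m) * (el Q x v * el Q e c)⁻¹ =
        ((el Q x v * el Q e c) * el Q e v * (el Q x v * el Q e c)⁻¹) *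
          ((el Q x v * el Q e c) * el Q x m * (el Q x v * el Q e c)⁻¹) by group, el_conj, el_conj,
        hcfix e heP, hcfix v hvP, hcfix x hxP, hcm, ← el_mul ⟨hl.qa, (mem_core.1 hmW).1⟩ hS2,
        mul_assoc]
    have h := K.mul_mem (K.mul_mem hcK hmK) (K.inv_mem hcK)
    rw [hconj, K.mul_mem_cancel_left hmK] at h
    by_contra hne
    have ht : -polar Q c m ≠ 0 := neg_ne_zero.2 hne
    rw [el_swap (by rw [Q_smul, hd.pair.left, mul_zero]) hl.qa
      (by rw [polar_smul_left, (hts e heP x hxP).1, smul_zero]), el_smul_left ht] at h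
    have h0 := eq_zero_of_mem hd.pair hd.trivial
      (Submodule.smul_mem _ _ (Submodule.neg_mem _ hx)) h
    rw [smul_eq_zero, neg_eq_zero (a := x)] at h0
    exact hl.ne (h0.resolve_left ht)
  · rw [Submodule.mem_span_triple] at hmem
    obtain ⟨a, b, d, hm⟩ := hmem
    have hb : b = 0 := by
      have h1 : polar Q x' m = 0 := (mem_core.1 hmW).2
      rw [← hm, polar_add_right, polar_add_right, polar_smul_right, polar_smul_right,
        polar_smul_right, (mem_core.1 hee).2, hp'.pol', (mem_core.1 hvv).2] at h1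
      simpa using h1
    rw [hb, zero_smul, add_zero] at hm
    have hS1 : SPair Q x (a • e + d • v) := by
      rw [hm]; exact ⟨hl.qa, (mem_core.1 hmW).1⟩
    have hK2 : el Q x (d • v) * el Q e (v - a • x) ∈ K := by
      have heq : el Q e v * el Q x m = el Q x (d • v) * el Q e (v - a • x) := by
        rw [← hm]
        refine EG_ext fun y => ?_
        rw [eg_mul_apply, eg_mul_apply, el_apply hev.spair, el_apply hS1,
          el_apply (hl.spair.smul d), el_apply (show SPair Q e (v - a • x) from ⟨hd.pair.left, by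
            rw [polar_sub_right, polar_smul_right, (mem_core.1 hv).1, (mem_core.1 hx).1]; simp⟩)]
        simp only [sub_eq_add_neg, Q_add, Q_smul, QuadraticMap.map_neg, hd.pair.left, hl.qa, hl.qb,
          polar_add_left, polar_add_right, polar_neg_left, polar_neg_right, polar_smul_left,
          polar_smul_right, (mem_core.1 hx).1, (mem_core.1 hv).1,
          (polar_comm Q x e).trans (mem_core.1 hx).1, (polar_comm Q v e).trans (mem_core.1 hv).1,
          hd.pair.pol_ee, show polar Q x x = 0 by rw [polar_self', hl.qa, mul_zero],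
          show polar Q v v = 0 by rw [polar_self', hl.qb, mul_zero], hl.perp,
          (polar_comm Q v x).trans hl.perp, smul_eq_mul, mul_zero, zero_mul, add_zero, zero_add,
          neg_zero]
        module
      exact heq ▸ hmK
    refine plane_elt hd h7 hk hx hv hl ?_ (Or.inr fun h0 => ?_) hK2
    · exact Submodule.sub_mem _ (Submodule.subset_span (by simp))
        (Submodule.smul_mem _ _ (Submodule.subset_span (by simp)))
    · have := (LinearIndependent.pair_iff.1 hl.ind (-a) 1 (by rw [← h0]; module)).2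
      exact one_ne_zero this

end Cfsg.Agent.Lib.MinIndexOmega
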