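import Mathlib
import Cfsg.Agent.Lib.MinIndexOmega.EvenSeries
import Cfsg.Agent.Lib.MinIndexOmega.LineLift

/-!
Lib/MinIndexOmega/Small: the Levi part over any field; the minus series over every field.
-/

set_option autoImplicit false

namespace Cfsg.Agent.Lib.MinIndexOmega

open Module QuadraticMap Cfsg.Agent.Lib.Forms Cfsg.Agent.Lib.OrthOmega Cfsg.Agent.Lib.AutPOmega

theorem hasLevi_of_nine {F : Type*} [Field F] [Finite F] {V : Type*} [AddCommGroup V] [Module F V]
    [FiniteDimensional F V] {Q : QuadraticForm F V} {K : Subgroup (EG Q)} (hQ : Nondeg Q)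
    (h9 : 9 ≤ finrank F V) {e : V} (he0 : e ≠ 0) (he : Q e = 0)
    (hpp : ∀ w ∈ pp K he, ∃ t : F, w = t • e)
    (hlt : K.relIndex (pStab Q e) < 2 * Nat.card F ^ (finrank F V - 2)) : HasLevi K e := by
  obtain ⟨f, hp⟩ := exists_hypPair hQ he0 he
  have hd : LiftData K e f := ⟨hp, hQ, hpp, hlt⟩
  exact hasLevi_of_lineLift hd (by omega) (lineLift_of_nine hd h9)

variable {F : Type*} [Field F] [Fintype F] {V : Type*} [AddCommGroup V] [Module F V]
variable [FiniteDimensional F V] {Q : QuadraticForm F V} {m : ℕ}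

theorem MinusData.hasLevi (h : MinusData Q m) (hm : 4 ≤ m) {K : Subgroup (EG Q)} {e : V}
    (he0 : e ≠ 0) (he : Q e = 0) (hpp : ∀ w ∈ pp K he, ∃ t : F, w = t • e)
    (hlt : K.relIndex (pStab Q e) < 2 * Nat.card F ^ (finrank F V - 2)) : HasLevi K e := by
  rcases (show 5 ≤ m ∨ m = 4 by omega) with h5 | rfl
  · exact hasLevi_of_nine h.nd (by rw [h.rank]; omega) he0 he hpp hlt
  · obtain ⟨f, hp⟩ := exists_hypPair h.nd he0 he
    have hd : LiftData K e f := ⟨hp, h.nd, hpp, hlt⟩
    exact hasLevi_of_lineLift hd (by rw [h.rank]; omega) (lineLift_of_eight hd h.rank h.witt)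

/-- Over a prime field the parameters form a subspace. -/
theorem smul_mem_pp {p : ℕ} (hp : Nat.card F = p) [CharP F p] (K : Subgroup (EG Q)) {e : V}
    (he : Q e = 0) (t : F) {w : V} (hw : w ∈ pp K he) : t • w ∈ pp K he := by
  obtain ⟨n, rfl⟩ : ∃ n : ℕ, (n : F) = t := by
    have hinj : Function.Injective fun i : Fin p => ((i : ℕ) : F) := fun i j hij => by
      have h1 := (CharP.natCast_eq_natCast F p).1 hij
      rw [Nat.ModEq, Nat.mod_eq_of_lt i.2, Nat.mod_eq_of_lt j.2] at h1
      exact Fin.ext h1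
    obtain ⟨i, hi⟩ := ((Fintype.bijective_iff_injective_and_card _).2 ⟨hinj, by
      rw [Fintype.card_fin, ← hp, Nat.card_eq_fintype_card]⟩).2 t
    exact ⟨i, hi⟩
  rw [Nat.cast_smul_eq_nsmul]
  exact AddSubgroup.nsmul_mem _ hw n

/-- Anisotropic parameters in the minus form of dimension eight over two and three elements. -/
theorem minus_four_aniso (h : MinusData Q 4) {p : ℕ} (hp : p.Prime) [CharP F p]
    (hq : Nat.card F = p) (hp23 : p = 2 ∨ p = 3) {K : Subgroup (EG Q)} {e : V} (he0 : e ≠ 0)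
    (he : Q e = 0) (hs : Nat.card (pp K he) ≤ Nat.card F ^ 4) {b : V} (hb : b ∈ pp K he)
    (hb0 : Q b ≠ 0) :
    (Nat.card F ^ 7 + Nat.card F ^ 3 - Nat.card F ^ 4 - 1) / (Nat.card F - 1) ≤ K.index := by
  classical
  haveI := finite_V F V
  have hn : 7 ≤ finrank F V := by rw [h.rank]; omega
  have hlev : ∀ c : F, (lev Q e c).ncard + Nat.card F ^ 7 =
      levelCard Q c + Nat.card F ^ 6 := fun c => lev_even h.toEvenData (by omega) he0 he c
  have hz : levelCard Q 0 + Nat.card F ^ 4 = Nat.card F ^ 7 + Nat.card F ^ 3 := h.zero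
  have hL : ∀ d : F, d ≠ 0 → Nat.card F ^ 6 + Nat.card F ^ 3 ≤ (lev Q e d).ncard := by
    intro d hd
    have h1 := hlev d
    have h2 : levelCard Q d = Nat.card F ^ 7 + Nat.card F ^ 3 := h.value d hd
    omega
  have hcl := card_cl_aniso hb hb0 hL
  have h1 := cl_bound h.nd hn he0 he (K := K)
  rw [h.rank] at h1
  let U : Submodule F V :=
    { carrier := (pp K he : Set V)
      add_mem' := fun ha hb => (pp K he).add_mem ha hb
      zero_mem' := zero_mem (pp K he)
      smul_mem' := fun t w hw => smul_mem_pp hq K he t hw }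
  have hcardU : Nat.card (pp K he) = p ^ finrank F U := by
    rw [← hq, ← Module.natCard_eq_pow_finrank (K := F)]
    exact Nat.card_congr (Equiv.refl _)
  rw [hcardU, hq] at hs
  have hk4 := (Nat.pow_le_pow_iff_right hp.one_lt).1 hs
  have hz0 := hlev 0
  have hchar : Nat.card F ^ 2 < Nat.card (pp K he) →
      p * (cl K he).ncard * Nat.card F ^ (2 * (2 * 4) - 5) ≤
        K.index * Nat.card (pp K he) * Nat.card (pp K he) *
          (Nat.card (pp K he) - Nat.card F) := fun hlt => by
    have := cl_bound_char h.nd hn hp he0 he hlt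
    rwa [h.rank] at this
  have hboth : finrank F U = 4 → (Nat.card F - 1) * (Nat.card F ^ 6 + Nat.card F ^ 3) +
      gd F * (lev Q e 0).ncard ≤ gd F * ((cl K he).ncard + Nat.card F) := by
    intro hU
    have heU : e ∈ U := show e ∈ pp K he by simpa using smul_self_mem_pp K he (1 : F)
    obtain ⟨C, hC⟩ := Submodule.exists_isCompl ((Submodule.span F ({e} : Set V)).comap U.subtype)
    obtain ⟨_, ⟨w, hwC, rfl⟩, hw0, hQw⟩ := exists_singular_any (Q := Q) (C.map U.subtype) (by
      rw [← (Submodule.equivMapOfInjective U.subtype Subtype.val_injective C).finrank_eq]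
      have h1 := Submodule.finrank_add_eq_of_isCompl hC
      have h2 : finrank F ((Submodule.span F ({e} : Set V)).comap U.subtype) = 1 := by
        rw [(Submodule.comapSubtypeEquivOfLe
          ((Submodule.span_singleton_le_iff_mem _ _).2 heU)).finrank_eq, finrank_span_singleton he0]
      omega)
    refine card_cl_both he0 hb hb0 (show (w : V) ∈ pp K he from w.2) (fun t ht => hw0 ?_) hQw hL
    exact congrArg Subtype.val ((Submodule.disjoint_def.1 hC.disjoint) w
      (Submodule.mem_span_singleton.2 ⟨t, ht.symm⟩) hwC)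
  rw [hcardU] at h1
  rcases hp23 with rfl | rfl
  · have hg : gd F = 1 := gd_even (by exact_mod_cast CharP.cast_eq_zero F 2)
    rw [hq] at hcl h1 hz0 hz hchar hboth ⊢
    rw [hg] at hcl hboth
    rcases (show finrank F U ≤ 2 ∨ finrank F U = 3 ∨ finrank F U = 4 by omega) with hk | hk | hk
    · have h2 : 2 ^ finrank F U ≤ 4 := (Nat.pow_le_pow_right (by omega) hk).trans (by norm_num)
      have h3 := h1.trans (Nat.mul_le_mul (Nat.mul_le_mul_left K.index h2)
        ((Nat.sub_le _ _).trans h2))
      norm_num at hcl h3 ⊢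
      omega
    · have h3 := hchar (by rw [hcardU, hk]; norm_num)
      rw [hcardU, hk] at h3
      norm_num at hcl h3 ⊢
      omega
    · have h3 := hchar (by rw [hcardU, hk]; norm_num)
      rw [hcardU, hk] at h3
      have h4 := hboth hk
      norm_num at hz0 hz h4 h3 ⊢
      omega
  · have hg : gd F = 2 := gd_odd fun h2 => by
      have h3 : ((3 : ℕ) : F) = 0 := CharP.cast_eq_zero F 3
      push_cast at h3
      exact one_ne_zero (show (1 : F) = 0 by linear_combination h3 - h2)
    rw [hq] at hcl h1 hz0 hz hchar hboth ⊢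
    rw [hg] at hcl hboth
    rcases (show finrank F U ≤ 2 ∨ finrank F U = 3 ∨ finrank F U = 4 by omega) with hk | hk | hk
    · have h2 : 3 ^ finrank F U ≤ 9 := (Nat.pow_le_pow_right (by omega) hk).trans (by norm_num)
      have h3 := h1.trans (Nat.mul_le_mul (Nat.mul_le_mul_left K.index h2)
        ((Nat.sub_le _ _).trans h2))
      norm_num at hcl h3 ⊢
      omega
    · have h3 := hchar (by rw [hcardU, hk]; norm_num)
      rw [hcardU, hk] at h3
      norm_num at hcl h3 ⊢
      omega
    · have h3 := hchar (by rw [hcardU, hk]; norm_num)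
      rw [hcardU, hk] at h3
      have h4 := hboth hk
      norm_num at hz0 hz h4 h3 ⊢
      omega

/-- The minus series over every field. -/
theorem minus_bound_all (h : MinusData Q m) (hm : 4 ≤ m) {K : Subgroup (EG Q)} (hK : K ≠ ⊤) :
    singCard Q / (Nat.card F - 1) ≤ K.index := by
  classical
  set T := singCard Q / (Nat.card F - 1) with hTdef
  have hTmul : T * (Nat.card F - 1) ≤ singCard Q := Nat.div_mul_le_self _ _
  by_cases hq4 : 4 ≤ Nat.card F
  · exact minus_bound h hm hq4 hTmul hK
  have hq2 : 2 ≤ Nat.card F := Finite.one_lt_card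
  have hn : 7 ≤ finrank F V := by rw [h.rank]; omega
  have hle : Nat.card F ^ (m - 1) ≤ Nat.card F ^ m :=
    Nat.pow_le_pow_right Nat.card_pos (by omega)
  have hz := h.zero
  have hsc := singCard_eq Q
  have hT1 : T * (Nat.card F - 1) ≤ Nat.card F ^ (2 * m - 1) := by omega
  have e2 : Nat.card F ^ (2 * m - 1) = Nat.card F * Nat.card F ^ (2 * m - 2) := by
    rw [← pow_succ', show 2 * m - 2 + 1 = 2 * m - 1 by omega]
  have hT : T ≤ 2 * Nat.card F ^ (2 * m - 2) := by
    refine Nat.le_of_mul_le_mul_right (hT1.trans ?_) (show 0 < Nat.card F - 1 by omega)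
    calc Nat.card F ^ (2 * m - 1) = Nat.card F * Nat.card F ^ (2 * m - 2) := e2
      _ ≤ 2 * (Nat.card F - 1) * Nat.card F ^ (2 * m - 2) :=
          Nat.mul_le_mul_right _ (by omega)
      _ = _ := by ring
  obtain ⟨e, he, he0, hs⟩ := exists_small h.nd hn hK
  rw [h.rank, show 2 * m / 2 = m by omega] at hs
  obtain ⟨p, hchar⟩ := CharP.exists F
  have hp : p.Prime := CharP.char_is_prime F p
  have hqp : Nat.card F = p ∧ (p = 2 ∨ p = 3) := by
    obtain ⟨k, -, hk⟩ := FiniteField.card F p
    rw [← Nat.card_eq_fintype_card] at hk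
    have h2 : p ≤ Nat.card F := hk ▸ Nat.le_self_pow k.2.ne' _
    have := hp.two_le
    have hk1 : (k : ℕ) = 1 := by
      by_contra hne
      have h3 : 2 ^ 2 ≤ Nat.card F := hk ▸ (Nat.pow_le_pow_left hp.two_le 2).trans
        (Nat.pow_le_pow_right hp.pos (by have := k.pos; omega))
      omega
    rw [hk1, pow_one] at hk
    exact ⟨hk, by omega⟩
  by_cases hpp : ∀ w ∈ pp K he, ∃ t : F, w = t • e
  · refine bot_bound h.nd hn he0 he hpp (h.hasLevi hm he0 he hpp) hTmul
      (by rw [h.rank]; exact hT) fun c hc => ?_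
    rw [h.value c hc]
    refine le_trans ?_ (Nat.le_add_right _ _)
    refine le_trans (Nat.mul_le_mul_left _ ?_) hT1
    rcases hqp.2 with rfl | rfl
    · rw [gd_even (by exact_mod_cast CharP.cast_eq_zero F 2)]; omega
    · have := gd_le_two (F := F); omega
  push Not at hpp
  obtain ⟨a, ha, ha'⟩ := hpp
  by_cases hall : ∀ w ∈ pp K he, Q w = 0
  · have hC := h.cl_sing_ge hm he0 he ha ha' (hall a ha)
    have h1 := even_ts h.toEvenData he0 he hm (show 2 * m + 1 ≤ 3 * (m - 1) by omega) hC
      (h.witt _ (span_pp_singular hall))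
    refine hT.trans (Nat.le_of_mul_le_mul_right (le_trans ?_ h1) (pow_pos Nat.card_pos _))
    calc 2 * Nat.card F ^ (2 * m - 2) * Nat.card F ^ (3 * (m - 1))
        ≤ Nat.card F ^ (2 * m - 1) * Nat.card F ^ (3 * (m - 1)) := by
          rw [e2]; exact Nat.mul_le_mul_right _ (Nat.mul_le_mul_right _ hq2)
      _ ≤ _ := by rw [← pow_add]; exact Nat.pow_le_pow_right Nat.card_pos (by omega)
  push Not at hall
  obtain ⟨b, hb, hb0⟩ := hall
  rcases (show 5 ≤ m ∨ m = 4 by omega) with h5 | rfl
  · have h1 := even_aniso h.toEvenData hm hp he0 he hs hb hb0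
    have hg : 0 < gd F ∧ gd F * 2 ≤ p * (Nat.card F - 1) := by
      rcases hqp.2 with rfl | rfl
      · rw [gd_even (by exact_mod_cast CharP.cast_eq_zero F 2), hqp.1]; omega
      · have h2 := gd_le_two (F := F)
        have h3 : 0 < gd F := by
          rcases eq_or_ne (2 : F) 0 with h2 | h2
          · rw [gd_even h2]; omega
          · rw [gd_odd h2]; omega
        rw [hqp.1]; omega
    refine Nat.le_of_mul_le_mul_left (le_trans ?_ h1) hg.1
    calc gd F * T ≤ gd F * (2 * Nat.card F ^ (2 * m - 2)) := Nat.mul_le_mul_left _ hT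
      _ = gd F * 2 * Nat.card F ^ (2 * m - 2) := by ring
      _ ≤ _ := Nat.mul_le_mul hg.2 (Nat.pow_le_pow_right Nat.card_pos (by omega))
  · refine le_trans (Nat.div_le_div_right ?_) (minus_four_aniso h hp hqp.1 hqp.2 he0 he hs hb hb0)
    simp only [show 2 * 4 - 1 = 7 from rfl, show 4 - 1 = 3 from rfl] at hz
    omega

end Cfsg.Agent.Lib.MinIndexOmega
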