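import Mathlib
import Cfsg.Agent.Lib.MinIndexOmega.Small
import Cfsg.Agent.Lib.MinIndexOmega.Neighbour

/-!
Lib/MinIndexOmega/OddThree: the odd series over three elements, and the stabiliser of a
non-singular line.
-/

set_option autoImplicit false
set_option linter.unusedSectionVars false

namespace Cfsg.Agent.Lib.MinIndexOmega

open Module QuadraticMap Cfsg.Agent.Lib.Forms Cfsg.Agent.Lib.OrthOmega Cfsg.Agent.Lib.AutPOmega
open Cfsg.Agent.Lib.OrthStd

section Stab

variable {F : Type*} [Field F] [Finite F] {V : Type*} [AddCommGroup V] [Module F V]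
variable [FiniteDimensional F V] {Q : QuadraticForm F V}

/-- The index of the stabiliser of a line. -/
theorem lineStab_index (hQ : Nondeg Q) (h4 : 4 ≤ finrank F V) {z : V} (hz : z ≠ 0) :
    (pStab Q z).index * Nat.card {t : F // t ≠ 0 ∧ t * t * Q z = Q z} =
      Nat.card {v : V // v ≠ 0 ∧ Q v = Q z} := by
  classical
  haveI := finite_EG (Q := Q)
  haveI := finite_V F V
  refine le_antisymm ?_ (card_level_le_index_mul hQ h4 hz fun k hk => let ⟨t, _, ht⟩ := hk; ⟨t, ht⟩)
  rw [Subgroup.index, ← Nat.card_prod]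
  refine Nat.card_le_card_of_injective
    (fun p : (EG Q ⧸ pStab Q z) × {t : F // t ≠ 0 ∧ t * t * Q z = Q z} =>
    (⟨p.2.1 • (Quotient.out p.1).1.1 z, smul_ne_zero p.2.2.1 fun h => hz
      ((Quotient.out p.1).1.1.injective (h.trans (map_zero _).symm)),
      by rw [Q_smul, eg_Q, p.2.2.2]⟩ : {v : V // v ≠ 0 ∧ Q v = Q z})) ?_
  rintro ⟨c, t⟩ ⟨c', t'⟩ h
  have h1 : t.1 • (Quotient.out c).1.1 z = t'.1 • (Quotient.out c').1.1 z := congrArg Subtype.val h
  have hc : c = c' := by
    rw [← Quotient.out_eq c, ← Quotient.out_eq c']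
    refine QuotientGroup.eq.2 ⟨t.1 / t'.1, div_ne_zero t.2.1 t'.2.1, ?_⟩
    have h2 := congrArg (fun v => t'.1⁻¹ • ((Quotient.out c)⁻¹).1.1 v) h1
    simp only [map_smul, eg_inv_apply, smul_smul, inv_mul_cancel₀ t'.2.1, one_smul] at h2
    rw [eg_mul_apply, ← h2, div_eq_inv_mul]
  subst hc
  have h2 := smul_left_injective F (fun h => hz ((Quotient.out c).1.1.injective
    (h.trans (map_zero _).symm))) h1
  rw [Subtype.ext h2]

end Stab

variable {F : Type*} [Field F] [Fintype F]

theorem three_facts (hq : Nat.card F = 3) :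
    ∃ _ : CharP F 3, (2 : F) ≠ 0 ∧ (∀ t : F, t ≠ 0 → t = 1 ∨ t = -1) := by
  classical
  obtain ⟨p, hchar⟩ := CharP.exists F
  have hp : p.Prime := CharP.char_is_prime F p
  obtain ⟨k, -, hk⟩ := FiniteField.card F p
  rw [← Nat.card_eq_fintype_card, hq] at hk
  have hp3 : p = 3 := ((Nat.prime_dvd_prime_iff_eq hp Nat.prime_three).1
    (hk ▸ dvd_pow_self p k.2.ne'))
  subst hp3
  refine ⟨hchar, fun h2 => ?_, fun t ht => ?_⟩
  · have h3 : ((3 : ℕ) : F) = 0 := CharP.cast_eq_zero F 3
    push_cast at h3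
    exact one_ne_zero (show (1 : F) = 0 by linear_combination h3 - h2)
  · have h := FiniteField.pow_card_sub_one_eq_one t ht
    rw [← Nat.card_eq_fintype_card, hq, show 3 - 1 = 2 from rfl, pow_two] at h
    exact mul_self_eq_one_iff.1 h

variable {V : Type*} [AddCommGroup V] [Module F V] [FiniteDimensional F V]
variable {Q : QuadraticForm F V} {m : ℕ}

/-- Few parameters, not all on the point. -/
theorem three_point (h : OddData Q m) (hm : 3 ≤ m) (hq : Nat.card F = 3) {K : Subgroup (EG Q)}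
    {e : V} (he0 : e ≠ 0) (he : Q e = 0) (hs : Nat.card (pp K he) ≤ Nat.card F ^ m) {a : V}
    (ha : a ∈ pp K he) (ha' : ∀ t : F, a ≠ t • e) :
    3 ^ m * (3 ^ m - 1) / 2 ≤ K.index := by
  classical
  obtain ⟨_, h2, -⟩ := three_facts hq
  have hn : 7 ≤ finrank F V := by rw [h.rank]; omega
  have hz := h.lev_zero (by omega) he0 he
  have hL : ∀ d : F, d ≠ 0 → Nat.card F ^ (2 * m - 1) - Nat.card F ^ m ≤ (lev Q e d).ncard :=
    fun d hd => h.lev_nonzero (by omega) he0 he hd
  rw [hq] at hs hz hL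
  set T := 3 ^ m * (3 ^ m - 1) / 2
  have hT : T ≤ 3 ^ (2 * m) / 2 := by
    refine Nat.div_le_div_right ?_
    rw [two_mul, pow_add]
    exact Nat.mul_le_mul_left _ (Nat.sub_le _ _)
  have e1 : 3 ^ (2 * m) = 9 * 3 ^ (2 * m - 2) := by
    rw [show (9 : ℕ) = 3 ^ 2 by norm_num, ← pow_add]; congr 1; omega
  by_cases hall : ∀ w ∈ pp K he, Q w = 0
  · have hcl := card_cl_sing he0 ha ha' (hall a ha)
    rw [hz, hq] at hcl
    have hC : 2 * 3 ^ (2 * m - 2) ≤ (cl K he).ncard := by
      have h1 : 3 ^ (2 * m - 1) = 3 * 3 ^ (2 * m - 2) := by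
        rw [← pow_succ', show 2 * m - 2 + 1 = 2 * m - 1 by omega]
      have h3 : 3 ≤ 3 ^ (2 * m - 2) := Nat.le_self_pow (by omega) _
      omega
    refine hT.trans (le_trans (b := 2 * 3 ^ (2 * m - 1)) ?_ ?_)
    · have : 3 ^ (2 * m - 1) = 3 * 3 ^ (2 * m - 2) := by
        rw [← pow_succ', show 2 * m - 2 + 1 = 2 * m - 1 by omega]
      omega
    by_cases hs2 : Nat.card F ^ 2 < Nat.card (pp K he)
    · have hj := finrank_span_pp_le h.nd hall
      rw [h.rank] at hj
      have h1 := cl_bound_ts h.nd hn he0 he hs2 (j := m) (by omega)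
      rw [h.rank, hq, show 2 * (2 * m + 1) - 5 = 4 * m - 3 by omega] at h1
      refine Nat.le_of_mul_le_mul_right (c := 3 ^ (3 * m - 1)) ?_ (pow_pos (by omega) _)
      calc 2 * 3 ^ (2 * m - 1) * 3 ^ (3 * m - 1)
          ≤ 2 * 3 ^ (2 * m - 2) * 3 ^ (4 * m - 3) := by
            rw [mul_assoc, mul_assoc, ← pow_add, ← pow_add]
            exact Nat.mul_le_mul_left _ (Nat.pow_le_pow_right (by omega) (by omega))
        _ ≤ (cl K he).ncard * 3 ^ (4 * m - 3) := Nat.mul_le_mul_right _ hC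
        _ ≤ K.index * 3 ^ (m - 1) * 3 ^ m * 3 ^ m := h1.trans (Nat.mul_le_mul
            (Nat.mul_le_mul_left _ hs) ((Nat.sub_le _ _).trans hs))
        _ = _ := by
            rw [mul_assoc, mul_assoc, ← pow_add, ← pow_add]
            congr 2; omega
    · push Not at hs2
      have h1 := cl_bound h.nd hn he0 he (K := K)
      rw [h.rank, hq, show 2 * m + 1 - 1 = 2 * m by omega] at h1
      rw [hq] at hs2
      refine Nat.le_of_mul_le_mul_right (c := 3 ^ 4) ?_ (by norm_num)
      calc 2 * 3 ^ (2 * m - 1) * 3 ^ 4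
          ≤ 2 * 3 ^ (2 * m - 2) * 3 ^ (2 * m) := by
            rw [mul_assoc, mul_assoc, ← pow_add, ← pow_add]
            exact Nat.mul_le_mul_left _ (Nat.pow_le_pow_right (by omega) (by omega))
        _ ≤ (cl K he).ncard * 3 ^ (2 * m) := Nat.mul_le_mul_right _ hC
        _ ≤ K.index * 3 ^ 2 * 3 ^ 2 := h1.trans (Nat.mul_le_mul
            (Nat.mul_le_mul_left _ hs2) ((Nat.sub_le _ _).trans hs2))
        _ = _ := by ring
  · push Not at hall
    obtain ⟨b, hb, hb0⟩ := hall
    have hcl := card_cl_aniso hb hb0 hL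
    rw [gd_odd h2, hq] at hcl
    have hcl' : 3 ^ (2 * m - 1) - 3 ^ m ≤ (cl K he).ncard := by omega
    have hL2 : 3 ^ (2 * m - 2) ≤ 3 ^ (2 * m - 1) - 3 ^ m := by
      have h1 : 3 ^ (2 * m - 1) = 3 * 3 ^ (2 * m - 2) := by
        rw [← pow_succ', show 2 * m - 2 + 1 = 2 * m - 1 by omega]
      have : 3 ^ m ≤ 3 ^ (2 * m - 2) := Nat.pow_le_pow_right (by omega) (by omega)
      omega
    refine hT.trans ((Nat.div_le_self _ _).trans ?_)
    by_cases hs2 : Nat.card F ^ 2 < Nat.card (pp K he)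
    · obtain ⟨hc, -, -⟩ := three_facts hq
      have h1 := cl_bound_char h.nd hn Nat.prime_three he0 he hs2
      rw [h.rank, hq, show 2 * (2 * m + 1) - 5 = 4 * m - 3 by omega] at h1
      refine le_trans (b := 3 ^ (3 * m - 3)) (Nat.pow_le_pow_right (by omega) (by omega)) ?_
      set L := 3 ^ (2 * m - 1) - 3 ^ m with hLdef
      have hpos : 0 < L := lt_of_lt_of_le (pow_pos (by omega) _) hL2
      have hsub : 3 * (3 ^ (m - 1) - 1) * 3 ^ m = 3 * L := by
        rw [hLdef, mul_assoc, Nat.sub_mul, one_mul, ← pow_add,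
          show m - 1 + m = 2 * m - 1 by omega]
      have h2' : Nat.card (pp K he) - 3 ≤ 3 * (3 ^ (m - 1) - 1) := by
        rw [Nat.mul_sub, mul_one, ← pow_succ', show m - 1 + 1 = m by omega]
        omega
      refine Nat.le_of_mul_le_mul_right (c := 3 ^ (m + 1) * L) ?_
        (Nat.mul_pos (pow_pos (by omega) _) hpos)
      calc 3 ^ (3 * m - 3) * (3 ^ (m + 1) * L) = 3 * L * 3 ^ (4 * m - 3) := by
            rw [show 4 * m - 3 = 3 * m - 3 + m by omega, pow_succ, pow_add]; ring
        _ ≤ 3 * (cl K he).ncard * 3 ^ (4 * m - 3) :=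
            Nat.mul_le_mul_right _ (Nat.mul_le_mul_left _ hcl')
        _ ≤ K.index * Nat.card (pp K he) * Nat.card (pp K he) * (Nat.card (pp K he) - 3) := h1
        _ ≤ K.index * 3 ^ m * 3 ^ m * (3 * (3 ^ (m - 1) - 1)) :=
            Nat.mul_le_mul (Nat.mul_le_mul (Nat.mul_le_mul_left _ hs) hs) h2'
        _ = K.index * 3 ^ m * (3 * (3 ^ (m - 1) - 1) * 3 ^ m) := by ring
        _ = _ := by rw [hsub]; ring
    · push Not at hs2
      have h1 := cl_bound h.nd hn he0 he (K := K)
      rw [h.rank, hq, show 2 * m + 1 - 1 = 2 * m by omega] at h1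
      rw [hq] at hs2
      refine Nat.le_of_mul_le_mul_right (c := 3 ^ 4) ?_ (by norm_num)
      calc 3 ^ (2 * m) * 3 ^ 4 ≤ 3 ^ (2 * m - 2) * 3 ^ (2 * m) := by
            rw [← pow_add, ← pow_add]; exact Nat.pow_le_pow_right (by omega) (by omega)
        _ ≤ (cl K he).ncard * 3 ^ (2 * m) := Nat.mul_le_mul_right _ (hL2.trans hcl')
        _ ≤ K.index * 3 ^ 2 * 3 ^ 2 := h1.trans (Nat.mul_le_mul
            (Nat.mul_le_mul_left _ hs2) ((Nat.sub_le _ _).trans hs2))
        _ = _ := by ring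

/-- In dimension seven a small index forces lifts on lines. -/
theorem lineLift_three (h : OddData Q 3) (hq : Nat.card F = 3) {K : Subgroup (EG Q)}
    (hsmall : ∀ (r : V) (hr : Q r = 0), r ≠ 0 → Nat.card (pp K hr) ≤ Nat.card F ^ 3 →
      (∀ w ∈ pp K hr, ∃ t : F, w = t • r) ∧
        K.relIndex (pStab Q r) < 2 * Nat.card F ^ (finrank F V - 2))
    {e f : V} (hd : LiftData K e f) : LineLift K e f := by
  classical
  haveI := finite_V F V
  obtain ⟨_, -, hk⟩ := three_facts hq
  have h7 : 7 ≤ finrank F V := by rw [h.rank]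
  intro x v hx hv hl
  obtain ⟨x', hfr⟩ := exists_frame' h.nd hd.pair hx hv hl
  by_cases hs : Nat.card (pp K hl.qa) ≤ Nat.card F ^ 3
  · obtain ⟨hpp, hlt⟩ := hsmall x hl.qa hl.ne hs
    have hdx : LiftData K x x' := ⟨hfr.pair, h.nd, hpp, hlt⟩
    obtain ⟨m, hmP, -, -, hcm, hmem⟩ := lift_neighbour hd h7 hk hfr hdx
    by_cases hin : m ∈ plane F e x v
    · exact hmem hin
    obtain ⟨hcW, -⟩ := cz_spec hd (el_mem_fix2 hx hv hl.spair)
    obtain ⟨hxc, hvc⟩ := cz_perp_line hd h7 hx hv hl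
    have hP : plane F e x v ⊔ Submodule.span F ({m} : Set V) = perpS Q (plane F e x v) := by
      refine Submodule.eq_of_le_of_finrank_le (sup_le
        (fun w hw u hu => (plane_ts hd.pair hx hv hl u hu w hw).1)
        ((Submodule.span_singleton_le_iff_mem _ _).2 hmP)) ?_
      rw [finrank_perpS h.nd, finrank_plane hd hx hv hl, h.rank]
      have hlt' : plane F e x v < plane F e x v ⊔ Submodule.span F ({m} : Set V) :=
        lt_of_le_of_ne le_sup_left fun h0 =>
          hin (h0 ▸ Submodule.mem_sup_right (Submodule.mem_span_singleton_self m))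
      have := Submodule.finrank_lt_finrank_of_lt hlt'
      rw [finrank_plane hd hx hv hl] at this
      omega
    refine mem_line_of_perp_plane hd hx hv hcW fun u hu => ?_
    rw [← hP] at hu
    obtain ⟨p, hp, w, hw, rfl⟩ := Submodule.mem_sup.1 hu
    obtain ⟨t, rfl⟩ := Submodule.mem_span_singleton.1 hw
    obtain ⟨a, b, d, rfl⟩ := Submodule.mem_span_triple.1 hp
    show polar Q _ _ = 0
    rw [polar_add_left, polar_add_left, polar_add_left, polar_smul_left, polar_smul_left,
      polar_smul_left, polar_smul_left, (mem_core.1 hcW).1, hxc, hvc, polar_comm Q m, hcm]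
    simp
  · push Not at hs
    obtain ⟨hc, -, -⟩ := three_facts hq
    let U : Submodule F V :=
      { carrier := (pp K hl.qa : Set V)
        add_mem' := fun ha hb => (pp K hl.qa).add_mem ha hb
        zero_mem' := zero_mem (pp K hl.qa)
        smul_mem' := fun t w hw => smul_mem_pp hq K hl.qa t hw }
    refine lift_of_big hd h7 hk hx hv hl (r := x) (Submodule.subset_span (by simp)) (fun t ht => ?_)
      (U := U) (fun w hw => hw) ?_
    · have h1 := (mem_core.1 hx).2
      rw [ht, polar_smul_right, hd.pair.pol', smul_eq_mul, mul_one] at h1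
      exact hl.ne (by rw [ht, h1, zero_smul])
    · have hcard : Nat.card (pp K hl.qa) = Nat.card F ^ finrank F U := by
        rw [← Module.natCard_eq_pow_finrank (K := F)]
        exact Nat.card_congr (Equiv.refl _)
      rw [hcard] at hs
      have := (Nat.pow_lt_pow_iff_right (Finite.one_lt_card (α := F))).1 hs
      rw [h.rank]; omega

/-- The odd series over three elements. -/
theorem odd_three_bound (h : OddData Q m) (hm : 3 ≤ m) (hq : Nat.card F = 3)
    {K : Subgroup (EG Q)} (hK : K ≠ ⊤) : 3 ^ m * (3 ^ m - 1) / 2 ≤ K.index := by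
  classical
  obtain ⟨_, h2, -⟩ := three_facts hq
  have hn : 7 ≤ finrank F V := by rw [h.rank]; omega
  by_contra hcon
  set T := 3 ^ m * (3 ^ m - 1) / 2
  have hT : T ≤ 2 * Nat.card F ^ (finrank F V - 2) := by
    rw [hq, h.rank, show 2 * m + 1 - 2 = 2 * m - 1 by omega]
    refine Nat.div_le_of_le_mul ?_
    refine (Nat.mul_le_mul_left _ (Nat.sub_le _ _)).trans ?_
    rw [← pow_add, show m + m = 2 * m - 1 + 1 by omega, pow_succ]
    omega
  have hsmall : ∀ (r : V) (hr : Q r = 0), r ≠ 0 → Nat.card (pp K hr) ≤ Nat.card F ^ m →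
      (∀ w ∈ pp K hr, ∃ t : F, w = t • r) ∧
        K.relIndex (pStab Q r) < 2 * Nat.card F ^ (finrank F V - 2) := by
    intro r hr hr0 hs
    refine ⟨?_, ?_⟩
    · by_contra hpp
      push Not at hpp
      obtain ⟨a, ha, ha'⟩ := hpp
      exact hcon (three_point h hm hq hr0 hr hs ha ha')
    · by_contra hlt
      push Not at hlt
      exact hcon (hT.trans (hlt.trans (relIndex_le_index K _)))
  obtain ⟨e, he, he0, hs⟩ := exists_small h.nd hn hK
  rw [h.rank, show (2 * m + 1) / 2 = m by omega] at hs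
  obtain ⟨hpp, hlt⟩ := hsmall e he he0 hs
  refine hcon (bot_bound h.nd hn he0 he hpp (fun hlt => ?_) ?_ hT fun c hc => ?_)
  · rcases (show 4 ≤ m ∨ m = 3 by omega) with h4 | rfl
    · exact hasLevi_of_nine h.nd (by rw [h.rank]; omega) he0 he hpp hlt
    · obtain ⟨f, hp⟩ := exists_hypPair h.nd he0 he
      have hd : LiftData K e f := ⟨hp, h.nd, hpp, hlt⟩
      exact hasLevi_of_lineLift hd hn (lineLift_three h hq hsmall hd)
  · rw [singCard_eq, h.zero, hq, show 3 - 1 = 2 from rfl]
    refine (Nat.div_mul_le_self _ _).trans ?_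
    rw [Nat.mul_sub, mul_one, ← pow_add, ← two_mul]
    have : 1 ≤ 3 ^ m := Nat.one_le_pow _ _ (by omega)
    omega
  · have h1 := h.nonzero c hc
    rw [hq] at h1
    rw [gd_odd h2]
    refine (Nat.div_mul_le_self _ _).trans ?_
    rw [Nat.mul_sub, mul_one, ← pow_add, ← two_mul]
    omega

end Cfsg.Agent.Lib.MinIndexOmega
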