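import Mathlib
import Cfsg.Agent.Lib.MinIndexOmega.EvenSeries

/-!
Lib/MinIndexOmega/PlusFour: the plus form of dimension eight, where the parameters at small
points may fill maximal singular subspaces.
-/

set_option autoImplicit false
set_option linter.unusedSectionVars false

namespace Cfsg.Agent.Lib.MinIndexOmega

open Module QuadraticMap Cfsg.Agent.Lib.Forms Cfsg.Agent.Lib.OrthOmega Cfsg.Agent.Lib.AutPOmega

variable {F : Type*} [Field F] [Fintype F] {V : Type*} [AddCommGroup V] [Module F V]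
variable [FiniteDimensional F V] {Q : QuadraticForm F V}

/-- Sets of pairwise orthogonal singular vectors span totally singular subspaces. -/
theorem span_singular {R : Set V} (h0 : ∀ w ∈ R, Q w = 0)
    (h1 : ∀ w ∈ R, ∀ w' ∈ R, polar Q w w' = 0) : ∀ x ∈ Submodule.span F R, Q x = 0 := by
  have hperp : ∀ x ∈ Submodule.span F R, ∀ w ∈ R, polar Q w x = 0 := fun x hx w hw =>
    (Submodule.span_le.2 (fun y hy => h1 w hw y hy) :
      Submodule.span F R ≤ LinearMap.ker (polarBilin Q w)) hx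
  intro x hx
  induction hx using Submodule.span_induction with
  | mem y hy => exact h0 y hy
  | zero => exact QuadraticMap.map_zero Q
  | add y z hy hz ihy ihz =>
    have h2 : polar Q y z = 0 := (Submodule.span_le.2 (fun w hw => hperp z hz w hw) :
      Submodule.span F R ≤ LinearMap.ker ((polarBilin Q).flip z)) hy
    rw [Q_add, ihy, ihz, h2, add_zero, add_zero]
  | smul r y _ ih => rw [Q_smul, ih, mul_zero]

theorem polar_eq_zero_of_ts {U : Submodule F V} (hU : ∀ x ∈ U, Q x = 0) {x y : V} (hx : x ∈ U)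
    (hy : y ∈ U) : polar Q x y = 0 := by
  rw [polar, hU _ (add_mem hx hy), hU _ hx, hU _ hy, sub_zero, sub_zero]

section Counts

variable {K : Subgroup (EG Q)}

theorem parSt_of_map_le {e : V} {he : Q e = 0} {g : EG Q} {t : F} (ht : t ≠ 0)
    (hge : g.1.1 e = t • e) (h : ∀ x ∈ pp K he, t • g.1.1 x ∈ pp K he) : g ∈ parSt K he := by
  haveI := finite_V F V
  refine ⟨t, ht, hge, Set.eq_of_subset_of_ncard_le ?_ ?_ (Set.toFinite _)⟩
  · rintro _ ⟨x, hx, rfl⟩; exact h x hx
  · rw [Set.ncard_image_of_injective _ (imgs_inj ht)]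

/-- An element of the stabiliser without a lift doubles the radical's share. -/
theorem two_mul_relIndex_le {e : V} (he : Q e = 0) {g : EG Q} (hg : g ∈ parSt K he)
    (hno : ∀ w, polar Q e w = 0 → g * el Q e w ∉ K) :
    2 * K.relIndex (parHom Q he).range ≤ K.relIndex (parSt K he) := by
  classical
  haveI := finite_EG (Q := Q)
  have hmem : ∀ (i : Bool) (x : (parHom Q he).range), (if i then g else 1) * x.1 ∈ parSt K he :=
    fun i x => by
      obtain ⟨_, w, rfl⟩ := x
      refine mul_mem ?_ (parHom_mem_parSt K he w)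
      split_ifs
      · exact hg
      · exact one_mem _
  obtain ⟨t, ht, hge, -⟩ := hg
  have hdiff : ∀ a b : (parHom Q he).range, a.1⁻¹ * (g * b.1) ∈ K → False := by
    rintro ⟨_, a, rfl⟩ ⟨_, b, rfl⟩ h
    have ha : polar Q e (a.toAdd : V) = 0 := a.toAdd.2 e (Submodule.mem_span_singleton_self e)
    have hb : polar Q e (b.toAdd : V) = 0 := b.toAdd.2 e (Submodule.mem_span_singleton_self e)
    set c := g⁻¹.1.1 (-(a.toAdd : V))
    have hgi : g⁻¹.1.1 e = t⁻¹ • e := by
      have h := congrArg (fun x => t⁻¹ • g⁻¹.1.1 x) hge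
      simp only [eg_inv_apply, map_smul, smul_smul, inv_mul_cancel₀ ht, one_smul] at h
      exact h.symm
    have hc : polar Q e (t⁻¹ • c) = 0 := by
      rw [polar_smul_right, ← polar_smul_left, ← hgi, eg_polar, polar_neg_right, ha, neg_zero]
    have h1 : (el Q e (a.toAdd : V))⁻¹ * g = g * el Q e (t⁻¹ • c) := by
      rw [el_inv, ← el_smul_left (inv_ne_zero ht), ← hgi, ← el_conj_inv g e, ← mul_assoc,
        ← mul_assoc, mul_inv_cancel, one_mul]
    change (el Q e (a.toAdd : V))⁻¹ * (g * el Q e (b.toAdd : V)) ∈ K at h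
    rw [← mul_assoc, h1, mul_assoc, el_mul ⟨he, hc⟩ ⟨he, hb⟩] at h
    exact hno _ (by rw [polar_add_right, hc, hb, add_zero]) h
  rw [← Fintype.card_bool, ← Nat.card_eq_fintype_card, Subgroup.relIndex, Subgroup.relIndex,
    Subgroup.index, Subgroup.index, ← Nat.card_prod]
  refine Nat.card_le_card_of_injective (fun p => QuotientGroup.mk
    (⟨_, hmem p.1 (Quotient.out p.2)⟩ : parSt K he)) ?_
  rintro ⟨i, c⟩ ⟨j, c'⟩ h
  have h1 := Subgroup.mem_subgroupOf.1 (QuotientGroup.eq.1 h)
  simp only [Subgroup.coe_mul, Subgroup.coe_inv] at h1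
  have hsame : (Quotient.out c).1⁻¹ * (Quotient.out c').1 ∈ K → c = c' := fun hh => by
    rw [← Quotient.out_eq c, ← Quotient.out_eq c']
    exact QuotientGroup.eq.2 hh
  rcases i with _ | _ <;> rcases j with _ | _ <;> simp only [if_true, Bool.false_eq_true, if_false] at h1
  · rw [hsame (by simpa using h1)]
  · exact (hdiff (Quotient.out c) (Quotient.out c') (by simpa using h1)).elim
  · refine (hdiff (Quotient.out c') (Quotient.out c) ?_).elim
    simpa using K.inv_mem h1
  · rw [hsame (by simpa [mul_assoc] using h1)]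

/-- The vectors of the orbit of a point. -/
def orbitV (K : Subgroup (EG Q)) (a : V) : Set V :=
  {v | ∃ k ∈ K, ∃ t : F, t ≠ 0 ∧ v = t • k.1.1 a}

theorem orbit_bound (hQ : Nondeg Q) (h4 : 4 ≤ finrank F V) {a : V} (ha0 : a ≠ 0) (ha : Q a = 0) :
    K.relIndex (pStab Q a) * singCard Q ≤ K.index * (orbitV K a).ncard := by
  classical
  haveI := finite_EG (Q := Q)
  haveI := finite_V F V
  rw [← pStab_index hQ h4 ha0 ha, ← mul_assoc, index_mul_relIndex, mul_comm ((pStab Q a).relIndex K),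
    mul_assoc]
  refine Nat.mul_le_mul_left _ ?_
  rw [← card_units F, Subgroup.relIndex, Subgroup.index, ← Nat.card_prod,
    ← Nat.card_coe_set_eq (orbitV K a)]
  refine Nat.card_le_card_of_injective (fun p => (⟨p.2.1 • (Quotient.out p.1).1.1.1 a,
    (Quotient.out p.1).1, (Quotient.out p.1).2, p.2.1, p.2.2, rfl⟩ : orbitV K a)) ?_
  rintro ⟨c, t⟩ ⟨c', t'⟩ h
  have h1 : t.1 • (Quotient.out c).1.1.1 a = t'.1 • (Quotient.out c').1.1.1 a :=
    congrArg Subtype.val h
  have hc : c = c' := by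
    rw [← Quotient.out_eq c, ← Quotient.out_eq c']
    refine QuotientGroup.eq.2 ?_
    refine ⟨t.1 / t'.1, div_ne_zero t.2 t'.2, ?_⟩
    show ((Quotient.out c).1⁻¹ * (Quotient.out c').1).1.1 a = _
    have h2 := congrArg (fun v => t'.1⁻¹ • ((Quotient.out c).1⁻¹).1.1 v) h1
    simp only [map_smul, eg_inv_apply, smul_smul, inv_mul_cancel₀ t'.2, one_smul] at h2
    rw [eg_mul_apply, ← h2, div_eq_inv_mul]
  subst hc
  have h2 := smul_left_injective F (fun h => ha0 ((Quotient.out c).1.1.1.injective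
    (h.trans (map_zero _).symm))) h1
  rw [Subtype.ext h2]

end Counts

/-- The standing hypothesis: every point with at most `q⁴` parameters has exactly that many, all
singular. -/
def SmallFull (K : Subgroup (EG Q)) : Prop :=
  ∀ (r : V) (hr : Q r = 0), r ≠ 0 → Nat.card (pp K hr) ≤ Nat.card F ^ 4 →
    Nat.card (pp K hr) = Nat.card F ^ 4 ∧ ∀ w ∈ pp K hr, Q w = 0

/-- The number of parameters; zero off the singular vectors. -/
noncomputable def nPar (K : Subgroup (EG Q)) (r : V) : ℕ :=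
  {w | polar Q r w = 0 ∧ el Q r w ∈ K}.ncard

theorem nPar_eq (K : Subgroup (EG Q)) {r : V} (hr : Q r = 0) :
    nPar K r = Nat.card (pp K hr) := (Nat.card_coe_set_eq _).symm

theorem nPar_map {K : Subgroup (EG Q)} {k : EG Q} (hk : k ∈ K) (r : V) :
    nPar K (k.1.1 r) ≤ nPar K r := by
  haveI := finite_V F V
  refine (Set.ncard_le_ncard (t := (fun w => k.1.1 w) '' {w | polar Q r w = 0 ∧ el Q r w ∈ K})
    ?_ (Set.toFinite _)).trans (Set.ncard_image_le (Set.toFinite _))
  rintro w ⟨h1, h2⟩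
  refine ⟨k⁻¹.1.1 w, ⟨?_, ?_⟩, eg_apply_inv k w⟩
  · rw [← eg_inv_apply k r, eg_polar]; exact h1
  · have := K.mul_mem (K.mul_mem (K.inv_mem hk) h2) hk
    rwa [el_conj_inv, eg_inv_apply] at this

theorem nPar_smul {K : Subgroup (EG Q)} {t : F} (ht : t ≠ 0) (r : V) :
    nPar K (t • r) ≤ nPar K r := by
  haveI := finite_V F V
  refine Set.ncard_le_ncard_of_injOn (fun w => t • w) ?_
    (fun a _ b _ h => smul_right_injective V ht h) (Set.toFinite _)
  rintro w ⟨h1, h2⟩
  refine ⟨?_, ?_⟩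
  · rw [polar_smul_right, ← polar_smul_left]; exact h1
  · rw [← el_smul_left ht]; exact h2

section Exception

variable {K : Subgroup (EG Q)} (h : PlusData Q 4) (hf : SmallFull K)

/-- Full singular parameters form a subspace. -/
theorem full_space {r : V} (hr : Q r = 0) (hcard : Nat.card (pp K hr) = Nat.card F ^ 4)
    (hall : ∀ w ∈ pp K hr, Q w = 0) (hQ : Nondeg Q) (h8 : finrank F V = 8) :
    ∃ U : Submodule F V, finrank F U = 4 ∧ (∀ x ∈ U, Q x = 0) ∧
      ∀ x, x ∈ U ↔ x ∈ pp K hr := by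
  haveI := finite_V F V
  set U := Submodule.span F (pp K hr : Set V)
  have hts := span_pp_singular hall
  have hle : 2 * finrank F U ≤ finrank F V := finrank_span_pp_le hQ hall
  have h1 : Nat.card F ^ 4 ≤ Nat.card F ^ finrank F U :=
    hcard.symm.trans_le (card_pp_le_span K hr)
  have h2 : finrank F U = 4 := by
    have := (Nat.pow_le_pow_iff_right (Finite.one_lt_card (α := F))).1 h1
    omega
  refine ⟨U, h2, hts, fun x => ⟨fun hx => ?_, fun hx => Submodule.subset_span hx⟩⟩
  have h3 : (pp K hr : Set V) = (U : Set V) := by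
    refine Set.eq_of_subset_of_ncard_le Submodule.subset_span (le_of_eq ?_) (Set.toFinite _)
    rw [← Nat.card_coe_set_eq, ← Nat.card_coe_set_eq]
    show Nat.card U = Nat.card (pp K hr)
    rw [hcard, Module.natCard_eq_pow_finrank (K := F), h2]
  rw [← SetLike.mem_coe, h3]
  exact hx

include hf in
/-- The parameters of a good point as a subspace. -/
theorem good_space {r : V} (hr : Q r = 0) (hr0 : r ≠ 0)
    (hs : nPar K r ≤ Nat.card F ^ 4) (hQ : Nondeg Q) (h8 : finrank F V = 8) :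
    ∃ U : Submodule F V, finrank F U = 4 ∧ (∀ x ∈ U, Q x = 0) ∧
      ∀ x, x ∈ U ↔ x ∈ pp K hr := by
  obtain ⟨hcard, hall⟩ := hf r hr hr0 (nPar_eq K hr ▸ hs)
  exact full_space hr hcard hall hQ h8

include h in
/-- A point with full singular parameters has many images. -/
theorem imgs_full {e : V} (he : Q e = 0) (he0 : e ≠ 0)
    (hcard : Nat.card (pp K he) = Nat.card F ^ 4) (hall : ∀ w ∈ pp K he, Q w = 0) :
    (Nat.card F + 1) * (Nat.card F ^ 2 + 1) ≤ (imgs Q e (pp K he : Set V)).ncard := by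
  classical
  haveI := finite_V F V
  have h8 : finrank F V = 8 := h.rank
  obtain ⟨U, hU4, hUts, hUpp⟩ := full_space he hcard hall h.nd h8
  have hq : 2 ≤ Nat.card F := Finite.one_lt_card
  obtain ⟨a, ha, ha'⟩ : ∃ a ∈ pp K he, ∀ t : F, a ≠ t • e := by
    by_contra hcon
    push Not at hcon
    have h1 := Set.ncard_le_ncard (t := {x : V | ∃ t : F, x = t • e}) (s := (pp K he : Set V))
      hcon (Set.toFinite _)
    rw [ncard_multiples he0, ← Nat.card_coe_set_eq] at h1
    have h2 : Nat.card (pp K he) ≤ Nat.card F := h1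
    rw [hcard] at h2
    exact absurd h2 (not_le.2 (by
      calc Nat.card F = Nat.card F ^ 1 := (pow_one _).symm
        _ < _ := Nat.pow_lt_pow_right hq (by omega)))
  have hcl := card_cl_sing he0 ha ha' (hall a ha)
  have hlev := lev_even h.toEvenData (show 1 ≤ 4 by omega) he0 he 0
  have hz := h.zero
  set q := Nat.card F with hqdef
  set B := (pp K he : Set V)
  have hM : ∀ x ∈ cl K he, q + 1 ≤ {B' | B' ∈ imgs Q e B ∧ x ∈ B'}.ncard := by
    intro x hx
    obtain ⟨hx1, hx2, a₁, ha₁, ha₁', t, ht, hQx⟩ := hx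
    obtain ⟨B', hB', hxB⟩ := exists_img_of_class h.nd (by omega) he0 he (mem_pp.1 ha₁).1 ha₁' hx1
      hx2 ht hQx (show a₁ ∈ B from ha₁)
    obtain ⟨g, s, hs0, hge, rfl⟩ := hB'
    let U' := U.map (s • (g.1.1 : V →ₗ[F] V))
    have hB'U : (fun y => s • g.1.1 y) '' B = (U' : Set V) := by
      ext v
      constructor
      · rintro ⟨y, hy, rfl⟩; exact ⟨y, (hUpp y).2 hy, rfl⟩
      · rintro ⟨y, hy, rfl⟩; exact ⟨y, (hUpp y).1 hy, rfl⟩
    have hU'ts : ∀ v ∈ U', Q v = 0 := by
      rintro _ ⟨y, hy, rfl⟩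
      show Q (s • g.1.1 y) = 0
      rw [Q_smul, eg_Q, hUts y hy, mul_zero]
    have hU'4 : finrank F U' ≤ 4 := (Submodule.finrank_map_le _ _).trans hU4.le
    have heU' : e ∈ U' := ⟨(s * s)⁻¹ • e, U.smul_mem _ ((hUpp e).2 (by
        simpa using smul_self_mem_pp K he (1 : F))), by
      show s • g.1.1 ((s * s)⁻¹ • e) = e
      rw [map_smul, hge, smul_smul, smul_smul,
        show s * (s * s)⁻¹ * s = 1 by field_simp, one_smul]⟩
    have hxU' : x ∈ U' := by rw [← SetLike.mem_coe, ← hB'U]; exact hxB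
    obtain ⟨b, hbU, hbS⟩ : ∃ b ∈ U', b ∉ Submodule.span F ({e, x} : Set V) := by
      by_contra hcon
      push Not at hcon
      have h1 := Submodule.finrank_mono (show U' ≤ Submodule.span F ({e, x} : Set V) from hcon)
      have h2 : finrank F (Submodule.span F ({e, x} : Set V)) ≤ 2 := by
        refine (finrank_span_le_card (R := F) ({e, x} : Set V)).trans ?_
        rw [Set.toFinset_insert, Set.toFinset_singleton]
        exact Finset.card_le_two
      have h3 : finrank F U' = 4 := by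
        rw [← hU4]
        exact (Submodule.equivMapOfInjective _
          (fun y y' hy => imgs_inj (g := g) hs0 hy) U).finrank_eq.symm
      omega
    obtain ⟨z, hz0, hzb, hze, hzx, hle⟩ := exists_mult h.nd (by omega) he hx1
      ⟨g, s, hs0, hge, rfl⟩ hxB (show b ∈ (fun y => s • g.1.1 y) '' B by rw [hB'U]; exact hbU) (by
        rw [hB'U]; exact fun y hy y' hy' => U'.sub_mem hy hy') hbS
    rw [hB'U] at hle
    have hzU : z ∉ U' := fun hzU => hzb (polar_eq_zero_of_ts hU'ts hzU hbU)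
    set A := {B'' | B'' ∈ imgs Q e B ∧ x ∈ B'' ∧ (z ∈ B'' → z ∈ (U' : Set V))}
    have hA : q ≤ A.ncard := by
      have hH : {y | y ∈ (U' : Set V) ∧ polar Q z y = 0}.ncard ≤ q ^ 3 := by
        have hlt : U' ⊓ LinearMap.ker (polarBilin Q z) < U' :=
          lt_of_le_of_ne inf_le_left fun h => hzb (inf_eq_left.1 h hbU)
        have h1 := Submodule.finrank_lt_finrank_of_lt hlt
        calc {y | y ∈ (U' : Set V) ∧ polar Q z y = 0}.ncard
            = Nat.card (U' ⊓ LinearMap.ker (polarBilin Q z) : Submodule F V) :=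
              (Nat.card_coe_set_eq _).symm
          _ ≤ _ := by
              rw [Module.natCard_eq_pow_finrank (K := F)]
              exact Nat.pow_le_pow_right (by omega) (by omega)
      rw [h8, ← hqdef] at hle
      refine Nat.le_of_mul_le_mul_right (c := q ^ 3) ?_ (pow_pos (by omega) _)
      rw [← pow_succ']
      exact hle.trans (Nat.mul_le_mul_left _ hH)
    -- one more image
    obtain ⟨f, hp⟩ := exists_hypPair h.nd he0 he
    have proj : ∀ v, polar Q e v = 0 → ∀ w : core Q e f, (w : V) = v - polar Q f v • e →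
        Q (w : V) = Q v := by
      intro v hv w hw
      rw [hw, sub_eq_add_neg, ← neg_smul, Q_add, Q_smul, he, polar_smul_right,
        (polar_comm Q v e).trans hv]
      simp
    have mem : ∀ v, polar Q e v = 0 → v - polar Q f v • e ∈ core Q e f := fun v hv => by
      have := hp.proj_mem v
      rwa [hv, zero_smul, sub_zero] at this
    have hbe : polar Q e b = 0 := polar_eq_zero_of_ts hU'ts heU' hbU
    have hze' : polar Q e z = 0 := (polar_comm Q _ _).trans hze
    set W := core Q e f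
    set x₀ : W := ⟨_, mem x hx1⟩ with hx₀
    set b₀ : W := ⟨_, mem b hbe⟩ with hb₀
    set z₀ : W := ⟨_, mem z hze'⟩ with hz₀
    have hx0 : x₀ ≠ 0 := fun h0 => hx2 _ (sub_eq_zero.1 (congrArg Subtype.val h0))
    have hQx0 : Q x = 0 := hU'ts x hxU'
    have pol0 : ∀ u v, polar Q e u = 0 → polar Q e v = 0 →
        polar Q (u - polar Q f u • e) (v - polar Q f v • e) = polar Q u v := by
      intro u v hu hv
      simp only [polar_sub_left, polar_sub_right, polar_smul_left, polar_smul_right, hp.pol_ee, hv,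
        (polar_comm Q u e).trans hu]
      simp
    have hne : ∀ v, polar Q e v = 0 → v ∉ Submodule.span F ({e, x} : Set V) →
        ∀ (w : W), (w : V) = v - polar Q f v • e → ∀ r : F, w ≠ r • x₀ := by
      intro v hv hvS w hw r hr
      refine hvS ?_
      have := congrArg Subtype.val hr
      rw [hw] at this
      rw [sub_eq_iff_eq_add.1 this]
      show r • (x - polar Q f x • e) + polar Q f v • e ∈ _
      exact add_mem (Submodule.smul_mem _ _ (sub_mem (Submodule.subset_span (by simp))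
        (Submodule.smul_mem _ _ (Submodule.subset_span (by simp)))))
        (Submodule.smul_mem _ _ (Submodule.subset_span (by simp)))
    have hzS : z ∉ Submodule.span F ({e, x} : Set V) := fun hzS =>
      hzU ((Submodule.span_le.2 (by
        rintro v (rfl | rfl)
        · exact heU'
        · exact hxU') : Submodule.span F ({e, x} : Set V) ≤ U') hzS)
    obtain ⟨G, hG, hGb⟩ := exists_map_pair (Q := res Q W) (hp.nondeg_core h.nd)
      (by have : finrank F W + 2 = finrank F V := hp.finrank_core; omega) (e := x₀) (e' := x₀) (a := b₀) (b := z₀) hx0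
      (by show Q (x₀ : V) = 0; rw [proj x hx1 x₀ rfl, hQx0]) hx0
      (by show Q (x₀ : V) = 0; rw [proj x hx1 x₀ rfl, hQx0])
      (by rw [res_polar]; show polar Q (x - _) (b - _) = 0
          rw [pol0 x b hx1 hbe]; exact polar_eq_zero_of_ts hU'ts hxU' hbU)
      (by rw [res_polar]; show polar Q (x - _) (z - _) = 0
          rw [pol0 x z hx1 hze', polar_comm]; exact hzx)
      (hne b hbe hbS b₀ rfl) (hne z hze' hzS z₀ rfl)
      (by show Q (b₀ : V) = Q (z₀ : V)
          rw [proj b hbe b₀ rfl, proj z hze' z₀ rfl, hz0, hU'ts b hbU])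
    obtain ⟨G', hG'e, -, hG'⟩ := exists_lift G.2
    have hB'' := imgs_step (show (fun y => s • g.1.1 y) '' B ∈ imgs Q e B from
      ⟨g, s, hs0, hge, rfl⟩) hG'e
    rw [hB'U] at hB''
    set B'' := (fun y => G'.1.1 y) '' (U' : Set V)
    have hxB'' : x ∈ B'' := by
      refine ⟨x, hxU', ?_⟩
      have hsplit : x = (x₀ : V) + polar Q f x • e := (sub_add_cancel _ _).symm
      conv_rhs => rw [hsplit]
      conv_lhs => rw [hsplit]
      show G'.1.1 _ = _
      rw [map_add, map_smul, hG'e, hG', hG]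
    have hzB'' : z ∈ B'' := by
      refine ⟨(b₀ : V) + polar Q f z • e, U'.add_mem (U'.sub_mem hbU (U'.smul_mem _ heU'))
        (U'.smul_mem _ heU'), ?_⟩
      show G'.1.1 _ = _
      rw [map_add, map_smul, hG'e, hG', hGb]
      exact sub_add_cancel z _
    have hnot : B'' ∉ A := fun hmem => hzU (hmem.2.2 hzB'')
    calc q + 1 ≤ A.ncard + 1 := by omega
      _ = (insert B'' A).ncard := (Set.ncard_insert_of_notMem hnot (Set.toFinite _)).symm
      _ ≤ _ := Set.ncard_le_ncard (by
          rintro C (rfl | hC)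
          · exact ⟨hB'', hxB''⟩
          · exact ⟨hC.1, hC.2.1⟩) (Set.toFinite _)
  have h1 : (q + 1) * (cl K he).ncard ≤ _ :=
    mult_mul_card_le (e := e) (B := B) (fun g t ht hge x => cl_stable g t ht hge x) hM
  have hk := ncard_pp_inter_cl (K := K) (he := he) he0
  rw [hcard, ← hqdef] at hk
  have hC : (q ^ 2 + 1) * (q ^ 4 - q) ≤ (cl K he).ncard := by
    have e1 : (q ^ 2 + 1) * (q ^ 4 - q) + q ^ 3 + q = q ^ 6 + q ^ 4 := by
      have : q ≤ q ^ 4 := Nat.le_self_pow (by omega) _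
      obtain ⟨r, hr⟩ : ∃ r, q ^ 4 = q + r := ⟨q ^ 4 - q, by omega⟩
      have hr' : q ^ 4 - q = r := by omega
      rw [hr']
      calc (q ^ 2 + 1) * r + q ^ 3 + q = (q ^ 2 + 1) * (q + r) := by ring
        _ = _ := by rw [← hr]; ring
    simp only [show 2 * 4 - 1 = 7 from rfl, show 2 * 4 - 2 = 6 from rfl,
      show 4 - 1 = 3 from rfl] at hlev hz
    omega
  have hpos : 0 < q ^ 4 - q := by
    have : q ^ 1 < q ^ 4 := Nat.pow_lt_pow_right hq (by omega)
    rw [pow_one] at this
    omega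
  refine Nat.le_of_mul_le_mul_right (c := q ^ 4 - q) ?_ hpos
  calc (q + 1) * (q ^ 2 + 1) * (q ^ 4 - q) = (q + 1) * ((q ^ 2 + 1) * (q ^ 4 - q)) := by ring
    _ ≤ (q + 1) * (cl K he).ncard := Nat.mul_le_mul_left _ hC
    _ ≤ _ := h1
    _ ≤ _ := Nat.mul_le_mul_left _ hk

include h hf in
/-- A good point has many images. -/
theorem imgs_ge {e : V} (he : Q e = 0) (he0 : e ≠ 0) (hs : nPar K e ≤ Nat.card F ^ 4) :
    (Nat.card F + 1) * (Nat.card F ^ 2 + 1) ≤ (imgs Q e (pp K he : Set V)).ncard := by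
  obtain ⟨hcard, hall⟩ := hf e he he0 (nPar_eq K he ▸ hs)
  exact imgs_full h he he0 hcard hall

/-- `q³ (q + 1) (q² + 1)`. -/
noncomputable def cA (F : Type*) : ℕ :=
  Nat.card F ^ 3 * ((Nat.card F + 1) * (Nat.card F ^ 2 + 1))

include h hf in
theorem cA_le {e : V} (he : Q e = 0) (he0 : e ≠ 0) (hs : nPar K e ≤ Nat.card F ^ 4) {M : ℕ}
    (hM : M * K.relIndex (parHom Q he).range ≤ K.relIndex (parSt K he)) :
    M * cA F ≤ K.relIndex (pStab Q e) := by
  obtain ⟨hcard, -⟩ := hf e he he0 (nPar_eq K he ▸ hs)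
  have h1 := card_imgs_mul_le_aux h.nd he0 he K hM
  rw [hcard, h.rank] at h1
  refine Nat.le_of_mul_le_mul_right (c := Nat.card F ^ 4) ?_ (pow_pos Nat.card_pos _)
  refine le_trans ?_ h1
  rw [mul_assoc]
  refine Nat.mul_le_mul_left _ ?_
  calc cA F * Nat.card F ^ 4
      = (Nat.card F + 1) * (Nat.card F ^ 2 + 1) * Nat.card F ^ 7 := by unfold cA; ring
    _ ≤ _ := Nat.mul_le_mul_right _ (imgs_ge h hf he he0 hs)

include h hf in
theorem cA_le_one {e : V} (he : Q e = 0) (he0 : e ≠ 0) (hs : nPar K e ≤ Nat.card F ^ 4) :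
    cA F ≤ K.relIndex (pStab Q e) := by
  haveI := finite_EG (Q := Q)
  haveI : ∀ H L : Subgroup (EG Q), H.IsFiniteRelIndex L :=
    fun H L => Subgroup.isFiniteRelIndex_of_finiteIndex
  have := cA_le h hf he he0 hs (M := 1) (by
    rw [one_mul]
    refine Subgroup.relIndex_le_of_le_right ?_ Subgroup.relIndex_ne_zero
    rintro _ ⟨w, rfl⟩
    exact parHom_mem_parSt K he w)
  rwa [one_mul] at this

/-- A bad point. -/
def Bad (K : Subgroup (EG Q)) (r : V) : Prop :=
  r ≠ 0 ∧ Q r = 0 ∧ Nat.card F ^ 4 < nPar K r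

theorem Bad.map {r : V} (hr : Bad K r) {k : EG Q} (hk : k ∈ K) : Bad K (k.1.1 r) := by
  refine ⟨fun h => hr.1 (k.1.1.injective (h.trans (map_zero _).symm)), (eg_Q k r).trans hr.2.1, ?_⟩
  have h1 := nPar_map (K.inv_mem hk) (k.1.1 r)
  rw [eg_inv_apply] at h1
  exact hr.2.2.trans_le h1

theorem Bad.smul {r : V} (hr : Bad K r) {t : F} (ht : t ≠ 0) : Bad K (t • r) := by
  refine ⟨smul_ne_zero ht hr.1, by rw [Q_smul, hr.2.1, mul_zero], ?_⟩
  have h1 := nPar_smul (K := K) (inv_ne_zero ht) (t • r)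
  rw [smul_smul, inv_mul_cancel₀ ht, one_smul] at h1
  exact hr.2.2.trans_le h1

include h hf in
/-- A bad point orthogonal to a good one lies among its parameters. -/
theorem bad_mem {a r : V} (ha : Q a = 0) (ha0 : a ≠ 0) (hs : nPar K a ≤ Nat.card F ^ 4)
    (hr : Bad K r) (hp : polar Q a r = 0) : r ∈ pp K ha := by
  obtain ⟨U, -, -, hU⟩ := good_space hf ha ha0 hs h.nd h.rank
  by_contra hnot
  have hli : LinearIndependent F ![a, r] := (LinearIndependent.pair_iff' ha0).2 fun t ht =>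
    hnot (ht ▸ smul_self_mem_pp K ha t)
  have htriv : ∀ s : F, el Q a (s • r) ∈ K → s = 0 := by
    intro s hsK
    by_contra hs0
    refine hnot ((hU r).1 ?_)
    have h1 : s • r ∈ U := (hU _).2 ⟨by rw [polar_smul_right, hp, smul_zero], hsK⟩
    have := U.smul_mem s⁻¹ h1
    rwa [smul_smul, inv_mul_cancel₀ hs0, one_smul] at this
  obtain ⟨i, j, hij, hi, hj⟩ := small_pair h.nd (⟨ha, hr.2.1, hp, hli⟩ : LPair Q a r) htriv
  rw [h.rank] at hij
  obtain ⟨hcard, -⟩ := hf a ha ha0 (nPar_eq K ha ▸ hs)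
  rw [hcard] at hi
  have h4 := (Nat.pow_le_pow_iff_right (Finite.one_lt_card (α := F))).1 hi
  have h5 := hr.2.2
  rw [nPar_eq K hr.2.1] at h5
  have := (Nat.pow_lt_pow_iff_right (Finite.one_lt_card (α := F))).1 (h5.trans_le hj)
  omega

include h hf in
/-- Orthogonal to two non-orthogonal bad points, all is bad. -/
theorem bad_of_perp {r r' a : V} (hr : Bad K r) (hr' : Bad K r') (hne : polar Q r r' ≠ 0)
    (ha : Q a = 0) (ha0 : a ≠ 0) (h1 : polar Q a r = 0) (h2 : polar Q a r' = 0) : Bad K a := by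
  by_contra hnb
  have hs : nPar K a ≤ Nat.card F ^ 4 := not_lt.1 fun h => hnb ⟨ha0, ha, h⟩
  obtain ⟨U, -, hUts, hU⟩ := good_space hf ha ha0 hs h.nd h.rank
  exact hne (polar_eq_zero_of_ts hUts ((hU r).2 (bad_mem h hf ha ha0 hs hr h1))
    ((hU r').2 (bad_mem h hf ha ha0 hs hr' h2)))

include h hf in
theorem bad_perp {e : V} (he : Q e = 0) (he0 : e ≠ 0) (hs : nPar K e ≤ Nat.card F ^ 4)
    {r r' : V} (hr : Bad K r) (hr' : Bad K r') : polar Q r r' = 0 := by
  classical
  by_contra hne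
  set f := (polar Q r r')⁻¹ • r' with hf'
  have hp : HypPair Q r f := ⟨hr.2.1, by rw [hf', Q_smul, hr'.2.1, mul_zero],
    by rw [hf', polar_smul_right, smul_eq_mul, inv_mul_cancel₀ hne]⟩
  have hrf : Bad K f := hr'.smul (inv_ne_zero hne)
  have hfne : polar Q r f ≠ 0 := by rw [hp.pol]; exact one_ne_zero
  set w := e - polar Q f e • r - polar Q r e • f with hw
  have hwW := mem_core.1 (hp.proj_mem e)
  set S := Submodule.span F ({r, f, w} : Set V)
  set L := perpS Q S
  have hS3 : finrank F S ≤ 3 := by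
    refine (finrank_span_le_card (R := F) ({r, f, w} : Set V)).trans ?_
    simp only [Set.toFinset_insert, Set.toFinset_singleton]
    exact Finset.card_le_three
  have hL5 : 5 ≤ finrank F L := by
    rw [finrank_perpS h.nd, h.rank]; omega
  have hrad : finrank F (S ⊓ L : Submodule F V) ≤ 1 := by
    refine (Submodule.finrank_mono (t := Submodule.span F ({w} : Set V)) ?_).trans ?_
    · rintro x ⟨hx, hx'⟩
      obtain ⟨α, β, γ, rfl⟩ : ∃ α β γ : F, x = α • r + β • f + γ • w := by
        rw [SetLike.mem_coe, Submodule.mem_span_triple] at hx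
        obtain ⟨α, β, γ, h⟩ := hx
        exact ⟨α, β, γ, h.symm⟩
      have h1 : polar Q r _ = 0 := hx' r (Submodule.subset_span (by simp))
      have h2 : polar Q f _ = 0 := hx' f (Submodule.subset_span (by simp))
      simp only [polar_add_right, polar_smul_right, hp.pol_ee, hp.pol, hp.pol', hp.pol_ff,
        show polar Q r w = 0 from hwW.1, show polar Q f w = 0 from hwW.2, smul_eq_mul, mul_zero,
        mul_one, zero_add, add_zero] at h1 h2
      rw [h1, h2, zero_smul, zero_smul, zero_add, zero_add]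
      exact Submodule.smul_mem _ _ (Submodule.mem_span_singleton_self w)
    · refine (finrank_span_le_card (R := F) ({w} : Set V)).trans ?_
      simp
  obtain ⟨C, hC⟩ := Submodule.exists_isCompl ((S ⊓ L).comap L.subtype)
  obtain ⟨_, ⟨a₁, ha₁C, rfl⟩, ha₁0, hQa₁⟩ := exists_singular_any (Q := Q) (C.map L.subtype) (by
    rw [← (Submodule.equivMapOfInjective L.subtype Subtype.val_injective C).finrank_eq]
    have h1 := Submodule.finrank_add_eq_of_isCompl hC
    have h2 : finrank F ((S ⊓ L).comap L.subtype) = finrank F (S ⊓ L : Submodule F V) :=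
      (Submodule.comapSubtypeEquivOfLe inf_le_right).finrank_eq
    omega)
  have ha₁S : (a₁ : V) ∉ S := fun h0 => ha₁0 (congrArg Subtype.val
    ((Submodule.disjoint_def.1 hC.disjoint) a₁ ⟨h0, a₁.2⟩ ha₁C))
  obtain ⟨a₂, ha₂, ha₂S, hne₂⟩ := exists_sing_sep h.nd ha₁S (by
    show finrank F (S ⊓ L : Submodule F V) + 3 ≤ finrank F L
    omega)
  have ha₂0 : a₂ ≠ 0 := fun h0 => hne₂ (by rw [h0, polar_zero_left])
  have hb1 : Bad K (a₁ : V) := bad_of_perp h hf hr hrf hfne hQa₁ ha₁0
    ((polar_comm Q _ _).trans (a₁.2 r (Submodule.subset_span (by simp))))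
    ((polar_comm Q _ _).trans (a₁.2 f (Submodule.subset_span (by simp))))
  have hb2 : Bad K a₂ := bad_of_perp h hf hr hrf hfne ha₂ ha₂0
    ((polar_comm Q _ _).trans (ha₂S r (Submodule.subset_span (by simp))))
    ((polar_comm Q _ _).trans (ha₂S f (Submodule.subset_span (by simp))))
  have heS : e ∈ S := by
    rw [show e = polar Q f e • r + polar Q r e • f + w by rw [hw]; abel]
    exact add_mem (add_mem (S.smul_mem _ (Submodule.subset_span (by simp)))
      (S.smul_mem _ (Submodule.subset_span (by simp)))) (Submodule.subset_span (by simp))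
  have hperp : ∀ x, (∀ v ∈ S, polar Q v x = 0) → polar Q e x = 0 := fun x hx => hx e heS
  have := bad_of_perp h hf hb1 hb2 (fun h0 => hne₂ ((polar_comm Q _ _).trans h0)) he he0
    (hperp a₁ fun v hv => a₁.2 v hv) (hperp a₂ ha₂S)
  exact absurd this.2.2 (not_lt.2 hs)

include h hf in
/-- With a bad point, the bad points fill a maximal singular subspace. -/
theorem bad_bound {T : ℕ} (hT : T * (Nat.card F - 1) ≤ singCard Q) (h2A : T ≤ 2 * cA F)
    (hall : ∀ (e : V), Q e = 0 → e ≠ 0 → nPar K e ≤ Nat.card F ^ 4 → cA F ≤ K.relIndex (pStab Q e))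
    {e : V} (he : Q e = 0) (he0 : e ≠ 0) (hs : nPar K e ≤ Nat.card F ^ 4)
    {r : V} (hr : Bad K r) : T ≤ K.index := by
  classical
  haveI := finite_V F V
  have hn : 4 ≤ finrank F V := by rw [h.rank]; omega
  have hq : 2 ≤ Nat.card F := Finite.one_lt_card
  have hpp := fun {x y : V} => bad_perp h hf he he0 hs (r := x) (r' := y)
  obtain ⟨a, hpa⟩ := exists_hypPair h.nd hr.1 hr.2.1
  have ha : Q a = 0 := hpa.right
  have ha0 : a ≠ 0 := fun h0 => by
    have := hpa.pol; rw [h0, polar_zero_right] at this; exact zero_ne_one this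
  have hsa : nPar K a ≤ Nat.card F ^ 4 := not_lt.1 fun hlt => by
    have := hpp hr ⟨ha0, ha, hlt⟩
    rw [hpa.pol] at this
    exact one_ne_zero this
  by_cases htr : ∃ b, Q b = 0 ∧ b ≠ 0 ∧ nPar K b ≤ Nat.card F ^ 4 ∧ b ∉ orbitV K a
  · obtain ⟨b, hb, hb0, hsb, hbo⟩ := htr
    refine h2A.trans ?_
    have h1 := orbit_bound (K := K) h.nd hn ha0 ha
    have h2 := orbit_bound (K := K) h.nd hn hb0 hb
    have hdisj : Disjoint (orbitV K a) (orbitV K b) := Set.disjoint_left.2 fun v hva hvb => hbo (by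
      obtain ⟨k, hk, t, ht, rfl⟩ := hva
      obtain ⟨k', hk', t', ht', hv⟩ := hvb
      refine ⟨k'⁻¹ * k, K.mul_mem (K.inv_mem hk') hk, t / t', div_ne_zero ht ht', ?_⟩
      have h3 := congrArg (fun x => t'⁻¹ • k'⁻¹.1.1 x) hv
      simp only [map_smul, eg_inv_apply, smul_smul, inv_mul_cancel₀ ht', one_smul] at h3
      rw [eg_mul_apply, ← h3, div_eq_inv_mul])
    have h3 : (orbitV K a).ncard + (orbitV K b).ncard ≤ singCard Q := by
      rw [← Set.ncard_union_eq hdisj (Set.toFinite _) (Set.toFinite _), ← Nat.card_coe_set_eq]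
      refine Nat.card_le_card_of_injective (fun v => (⟨v.1, ?_⟩ : {v : V // v ≠ 0 ∧ Q v = 0}))
        fun v w hvw => Subtype.ext (congrArg (fun z => z.1) hvw)
      rcases v.2 with ⟨k, -, t, ht, hv⟩ | ⟨k, -, t, ht, hv⟩ <;> rw [hv]
      · exact ⟨smul_ne_zero ht fun h0 => ha0 (k.1.1.injective (h0.trans (map_zero _).symm)),
          by rw [Q_smul, eg_Q, ha, mul_zero]⟩
      · exact ⟨smul_ne_zero ht fun h0 => hb0 (k.1.1.injective (h0.trans (map_zero _).symm)),
          by rw [Q_smul, eg_Q, hb, mul_zero]⟩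
    refine Nat.le_of_mul_le_mul_right (c := singCard Q) ?_
      (Nat.card_pos_iff.2 ⟨⟨⟨r, hr.1, hr.2.1⟩⟩, inferInstance⟩)
    calc 2 * cA F * singCard Q = cA F * singCard Q + cA F * singCard Q := by ring
      _ ≤ K.index * (orbitV K a).ncard + K.index * (orbitV K b).ncard := Nat.add_le_add
          ((Nat.mul_le_mul_right _ (hall a ha ha0 hsa)).trans h1)
          ((Nat.mul_le_mul_right _ (hall b hb hb0 hsb)).trans h2)
      _ ≤ _ := by rw [← mul_add]; exact Nat.mul_le_mul_left _ h3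
  push Not at htr
  -- no good point is orthogonal to all bad points
  have hno : ∀ b, Q b = 0 → b ≠ 0 → nPar K b ≤ Nat.card F ^ 4 →
      ∃ r', Bad K r' ∧ polar Q b r' ≠ 0 := by
    intro b hb hb0 hsb
    obtain ⟨k, hk, t, ht, rfl⟩ := htr b hb hb0 hsb
    refine ⟨k.1.1 r, hr.map hk, ?_⟩
    rw [polar_smul_left, eg_polar, hpa.pol', smul_eq_mul, mul_one]
    exact ht
  set S := Submodule.span F {x : V | Bad K x}
  have hSts : ∀ x ∈ S, Q x = 0 := span_singular (fun w hw => hw.2.1) fun w hw w' hw' => hpp hw hw'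
  have hbadS : ∀ x ∈ S, x ≠ 0 → Bad K x := by
    intro x hx hx0
    by_contra hnb
    obtain ⟨r', hr', hne⟩ := hno x (hSts x hx) hx0 (not_lt.1 fun h => hnb ⟨hx0, hSts x hx, h⟩)
    exact hne (polar_eq_zero_of_ts hSts hx (Submodule.subset_span hr'))
  have hS4 : finrank F S = 4 := by
    have hle := Forms.two_mul_finrank_le h.nd S hSts
    rw [h.rank] at hle
    by_contra hne
    obtain ⟨U, hU4, hUts, hU⟩ := good_space hf ha ha0 hsa h.nd h.rank
    obtain ⟨y, hyU, hyS, hyr⟩ : ∃ y ∈ U, y ∉ S ∧ polar Q r y = 0 := by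
      by_contra hcon
      push Not at hcon
      have hY : (U ⊓ LinearMap.ker (polarBilin Q r)) ≤ S := fun y hy => by
        by_contra hyS; exact hcon y hy.1 hyS hy.2
      have hY3 : 3 ≤ finrank F (U ⊓ LinearMap.ker (polarBilin Q r) : Submodule F V) := by
        have h1 := Submodule.finrank_sup_add_finrank_inf_eq U (LinearMap.ker (polarBilin Q r))
        have h2 := Submodule.finrank_le (U ⊔ LinearMap.ker (polarBilin Q r))
        have h3 := LinearMap.finrank_range_add_finrank_ker (polarBilin Q r)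
        have h4 := Submodule.finrank_le (LinearMap.range (polarBilin Q r))
        rw [finrank_self] at h4
        rw [h.rank] at h2 h3
        omega
      have hlt : (U ⊓ LinearMap.ker (polarBilin Q r)) < S := lt_of_le_of_ne hY fun heq => by
        have hrU : r ∈ U := (heq.ge (Submodule.subset_span hr) :).1
        have := polar_eq_zero_of_ts hUts hrU ((hU a).2 (by
          simpa using smul_self_mem_pp K ha (1 : F)))
        rw [hpa.pol] at this
        exact one_ne_zero this
      have := Submodule.finrank_lt_finrank_of_lt hlt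
      omega
    have hy0 : y ≠ 0 := fun h0 => hyS (h0 ▸ S.zero_mem)
    obtain ⟨r', hr', hne'⟩ := hno y (hUts y hyU) hy0
      (not_lt.1 fun h => hyS (Submodule.subset_span ⟨hy0, hUts y hyU, h⟩))
    refine hne' ?_
    have hay : polar Q a y = 0 := ((hU y).1 hyU).1
    set c := polar Q a r'
    have hdiff : r' + (-c) • r ∈ S :=
      S.add_mem (Submodule.subset_span hr') (S.smul_mem _ (Submodule.subset_span hr))
    have hyd : polar Q y (r' + (-c) • r) = 0 := by
      by_cases h0 : r' + (-c) • r = 0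
      · rw [h0, polar_zero_right]
      · refine polar_eq_zero_of_ts hUts hyU ((hU _).2 (bad_mem h hf ha ha0 hsa (hbadS _ hdiff h0) ?_))
        rw [polar_add_right, polar_smul_right, hpa.pol']
        simp [c]
    rwa [polar_add_right, polar_smul_right, polar_comm Q y r, hyr, smul_zero, add_zero] at hyd
  have hR : Nat.card F ^ 4 - 1 + (orbitV K a).ncard ≤ singCard Q := by
    have hdisj : Disjoint ((S : Set V) \ {0}) (orbitV K a) := Set.disjoint_left.2 fun v hv hvo => by
      obtain ⟨k, hk, t, ht, rfl⟩ := hvo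
      have hb := ((hbadS _ hv.1 hv.2).smul (inv_ne_zero ht)).map (K.inv_mem hk)
      rw [smul_smul, inv_mul_cancel₀ ht, one_smul, eg_inv_apply] at hb
      exact absurd hb.2.2 (not_lt.2 hsa)
    have hc : ((S : Set V) \ {0}).ncard = Nat.card F ^ 4 - 1 := by
      rw [Set.ncard_sdiff_singleton_of_mem S.zero_mem, ← Nat.card_coe_set_eq]
      show Nat.card S - 1 = _
      rw [Module.natCard_eq_pow_finrank (K := F), hS4]
    rw [← hc, ← Set.ncard_union_eq hdisj (Set.toFinite _) (Set.toFinite _), ← Nat.card_coe_set_eq]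
    refine Nat.card_le_card_of_injective (fun v => (⟨v.1, ?_⟩ : {v : V // v ≠ 0 ∧ Q v = 0}))
      fun v w hvw => Subtype.ext (congrArg (fun z => z.1) hvw)
    rcases v.2 with hv | ⟨k, -, t, ht, hv⟩
    · exact ⟨hv.2, hSts _ hv.1⟩
    · rw [hv]
      exact ⟨smul_ne_zero ht fun h0 => ha0 (k.1.1.injective (h0.trans (map_zero _).symm)),
        by rw [Q_smul, eg_Q, ha, mul_zero]⟩
  have h1 := orbit_bound (K := K) h.nd hn ha0 ha
  have h3 := (Nat.mul_le_mul_right _ (hall a ha ha0 hsa)).trans h1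
  have hz := h.zero
  have hsc := singCard_eq Q
  set q := Nat.card F with hqdef
  have horb : (orbitV K a).ncard ≤ cA F * (q - 1) := by
    have e1 : cA F * (q - 1) + q ^ 3 = q ^ 7 := by
      obtain ⟨k, hk⟩ : ∃ k, q = k + 1 := ⟨q - 1, by omega⟩
      unfold cA; rw [← hqdef, hk, Nat.add_sub_cancel]; ring
    have e2 : 1 ≤ q ^ 4 := Nat.one_le_pow _ _ (by omega)
    simp only [show 2 * 4 - 1 = 7 from rfl, show 4 - 1 = 3 from rfl] at hz
    omega
  have hA0 : 0 < cA F := by unfold cA; rw [← hqdef]; positivity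
  refine Nat.le_of_mul_le_mul_right (hT.trans ?_) (show 0 < q - 1 by omega)
  refine Nat.le_of_mul_le_mul_left (h3.trans ?_) hA0
  calc K.index * (orbitV K a).ncard ≤ K.index * (cA F * (q - 1)) := Nat.mul_le_mul_left _ horb
    _ = _ := by ring

include h hf in
/-- Without bad points some element of a stabiliser has no lift. -/
theorem good_bound {T : ℕ} (hq4 : 4 ≤ Nat.card F) (h2A : T ≤ 2 * cA F)
    (hgood : ∀ x : V, Q x = 0 → x ≠ 0 → nPar K x ≤ Nat.card F ^ 4) {e : V} (he : Q e = 0)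
    (he0 : e ≠ 0) : T ≤ K.index := by
  classical
  haveI := finite_V F V
  by_contra hcon
  have hlift : ∀ g ∈ parSt K he, ∃ w, polar Q e w = 0 ∧ g * el Q e w ∈ K := by
    intro g hg
    by_contra hno
    push Not at hno
    exact hcon (h2A.trans ((cA_le h hf he he0 (hgood e he he0)
      (two_mul_relIndex_le he hg hno)).trans (relIndex_le_index K _)))
  obtain ⟨U, hU4, hUts, hU⟩ := good_space hf he he0 (hgood e he he0) h.nd h.rank
  have heU : e ∈ U := (hU e).2 (by simpa using smul_self_mem_pp K he (1 : F))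
  obtain ⟨f, hp⟩ := exists_hypPair h.nd he0 he
  obtain ⟨s, hs0, hs2⟩ : ∃ s : F, s ≠ 0 ∧ s * s ≠ 1 := by
    by_contra hcs
    push Not at hcs
    have h1 : (Finset.univ : Finset F) ⊆ {0, 1, -1} := fun x _ => by
      by_cases hx : x = 0
      · simp [hx]
      · rcases mul_self_eq_one_iff.1 (hcs x hx) with h | h <;> simp [h]
    have h2 := (Finset.card_le_card h1).trans Finset.card_le_three
    rw [Finset.card_univ, ← Nat.card_eq_fintype_card] at h2
    omega
  have hss : s * s ≠ 0 := mul_ne_zero hs0 hs0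
  obtain ⟨τ, hτe, hτf, hτW⟩ := exists_torus h.nd (by rw [h.rank]; omega) hp hs0
  have hdec : ∀ v, polar Q e v = 0 → v - polar Q f v • e ∈ core Q e f := fun v hv => by
    have := hp.proj_mem v
    rwa [hv, zero_smul, sub_zero] at this
  have hτU : τ ∈ parSt K he := parSt_of_map_le hss hτe fun x hx => by
    refine (hU _).1 (U.smul_mem _ ?_)
    have hxU := (hU x).2 hx
    have hsplit : x = (x - polar Q f x • e) + polar Q f x • e := (sub_add_cancel _ _).symm
    rw [hsplit, map_add, map_smul, hτe, hτW _ (hdec x hx.1)]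
    exact U.add_mem (U.sub_mem hxU (U.smul_mem _ heU)) (U.smul_mem _ (U.smul_mem _ heU))
  obtain ⟨d₁, hd₁, hτd₁⟩ := hlift τ hτU
  set d := d₁ - polar Q f d₁ • e
  have hdW := hdec d₁ hd₁
  have hτd : τ * el Q e d ∈ K := by
    rwa [show d = d₁ + (-(polar Q f d₁)) • e by simp only [d]; rw [neg_smul, ← sub_eq_add_neg],
      el_shift ⟨he, hd₁⟩]
  have hr : 1 - (s * s)⁻¹ ≠ 0 := fun h0 => hs2 (inv_eq_one.1 (sub_eq_zero.1 h0).symm)
  set d₀ := (1 - (s * s)⁻¹)⁻¹ • d with hd₀
  have hd0c : d₀ ∈ core Q e f := Submodule.smul_mem _ _ hdW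
  have hS0 : SPair Q e d₀ := ⟨he, (mem_core.1 hd0c).1⟩
  set D := el Q e (-d₀) with hD
  have hDe : D.1.1 e = e := el_fix_base hS0.neg
  set f' := D.1.1 f with hf'
  have hp' : HypPair Q e f' := ⟨he, (eg_Q D f).trans hp.right, by
    conv_lhs => arg 2; rw [← hDe]
    rw [eg_polar]; exact hp.pol⟩
  have hDinv : ∀ w ∈ core Q e f', D⁻¹.1.1 w ∈ core Q e f := fun w hw => by
    rw [mem_core]
    constructor
    · rw [← eg_polar D, hDe, eg_apply_inv]; exact (mem_core.1 hw).1
    · rw [← eg_polar D, eg_apply_inv]; exact (mem_core.1 hw).2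
  set τ₁ := D * τ * D⁻¹ with hτ₁
  have hτ₁e : τ₁.1.1 e = (s * s) • e := by
    have hDi : D⁻¹.1.1 e = e := by conv_lhs => rw [← hDe, eg_inv_apply]
    rw [hτ₁, eg_mul_apply, eg_mul_apply, hDi, hτe, map_smul, hDe]
  have hτ₁f : τ₁.1.1 f' = (s * s)⁻¹ • f' := by
    rw [hτ₁, eg_mul_apply, eg_mul_apply, hf', eg_inv_apply, hτf, map_smul]
  have hτ₁W : ∀ w ∈ core Q e f', τ₁.1.1 w = w := fun w hw => by
    rw [hτ₁, eg_mul_apply, eg_mul_apply, hτW _ (hDinv w hw), eg_apply_inv]
  have hτ₁K : τ₁ ∈ K := by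
    have h1 := el_conj τ⁻¹ e (-d₀)
    have hti : τ⁻¹.1.1 e = (s * s)⁻¹ • e := by
      have h2 := congrArg (fun x => (s * s)⁻¹ • τ⁻¹.1.1 x) hτe
      simp only [eg_inv_apply, map_smul, smul_smul, inv_mul_cancel₀ hss, one_smul] at h2
      exact h2.symm
    have htd : τ⁻¹.1.1 (-d₀) = -d₀ := by
      conv_lhs => rw [← hτW _ ((core Q e f).neg_mem hd0c), eg_inv_apply]
    rw [hti, htd, el_smul_left (inv_ne_zero hss), inv_inv] at h1
    have h3 : τ₁ = τ * (τ⁻¹ * D * τ) * D⁻¹ := by rw [hτ₁]; group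
    rw [h3, hD, h1, el_inv, neg_neg, mul_assoc, el_mul (hS0.neg.smul _) hS0,
      show (s * s)⁻¹ • -d₀ + d₀ = d by
        rw [smul_neg, neg_add_eq_sub, show d₀ - (s * s)⁻¹ • d₀ = (1 - (s * s)⁻¹) • d₀ by
          rw [sub_smul, one_smul], hd₀, smul_smul, mul_inv_cancel₀ hr, one_smul]]
    exact hτd
  -- root elements of the subspace lie in `K`
  have hg : ∀ y z : V, y ∈ U → z ∈ U → polar Q f' y = 0 → polar Q f' z = 0 → el Q y z ∈ K := by
    intro y z hy hz hfy hfz
    have hS : SPair Q y z := ⟨hUts y hy, polar_eq_zero_of_ts hUts hy hz⟩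
    have hge : (el Q y z).1.1 e = e :=
      el_fix hS (polar_eq_zero_of_ts hUts hy heU) (polar_eq_zero_of_ts hUts hz heU)
    obtain ⟨c₁, hc₁, hgc₁⟩ := hlift _ (parSt_of_map_le (g := el Q y z) one_ne_zero
      (by rw [one_smul]; exact hge) fun x hx => by
        rw [one_smul, el_fix hS (polar_eq_zero_of_ts hUts hy ((hU x).2 hx))
          (polar_eq_zero_of_ts hUts hz ((hU x).2 hx))]
        exact hx)
    set c := c₁ - polar Q f' c₁ • e
    have hcW : c ∈ core Q e f' := by
      have := hp'.proj_mem c₁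
      rwa [hc₁, zero_smul, sub_zero] at this
    have hgc : el Q y z * el Q e c ∈ K := by
      rwa [show c = c₁ + (-(polar Q f' c₁)) • e by simp only [c]; rw [neg_smul, ← sub_eq_add_neg],
        el_shift ⟨he, hc₁⟩]
    have hSc : SPair Q e c := ⟨he, (mem_core.1 hcW).1⟩
    have hyW : y ∈ core Q e f' := mem_core.2 ⟨polar_eq_zero_of_ts hUts heU hy, hfy⟩
    have hzW : z ∈ core Q e f' := mem_core.2 ⟨polar_eq_zero_of_ts hUts heU hz, hfz⟩
    have h1 : τ₁ * (el Q y z * el Q e c) * τ₁⁻¹ = el Q y z * el Q e ((s * s) • c) := by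
      rw [show τ₁ * (el Q y z * el Q e c) * τ₁⁻¹ =
          (τ₁ * el Q y z * τ₁⁻¹) * (τ₁ * el Q e c * τ₁⁻¹) by group, el_conj, el_conj,
        hτ₁W y hyW, hτ₁W z hzW, hτ₁e, hτ₁W c hcW, el_smul_left hss]
    have h2 := K.mul_mem (K.inv_mem hgc) (h1 ▸ K.mul_mem (K.mul_mem hτ₁K hgc) (K.inv_mem hτ₁K))
    rw [mul_inv_rev, mul_assoc, inv_mul_cancel_left, el_inv,
      el_mul hSc.neg (hSc.smul _),
      show -c + (s * s) • c = (s * s - 1) • c by rw [sub_smul, one_smul]; abel] at h2
    have h3 : (s * s - 1) • c ∈ U := (hU _).2 ⟨(hSc.smul _).perp, h2⟩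
    have h4 : c ∈ U := by
      have := U.smul_mem (s * s - 1)⁻¹ h3
      rwa [smul_smul, inv_mul_cancel₀ (sub_ne_zero.2 hs2), one_smul] at this
    exact (K.mul_mem_cancel_right ((hU c).1 h4).2).1 hgc
  have hf0 : f' ≠ 0 := fun h0 => by
    have := hp'.pol; rw [h0, polar_zero_right] at this; exact zero_ne_one this
  obtain ⟨U', hU'4, hU'ts, hU'⟩ := good_space hf hp'.right hf0 (hgood f' hp'.right hf0) h.nd h.rank
  have hint : ∀ v ∈ U, v ∈ U' → v = 0 := by
    intro v hv hv'
    by_contra hv0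
    have hQv := hUts v hv
    obtain ⟨Uv, -, hUvts, hUv⟩ := good_space hf hQv hv0 (hgood v hQv hv0) h.nd h.rank
    have hswap : ∀ x, Q x = 0 → ∀ hx : polar Q x v = 0, el Q x v ∈ K → x ∈ Uv := by
      intro x hx hxv hK
      have h1 : el Q v (-x) ∈ K := by rwa [el_swap hQv hx ((polar_comm Q v x).trans hxv)] at hK
      have h2 : -x ∈ Uv := (hUv _).2 ⟨by
        rw [polar_neg_right, (polar_comm Q v x).trans hxv, neg_zero], h1⟩
      simpa using Uv.neg_mem h2
    have h1 := polar_eq_zero_of_ts hUvts (hswap e he ((hU v).1 hv).1 ((hU v).1 hv).2)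
      (hswap f' hp'.right ((hU' v).1 hv').1 ((hU' v).1 hv').2)
    rw [hp'.pol] at h1
    exact one_ne_zero h1
  set Y := U ⊓ LinearMap.ker (polarBilin Q f')
  have hcut : ∀ (X : Submodule F V) (v : V), finrank F X = 4 →
      3 ≤ finrank F (X ⊓ LinearMap.ker (polarBilin Q v) : Submodule F V) := by
    intro X v hX
    have h1 := Submodule.finrank_sup_add_finrank_inf_eq X (LinearMap.ker (polarBilin Q v))
    have h2 := Submodule.finrank_le (X ⊔ LinearMap.ker (polarBilin Q v))
    have h3 := LinearMap.finrank_range_add_finrank_ker (polarBilin Q v)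
    have h4 := Submodule.finrank_le (LinearMap.range (polarBilin Q v))
    rw [finrank_self] at h4
    rw [h.rank] at h2 h3
    omega
  obtain ⟨x, hx, hx0⟩ := Submodule.exists_mem_ne_zero_of_ne_bot
    (show U' ⊓ LinearMap.ker (polarBilin Q e) ≠ ⊥ from fun hb => by
      have := hcut U' e hU'4; rw [hb, finrank_bot] at this; omega)
  obtain ⟨hxU', hxe⟩ := hx
  have hxe : polar Q e x = 0 := hxe
  have hYx : ∀ y ∈ Y, polar Q y x = 0 := by
    intro y hy
    by_cases hy0 : y = 0
    · rw [hy0, polar_zero_left]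
    obtain ⟨z, hzY, hzy⟩ : ∃ z ∈ Y, z ∉ Submodule.span F ({y} : Set V) := by
      by_contra hcs
      push Not at hcs
      have h1 := Submodule.finrank_mono (show Y ≤ Submodule.span F ({y} : Set V) from hcs)
      rw [finrank_span_singleton hy0] at h1
      have : 3 ≤ finrank F Y := hcut U f' hU4
      omega
    have hgK := hg y z hy.1 hzY.1 hy.2 hzY.2
    have hS : SPair Q y z := ⟨hUts y hy.1, polar_eq_zero_of_ts hUts hy.1 hzY.1⟩
    set g := el Q y z with hgdef
    have hgf : g.1.1 f' = f' :=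
      el_fix hS ((polar_comm Q _ _).trans hy.2) ((polar_comm Q _ _).trans hzY.2)
    have hgx : g.1.1 x ∈ U' := by
      refine (hU' _).2 ⟨?_, ?_⟩
      · conv_lhs => arg 2; rw [← hgf]
        rw [eg_polar]; exact ((hU' x).1 hxU').1
      · have := K.mul_mem (K.mul_mem hgK ((hU' x).1 hxU').2) (K.inv_mem hgK)
        rwa [el_conj, hgf] at this
    have hdiff : polar Q y x • z - polar Q z x • y ∈ U' := by
      have := U'.sub_mem hgx hxU'
      rwa [hgdef, el_apply hS, hUts z hzY.1, zero_mul, add_zero, add_sub_assoc,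
        add_sub_cancel_left] at this
    have h0 := hint _ (U.sub_mem (U.smul_mem _ hzY.1) (U.smul_mem _ hy.1)) hdiff
    by_contra hne
    refine hzy (Submodule.mem_span_singleton.2 ⟨(polar Q y x)⁻¹ * polar Q z x, ?_⟩)
    rw [sub_eq_zero] at h0
    rw [← smul_smul, ← h0, smul_smul, inv_mul_cancel₀ hne, one_smul]
  have hxperp : x ∈ perpS Q U := fun u hu => by
    show polar Q u x = 0
    have hy : u - polar Q f' u • e ∈ Y := ⟨U.sub_mem hu (U.smul_mem _ heU), by
      show polar Q f' (u - polar Q f' u • e) = 0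
      rw [polar_sub_right, polar_smul_right, hp'.pol']; simp⟩
    have := hYx _ hy
    rwa [polar_sub_left, polar_smul_left, hxe, smul_zero, sub_zero] at this
  have hUperp : perpS Q U = U := by
    refine (Submodule.eq_of_le_of_finrank_eq
      (show U ≤ perpS Q U from fun u hu v hv => polar_eq_zero_of_ts hUts hv hu) ?_).symm
    rw [finrank_perpS h.nd, h.rank, hU4]
  exact hx0 (hint x (hUperp ▸ hxperp) hxU')

end Exception

/-- The plus series, `q ≥ 4`. -/
theorem plus_bound {m : ℕ} (h : PlusData Q m) (hm : 4 ≤ m) (hq4 : 4 ≤ Nat.card F) {T : ℕ}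
    (hT : T * (Nat.card F - 1) ≤ singCard Q) {K : Subgroup (EG Q)} (hK : K ≠ ⊤) :
    T ≤ K.index := by
  obtain ⟨e, he, he0, hs⟩ := exists_small h.nd (by rw [h.rank]; omega) hK
  rw [h.rank, show 2 * m / 2 = m by omega] at hs
  rcases plus_point h hm hq4 hT he0 he hs with hle | ⟨rfl, -, -⟩
  · exact hle
  by_contra hcon
  have hf : SmallFull K := fun r hr hr0 hsr => by
    rcases plus_point h hm hq4 hT hr0 hr hsr with hle | ⟨-, h1, h2⟩
    · exact absurd hle hcon
    · exact ⟨h1, h2⟩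
  have h2A : T ≤ 2 * cA F := by
    have hz := h.zero
    rw [singCard_eq] at hT
    simp only [show 2 * 4 - 1 = 7 from rfl, show 4 - 1 = 3 from rfl] at hz
    refine Nat.le_of_mul_le_mul_right (hT.trans ?_) (show 0 < Nat.card F - 1 by omega)
    obtain ⟨k, hk⟩ : ∃ k, Nat.card F = k + 1 := ⟨Nat.card F - 1, by omega⟩
    have e1 : cA F * (Nat.card F - 1) + Nat.card F ^ 3 = Nat.card F ^ 7 := by
      unfold cA; rw [hk, Nat.add_sub_cancel]; ring
    have e2 : Nat.card F ^ 3 * 2 ≤ Nat.card F ^ 4 :=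
      (Nat.mul_le_mul_left _ (show 2 ≤ Nat.card F by omega)).trans_eq (pow_succ _ _).symm
    have e3 : Nat.card F ^ 4 * 2 ≤ Nat.card F ^ 7 := by
      rw [show Nat.card F ^ 7 = Nat.card F ^ 4 * Nat.card F ^ 3 by rw [← pow_add]]
      exact Nat.mul_le_mul_left _
        ((show 2 ≤ Nat.card F by omega).trans (Nat.le_self_pow (by omega) _))
    rw [mul_assoc]
    omega
  by_cases hbad : ∃ r, Bad K r
  · obtain ⟨r, hr⟩ := hbad
    exact hcon (bad_bound h hf hT h2A (fun a ha ha0 hsa => cA_le_one h hf ha ha0 hsa) he he0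
      (nPar_eq K he ▸ hs) hr)
  · push Not at hbad
    exact hcon (good_bound h hf hq4 h2A
      (fun x hx hx0 => not_lt.1 fun hlt => hbad x ⟨hx0, hx, hlt⟩) he he0)

end Cfsg.Agent.Lib.MinIndexOmega
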