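import Mathlib
import Cfsg.Agent.Lib.MinIndexOmega.PlusFour
import Cfsg.Agent.Lib.MinIndexOmega.Small
import Cfsg.Agent.Lib.MinIndexOmega.Neighbour

/-!
Lib/MinIndexOmega/TwoEight: over two elements, dimension eight of plus type: a small index puts
the lifts of root elements on their lines.
-/

set_option autoImplicit false
set_option linter.unusedSectionVars false

namespace Cfsg.Agent.Lib.MinIndexOmega

open Module QuadraticMap Cfsg.Agent.Lib.Forms Cfsg.Agent.Lib.OrthOmega Cfsg.Agent.Lib.AutPOmega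

variable {F : Type*} [Field F] [Fintype F] {V : Type*} [AddCommGroup V] [Module F V]
variable [FiniteDimensional F V] {Q : QuadraticForm F V}

theorem hyp_level {e f : V} (hp : HypPair Q e f) (c : F) :
    levelCard Q c = (Nat.card F - 1) * Nat.card F ^ finrank F (core Q e f) +
      Nat.card F * levelCard (res Q (core Q e f)) c := by
  haveI := finite_V F V
  have hV : levelCard Q c = levelCard (qHyp.prod (res Q (core Q e f))) c :=
    card_level_congr ⟨{ hp.split with map_app' := fun v => (hp.Q_eq v).symm }⟩ c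
  rw [hV, levelCard_hyp_prod, Module.natCard_eq_pow_finrank (K := F) (V := core Q e f)]

/-- A basis of the complement adapted to a line. -/
structure Four (Q : QuadraticForm F V) (e f x v x' v' z z' : V) : Prop where
  x_mem : x ∈ core Q e f
  v_mem : v ∈ core Q e f
  x'_mem : x' ∈ core Q e f
  v'_mem : v' ∈ core Q e f
  z_mem : z ∈ core Q e f
  z'_mem : z' ∈ core Q e f
  xx : HypPair Q x x'
  vv : HypPair Q v v'
  zz : HypPair Q z z'
  xv : polar Q x v = 0
  xv' : polar Q x v' = 0
  x'v : polar Q x' v = 0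
  x'v' : polar Q x' v' = 0
  xz : polar Q x z = 0
  xz' : polar Q x z' = 0
  x'z : polar Q x' z = 0
  x'z' : polar Q x' z' = 0
  vz : polar Q v z = 0
  vz' : polar Q v z' = 0
  v'z : polar Q v' z = 0
  v'z' : polar Q v' z' = 0

variable {e f x v x' v' z z' : V}

theorem lpair_of_partner {a a' b : V} (hp : HypPair Q a a') (hb : Q b = 0) (hb0 : b ≠ 0)
    (h : polar Q a b = 0) (h' : polar Q a' b = 0) : LPair Q a b :=
  ⟨hp.left, hb, h, LinearIndependent.pair_iff.2 fun s t hst => by
    have h1 := congrArg (polar Q a') hst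
    simp only [polar_add_right, polar_smul_right, hp.pol', h', polar_zero_right, smul_eq_mul,
      mul_one, mul_zero, add_zero] at h1
    rw [h1, zero_smul, zero_add, smul_eq_zero] at hst
    exact ⟨h1, hst.resolve_right hb0⟩⟩

theorem hyp_ne {a b : V} (hp : HypPair Q a b) : a ≠ 0 ∧ b ≠ 0 := by
  constructor <;> intro h <;> have := hp.pol <;> rw [h] at this <;> simp at this

theorem Four.line (h : Four Q e f x v x' v' z z') : LPair Q x v :=
  lpair_of_partner h.xx h.vv.left (hyp_ne h.vv).1 h.xv h.x'v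

theorem Four.frame (h : Four Q e f x v x' v' z z') : Frame Q e f x v x' :=
  ⟨h.x_mem, h.v_mem, h.line, h.x'_mem, h.xx, (polar_comm Q _ _).trans h.x'v⟩

theorem Four.swapLine (h : Four Q e f x v x' v' z z') : Four Q e f v x v' x' z z' :=
  ⟨h.v_mem, h.x_mem, h.v'_mem, h.x'_mem, h.z_mem, h.z'_mem, h.vv, h.xx, h.zz,
    (polar_comm Q _ _).trans h.xv, (polar_comm Q _ _).trans h.x'v, (polar_comm Q _ _).trans h.xv',
    (polar_comm Q _ _).trans h.x'v', h.vz, h.vz', h.v'z, h.v'z', h.xz, h.xz', h.x'z, h.x'z'⟩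

theorem Four.swapPair (h : Four Q e f x v x' v' z z') : Four Q e f x v x' v' z' z :=
  ⟨h.x_mem, h.v_mem, h.x'_mem, h.v'_mem, h.z'_mem, h.z_mem, h.xx, h.vv,
    ⟨h.zz.right, h.zz.left, h.zz.pol'⟩, h.xv, h.xv', h.x'v, h.x'v', h.xz', h.xz, h.x'z', h.x'z,
    h.vz', h.vz, h.v'z', h.v'z⟩

theorem exists_four (h : PlusData Q 4) (hq : Nat.card F = 2) (hp : HypPair Q e f)
    (hx : x ∈ core Q e f) (hv : v ∈ core Q e f) (hl : LPair Q x v) :
    ∃ x' v' z z', Four Q e f x v x' v' z z' := by
  haveI := finite_V F V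
  obtain ⟨x', hfr⟩ := exists_frame' h.nd hp hx hv hl
  set W := core Q e f
  have hW : Nondeg (res Q W) := hp.nondeg_core h.nd
  set X : W := ⟨x, hx⟩
  set X' : W := ⟨x', hfr.hx'⟩
  have hpX : HypPair (res Q W) X X' := ⟨hl.qa, hfr.pair.right, by
    rw [res_polar]; exact hfr.pair.pol⟩
  set W1 := core (res Q W) X X'
  have hW1 : Nondeg (res (res Q W) W1) := hpX.nondeg_core hW
  set V1 : W1 := ⟨⟨v, hv⟩, mem_core.2 ⟨by rw [res_polar]; exact hl.perp, by
    rw [res_polar]; exact (polar_comm Q _ _).trans hfr.perp⟩⟩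
  have hV10 : V1 ≠ 0 := fun h0 => hl.ne' (congrArg (fun u : W1 => ((u : W) : V)) h0)
  obtain ⟨V1', hpV⟩ := exists_hypPair hW1 hV10 (show res (res Q W) W1 V1 = 0 from hl.qb)
  set W2 := core (res (res Q W) W1) V1 V1'
  have hW2 := hpV.nondeg_core hW1
  have d0 : finrank F W + 2 = finrank F V := hp.finrank_core
  have d1 : finrank F W1 + 2 = finrank F W := hpX.finrank_core
  have d2 : finrank F W2 + 2 = finrank F W1 := hpV.finrank_core
  rw [h.rank] at d0
  have hz : levelCard Q 0 + Nat.card F ^ 3 = Nat.card F ^ 7 + Nat.card F ^ 4 := h.zero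
  have l0 := hyp_level hp (0 : F)
  have l1 := hyp_level hpX (0 : F)
  have l2 := hyp_level hpV (0 : F)
  have f0 : finrank F (core Q e f) = 6 := (by omega : finrank F W = 6)
  have f1 : finrank F (core (res Q W) X X') = 4 := (by omega : finrank F W1 = 4)
  have f2 : finrank F (core (res (res Q W) W1) V1 V1') = 2 := (by omega : finrank F W2 = 2)
  rw [hq, f0] at l0
  rw [hq, f1] at l1
  rw [hq, f2] at l2
  rw [hq] at hz
  norm_num at l0 l1 l2 hz
  have m0 : levelCard (res Q (core Q e f)) (0 : F) = levelCard (V := W) (res Q W) (0 : F) := rfl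
  have m1 : levelCard (res (res Q W) (core (res Q W) X X')) (0 : F) =
      levelCard (V := W1) (res (res Q W) W1) (0 : F) := rfl
  have m2 : levelCard (V := core (res (res Q W) W1) V1 V1')
      (res (res (res Q W) W1) (core (res (res Q W) W1) V1 V1')) (0 : F) =
      levelCard (V := W2) (res (res (res Q W) W1) W2) (0 : F) := rfl
  have hthree : levelCard (V := W2) (res (res (res Q W) W1) W2) (0 : F) = 3 := by omega
  obtain ⟨Z, hZ0, hQZ⟩ : ∃ Z : W2, Z ≠ 0 ∧ res (res (res Q W) W1) W2 Z = 0 := by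
    by_contra hcon
    push Not at hcon
    have : Subsingleton {u : W2 // res (res (res Q W) W1) W2 u = 0} := ⟨fun a b => Subtype.ext (by
      rw [not_imp_not.1 (hcon a.1) a.2, not_imp_not.1 (hcon b.1) b.2])⟩
    have := (Finite.card_le_one_iff_subsingleton).2 this
    rw [levelCard] at hthree
    omega
  obtain ⟨Z', hpZ⟩ := exists_hypPair hW2 hZ0 hQZ
  have hr : ∀ (u : W1) (w : W1), polar (res (res Q W) W1) u w =
      polar Q ((u : W) : V) ((w : W) : V) := fun u w => by rw [res_polar, res_polar]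
  have c1 : ∀ u : W1, polar Q x ((u : W) : V) = 0 ∧ polar Q x' ((u : W) : V) = 0 := fun u => by
    have := mem_core.1 u.2
    rw [res_polar, res_polar] at this
    exact this
  have c2 : ∀ u : W2, polar Q v (((u : W1) : W) : V) = 0 ∧
      polar Q ((V1' : W) : V) (((u : W1) : W) : V) = 0 := fun u => by
    have := mem_core.1 u.2
    rw [hr, hr] at this
    exact this
  refine ⟨x', ((V1' : W) : V), (((Z : W1) : W) : V), (((Z' : W1) : W) : V),
    ⟨hx, hv, hfr.hx', V1'.1.2, Z.1.1.2, Z'.1.1.2, hfr.pair,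
      ⟨hl.qb, hpV.right, by have := hpV.pol; rwa [hr] at this⟩,
      ⟨hpZ.left, hpZ.right, by have := hpZ.pol; rwa [res_polar, hr] at this⟩,
      hl.perp, (c1 V1').1, (polar_comm Q _ _).trans hfr.perp, (c1 V1').2, (c1 Z).1, (c1 Z').1,
      (c1 Z).2, (c1 Z').2, (c2 Z).1, (c2 Z').1, (c2 Z).2, (c2 Z').2⟩⟩

theorem two_facts (hq : Nat.card F = 2) :
    ∃ _ : CharP F 2, (2 : F) = 0 ∧ ∀ t : F, t ≠ 0 → t = 1 := by
  obtain ⟨p, hchar⟩ := CharP.exists F
  have hp : p.Prime := CharP.char_is_prime F p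
  obtain ⟨k, -, hk⟩ := FiniteField.card F p
  rw [← Nat.card_eq_fintype_card, hq] at hk
  have hp2 : p = 2 := ((Nat.prime_dvd_prime_iff_eq hp Nat.prime_two).1
    (hk ▸ dvd_pow_self p k.2.ne'))
  subst hp2
  refine ⟨hchar, by exact_mod_cast CharP.cast_eq_zero F 2, fun t ht => ?_⟩
  have h := FiniteField.pow_card_sub_one_eq_one t ht
  rw [← Nat.card_eq_fintype_card, hq, show 2 - 1 = 1 from rfl, pow_one] at h
  exact h

/-- Every point with few parameters has trivial parameters and lifts. -/
def SmallTriv (K : Subgroup (EG Q)) : Prop :=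
  ∀ (r : V) (hr : Q r = 0), r ≠ 0 → Nat.card (pp K hr) ≤ Nat.card F ^ 4 →
    (∀ w ∈ pp K hr, ∃ t : F, w = t • r) ∧
      K.relIndex (pStab Q r) < 2 * Nat.card F ^ (finrank F V - 2)

variable {K : Subgroup (EG Q)}

theorem small_of_not_line (h : PlusData Q 4) (hq : Nat.card F = 2) (hd : LiftData K e f)
    (hx : x ∈ core Q e f) (hv : v ∈ core Q e f) (hl : LPair Q x v)
    (hne : cz K e f (el Q x v) ∉ Submodule.span F ({x, v} : Set V)) {r : V}
    (hr : r ∈ plane F e x v) (hr' : ∀ t : F, r ≠ t • e) (hQr : Q r = 0) :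
    Nat.card (pp K hQr) ≤ Nat.card F ^ 4 := by
  obtain ⟨_, -, hk⟩ := two_facts hq
  by_contra hbig
  push Not at hbig
  let U : Submodule F V :=
    { carrier := (pp K hQr : Set V)
      add_mem' := fun ha hb => (pp K hQr).add_mem ha hb
      zero_mem' := zero_mem (pp K hQr)
      smul_mem' := fun t w hw => smul_mem_pp hq K hQr t hw }
  refine hne (lift_of_big hd (by rw [h.rank]; omega) (fun t ht => Or.inl (hk t ht)) hx hv hl hr hr'
    (U := U) (fun w hw => hw) ?_)
  have hcard : Nat.card (pp K hQr) = Nat.card F ^ finrank F U := by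
    rw [← Module.natCard_eq_pow_finrank (K := F)]
    exact Nat.card_congr (Equiv.refl _)
  rw [hcard] at hbig
  have := (Nat.pow_lt_pow_iff_right (Finite.one_lt_card (α := F))).1 hbig
  rw [h.rank]; omega

theorem off_point (hp : HypPair Q e f) (hx : x ∈ core Q e f) (hv : v ∈ core Q e f)
    (hl : LPair Q x v) {a b d : F} (h : b ≠ 0 ∨ d ≠ 0) (t : F) :
    a • e + b • x + d • v ≠ t • e := by
  intro ht
  have h1 := congrArg (polar Q f) ht
  simp only [polar_add_right, polar_smul_right, hp.pol', (mem_core.1 hx).2, (mem_core.1 hv).2,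
    smul_eq_mul, mul_one, mul_zero, add_zero] at h1
  rw [h1, add_assoc, add_eq_left] at ht
  obtain ⟨hb, hd⟩ := LinearIndependent.pair_iff.1 hl.ind _ _ ht
  tauto

/-- A vector orthogonal to the plane is given by its two values. -/
theorem Four.decomp (h : Four Q e f x v x' v' z z') (hn : Nondeg Q) (h8 : finrank F V = 8)
    (hd : LiftData K e f) {w : V} (hw : w ∈ perpS Q (plane F e x v)) :
    ∃ p ∈ plane F e x v, w = p + polar Q w z' • z + polar Q w z • z' := by
  set P := plane F e x v
  have hts := plane_ts hd.pair h.x_mem h.v_mem h.line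
  have hzP : z ∈ perpS Q P := mem_perpS_span.2 fun u hu => by
    rcases hu with rfl | rfl | rfl
    · exact (mem_core.1 h.z_mem).1
    · exact h.xz
    · exact h.vz
  have hz'P : z' ∈ perpS Q P := mem_perpS_span.2 fun u hu => by
    rcases hu with rfl | rfl | rfl
    · exact (mem_core.1 h.z'_mem).1
    · exact h.xz'
    · exact h.vz'
  set M := Submodule.span F ({z, z'} : Set V)
  have hdis : P ⊓ M = ⊥ := by
    rw [Submodule.eq_bot_iff]
    rintro u ⟨huP, huM⟩
    obtain ⟨s, t, rfl⟩ := Submodule.mem_span_pair.1 huM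
    have h1 : polar Q (s • z + t • z') z = 0 := hzP _ huP
    have h2 : polar Q (s • z + t • z') z' = 0 := hz'P _ huP
    simp only [polar_add_left, polar_smul_left, h.zz.pol_ee, h.zz.pol', h.zz.pol, h.zz.pol_ff,
      smul_eq_mul, mul_zero, mul_one, zero_add, add_zero] at h1 h2
    rw [h1, h2]; simp
  have hM2 : finrank F M = 2 := by
    have hl : LinearIndependent F ![z, z'] := LinearIndependent.pair_iff.2 fun s t hst => by
      have h1 := congrArg (polar Q z) hst
      have h2 := congrArg (polar Q z') hst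
      simp only [polar_add_right, polar_smul_right, h.zz.pol_ee, h.zz.pol, h.zz.pol', h.zz.pol_ff,
        polar_zero_right, smul_eq_mul, mul_zero, mul_one, zero_add, add_zero] at h1 h2
      exact ⟨h2, h1⟩
    have h' := finrank_span_eq_card hl
    rw [Matrix.range_cons, Matrix.range_cons, Matrix.range_empty, Set.union_empty,
      Set.singleton_union, Fintype.card_fin] at h'
    exact h'
  have hle : P ⊔ M ≤ perpS Q P := sup_le (fun u hu r hr => (hts r hr u hu).1)
    (Submodule.span_le.2 (by rintro u (rfl | rfl) <;> assumption))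
  have heq : P ⊔ M = perpS Q P := by
    refine Submodule.eq_of_le_of_finrank_le hle ?_
    have h1 := Submodule.finrank_sup_add_finrank_inf_eq P M
    rw [hdis, finrank_bot, hM2, finrank_plane hd h.x_mem h.v_mem h.line] at h1
    rw [finrank_perpS hn, finrank_plane hd h.x_mem h.v_mem h.line, h8]
    omega
  rw [← heq] at hw
  obtain ⟨p, hp, m, hm, rfl⟩ := Submodule.mem_sup.1 hw
  obtain ⟨s, t, rfl⟩ := Submodule.mem_span_pair.1 hm
  refine ⟨p, hp, ?_⟩
  rw [polar_add_left, polar_add_left, polar_add_left, polar_add_left,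
    show polar Q p z = 0 from hzP p hp, show polar Q p z' = 0 from hz'P p hp]
  simp only [polar_smul_left, h.zz.pol_ee, h.zz.pol', h.zz.pol, h.zz.pol_ff, smul_eq_mul, mul_zero,
    mul_one, zero_add, add_zero]
  abel

/-- A vector of the complement orthogonal to the line and the pair lies on the line. -/
theorem Four.on_line (h : Four Q e f x v x' v' z z') (hn : Nondeg Q) (h8 : finrank F V = 8)
    (hd : LiftData K e f) {c : V} (hc : c ∈ core Q e f) (hxc : polar Q x c = 0)
    (hvc : polar Q v c = 0) (hzc : polar Q c z = 0) (hz'c : polar Q c z' = 0) :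
    c ∈ Submodule.span F ({x, v} : Set V) := by
  refine mem_line_of_perp_plane hd h.x_mem h.v_mem hc fun u hu => ?_
  obtain ⟨p, hp, hu'⟩ := h.decomp hn h8 hd hu
  obtain ⟨a, b, d, hpd⟩ := Submodule.mem_span_triple.1 hp
  show polar Q u c = 0
  rw [hu', ← hpd]
  simp only [polar_add_left, polar_smul_left, (mem_core.1 hc).1, hxc, hvc,
    (polar_comm Q z c).trans hzc, (polar_comm Q z' c).trans hz'c, smul_zero, add_zero]

/-- The additive family in the unipotent radical of a plane. -/
noncomputable def phi (Q : QuadraticForm F V) (e x v z y : V) (k : F) (l : V) : EG Q :=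
  el Q z y * (el Q x (k • v) * el Q e l)

theorem phi_mul (hd : LiftData K e f) (h : Four Q e f x v x' v' z z') {y y₂ l l₂ : V} {k k₂ : F}
    (hy : y ∈ plane F e x v) (hy₂ : y₂ ∈ plane F e x v)
    (hl : l ∈ Submodule.span F ({x, v} : Set V)) (hl₂ : l₂ ∈ Submodule.span F ({x, v} : Set V)) :
    phi Q e x v z y k l * phi Q e x v z y₂ k₂ l₂ = phi Q e x v z (y + y₂) (k + k₂) (l + l₂) := by
  have hts := plane_ts hd.pair h.x_mem h.v_mem h.line
  have hxP : x ∈ plane F e x v := Submodule.subset_span (by simp)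
  have hvP : v ∈ plane F e x v := Submodule.subset_span (by simp)
  have heP : e ∈ plane F e x v := Submodule.subset_span (by simp)
  have hLP : Submodule.span F ({x, v} : Set V) ≤ plane F e x v :=
    Submodule.span_le.2 (by rintro u (rfl | rfl) <;> assumption)
  have hzP : ∀ u ∈ plane F e x v, polar Q z u = 0 := fun u hu => by
    obtain ⟨a, b, d, rfl⟩ := Submodule.mem_span_triple.1 hu
    simp only [polar_add_right, polar_smul_right, (polar_comm Q z e).trans (mem_core.1 h.z_mem).1,
      (polar_comm Q z x).trans h.xz, (polar_comm Q z v).trans h.vz, smul_zero, add_zero]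
  have sk : ∀ a : F, SPair Q x (a • v) := fun a => h.line.spair.smul a
  have sl : ∀ u ∈ Submodule.span F ({x, v} : Set V), SPair Q e u := fun u hu =>
    ⟨hd.pair.left, (hts e heP u (hLP hu)).1⟩
  have sz : ∀ u ∈ plane F e x v, SPair Q z u := fun u hu => ⟨h.zz.left, hzP u hu⟩
  have key : ∀ (a : F) (u : V), u ∈ Submodule.span F ({x, v} : Set V) →
      el Q z y₂ * (el Q x (a • v) * el Q e u) = (el Q x (a • v) * el Q e u) * el Q z y₂ := by
    intro a u hu
    rw [← mul_assoc, el_commute (sk a) ((polar_comm Q _ _).trans (hzP x hxP))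
      (by rw [polar_smul_left, polar_comm Q v z, hzP v hvP, smul_zero])
      ((hts x hxP y₂ hy₂).1)
      (by rw [polar_smul_left, (hts v hvP y₂ hy₂).1, smul_zero]), mul_assoc,
      el_commute (sl u hu) ((polar_comm Q _ _).trans (hzP e heP))
      ((polar_comm Q _ _).trans (hzP u (hLP hu))) ((hts e heP y₂ hy₂).1)
      ((hts u (hLP hu) y₂ hy₂).1), mul_assoc]
  have key2 : el Q e l * el Q x (k₂ • v) = el Q x (k₂ • v) * el Q e l :=
    el_commute (sk k₂) (hts x hxP e heP).1
      (by rw [polar_smul_left, (hts v hvP e heP).1, smul_zero]) (hts x hxP l (hLP hl)).1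
      (by rw [polar_smul_left, (hts v hvP l (hLP hl)).1, smul_zero])
  unfold phi
  rw [show el Q z y * (el Q x (k • v) * el Q e l) * (el Q z y₂ * (el Q x (k₂ • v) * el Q e l₂)) =
      el Q z y * ((el Q x (k • v) * el Q e l) * el Q z y₂) * (el Q x (k₂ • v) * el Q e l₂) by group,
    ← key k l hl,
    show el Q z y * (el Q z y₂ * (el Q x (k • v) * el Q e l)) * (el Q x (k₂ • v) * el Q e l₂) =
      (el Q z y * el Q z y₂) * (el Q x (k • v) * (el Q e l * el Q x (k₂ • v)) * el Q e l₂) by group,
    key2,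
    show (el Q x (k • v) * (el Q x (k₂ • v) * el Q e l) * el Q e l₂) =
      (el Q x (k • v) * el Q x (k₂ • v)) * (el Q e l * el Q e l₂) by group,
    el_mul (sz y hy) (sz y₂ hy₂), el_mul (sk k) (sk k₂), el_mul (sl l hl) (sl l₂ hl₂), add_smul]

/-- Root elements at a point of the plane in terms of the family. -/
theorem phi_root (hd : LiftData K e f) (h : Four Q e f x v x' v' z z') (h2 : (2 : F) = 0)
    (a0 a1 a2 b0 b1 b2 : F) :
    el Q (a0 • e + a1 • x + a2 • v) (z + (b0 • e + b1 • x + b2 • v)) =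
      phi Q e x v z (a0 • e + a1 • x + a2 • v) (a1 * b2 - a2 * b1)
        ((a0 * b1 - a1 * b0) • x + (a0 * b2 - a2 * b0) • v) := by
  have hts := plane_ts hd.pair h.x_mem h.v_mem h.line
  set y := a0 • e + a1 • x + a2 • v
  set p := b0 • e + b1 • x + b2 • v
  have hm : ∀ a b c : F, a • e + b • x + c • v ∈ plane F e x v := fun a b c =>
    Submodule.mem_span_triple.2 ⟨a, b, c, rfl⟩
  have hyz : polar Q y z = 0 := by
    simp only [y, polar_add_left, polar_smul_left, (mem_core.1 h.z_mem).1, h.xz, h.vz, smul_zero,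
      add_zero]
  obtain ⟨h1, hQy⟩ := hts y (hm a0 a1 a2) p (hm b0 b1 b2)
  unfold phi
  rw [← el_mul ⟨hQy, hyz⟩ ⟨hQy, h1⟩, el_plane hd.pair h.x_mem h.v_mem h.line,
    el_swap hQy h.zz.left hyz]
  congr 2
  rw [← neg_one_smul F z, show (-1 : F) = 1 by linear_combination -h2, one_smul]

/-- The pair's values agree. -/
theorem values_eq (h : PlusData Q 4) (hq : Nat.card F = 2) (hst : SmallTriv K)
    (hd : LiftData K e f) (h4 : Four Q e f x v x' v' z z') :
    polar Q (cz K e f (el Q x v)) z = polar Q (cz K e f (el Q x v)) z' := by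
  classical
  obtain ⟨_, h2, hone⟩ := two_facts hq
  have hk : ∀ t : F, t ≠ 0 → t = 1 ∨ t = -1 := fun t ht => Or.inl (hone t ht)
  have h8 : finrank F V = 8 := h.rank
  have h7 : 7 ≤ finrank F V := by omega
  suffices main : ∀ {z z' : V}, Four Q e f x v x' v' z z' →
      polar Q (cz K e f (el Q x v)) z = 0 → polar Q (cz K e f (el Q x v)) z' = 1 → False by
    by_contra hne
    rcases eq_or_ne (polar Q (cz K e f (el Q x v)) z) 0 with h0 | h0
    · exact main h4 h0 (hone _ fun h0' => hne (h0.trans h0'.symm))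
    · refine main h4.swapPair ?_ (hone _ h0)
      by_contra h0'
      exact hne ((hone _ h0).trans (hone _ h0').symm)
  clear h4
  intro z z' h4 hc0 hc1
  have hneg : (-1 : F) = 1 := by linear_combination -h2
  obtain ⟨hx, hv, hl⟩ : x ∈ core Q e f ∧ v ∈ core Q e f ∧ LPair Q x v :=
    ⟨h4.x_mem, h4.v_mem, h4.line⟩
  set c := cz K e f (el Q x v) with hc
  obtain ⟨hcW, hcK⟩ := cz_spec hd (el_mem_fix2 hx hv hl.spair)
  obtain ⟨hxc, hvc⟩ := cz_perp_line hd h7 hx hv hl
  have hnotL : c ∉ Submodule.span F ({x, v} : Set V) := fun hL => by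
    obtain ⟨a, b, hab⟩ := Submodule.mem_span_pair.1 hL
    rw [← hab, polar_add_left, polar_smul_left, polar_smul_left, h4.xz', h4.vz'] at hc1
    simp at hc1
  have hcl : c - z ∈ Submodule.span F ({x, v} : Set V) := by
    refine h4.on_line h.nd h8 hd ((core Q e f).sub_mem hcW h4.z_mem) ?_ ?_ ?_ ?_
    · rw [polar_sub_right, hxc, h4.xz, sub_zero]
    · rw [polar_sub_right, hvc, h4.vz, sub_zero]
    · rw [polar_sub_left, hc0, h4.zz.pol_ee, sub_zero]
    · rw [polar_sub_left, hc1, h4.zz.pol, sub_self]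
  obtain ⟨a1, a2, hca⟩ := Submodule.mem_span_pair.1 hcl
  have hcz : c = z + (a1 • x + a2 • v) := by rw [hca]; abel
  -- both neighbours
  have nb : ∀ {x v x' v' : V}, Four Q e f x v x' v' z z' → cz K e f (el Q x v) = c →
      c ∉ Submodule.span F ({x, v} : Set V) →
      ∃ d b a : F, el Q e v * el Q x (z + (d • e + b • x + a • v)) ∈ K := by
    intro x v x' v' h4 hcc hnotL
    have hxr : ∀ t : F, x ≠ t • e := fun t ht => h4.line.ne (by
      have h1 := (mem_core.1 h4.x_mem).2
      rw [ht, polar_smul_right, hd.pair.pol', smul_eq_mul, mul_one] at h1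
      rw [ht, h1, zero_smul])
    have hs := small_of_not_line h hq hd h4.x_mem h4.v_mem h4.line (hcc ▸ hnotL)
      (Submodule.subset_span (by simp)) hxr h4.line.qa
    obtain ⟨hpp, hlt⟩ := hst x h4.line.qa h4.line.ne hs
    have hdx : LiftData K x x' := ⟨h4.xx, h.nd, hpp, hlt⟩
    obtain ⟨m, hmP, -, hmK, hcm, hmem⟩ := lift_neighbour hd h7 hk h4.frame hdx
    rw [hcc] at hcm hmem
    obtain ⟨p, hp, hm⟩ := h4.decomp h.nd h8 hd hmP
    obtain ⟨d, b, a, hpd⟩ := Submodule.mem_span_triple.1 hp
    have hcp : polar Q c p = 0 := by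
      obtain ⟨hcW', -⟩ := cz_spec hd (el_mem_fix2 h4.x_mem h4.v_mem h4.line.spair)
      obtain ⟨hxc', hvc'⟩ := cz_perp_line hd h7 h4.x_mem h4.v_mem h4.line
      rw [hcc] at hcW' hxc' hvc'
      rw [← hpd]
      simp only [polar_add_right, polar_smul_right, (polar_comm Q c e).trans (mem_core.1 hcW').1,
        (polar_comm Q c x).trans hxc', (polar_comm Q c v).trans hvc', smul_zero, add_zero]
    rw [hm, polar_add_right, polar_add_right, polar_smul_right, polar_smul_right, hcp, hc0, hc1,
      smul_zero, smul_eq_mul, mul_one, zero_add, zero_add] at hcm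
    rw [hcm, zero_smul, add_zero] at hm
    have hk1 : polar Q m z' = 1 := hone _ fun h0 => hnotL (hmem (by
      rw [h0, zero_smul, add_zero] at hm; rw [hm]; exact hp))
    rw [hk1, one_smul, ← hpd, add_comm] at hm
    exact ⟨d, b, a, by rwa [← hm]⟩
  obtain ⟨d, b, a, hKx⟩ := nb h4 rfl hnotL
  have hswap : el Q v x = el Q x v := by
    rw [el_swap hl.qa hl.qb hl.perp, ← neg_one_smul F v, hneg, one_smul]
  obtain ⟨d', b', a', hKv⟩ := nb h4.swapLine (by rw [hswap]) (by rwa [Set.pair_comm])
  have hm3 : ∀ a b c : F, a • e + b • x + c • v ∈ plane F e x v := fun a b c =>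
    Submodule.mem_span_triple.2 ⟨a, b, c, rfl⟩
  have hm2 : ∀ a b : F, a • x + b • v ∈ Submodule.span F ({x, v} : Set V) := fun a b =>
    Submodule.mem_span_pair.2 ⟨a, b, rfl⟩
  have hts := plane_ts hd.pair hx hv hl
  have hxP : x ∈ plane F e x v := Submodule.subset_span (by simp)
  have hvP : v ∈ plane F e x v := Submodule.subset_span (by simp)
  have heP : e ∈ plane F e x v := Submodule.subset_span (by simp)
  have He : phi Q e x v z ((1 : F) • e + (0 : F) • x + (0 : F) • v) (1 : F) (a1 • x + a2 • v) ∈ K := by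
    have hr := phi_root hd h4 h2 1 0 0 0 a1 a2
    simp only [one_smul, zero_smul, add_zero, zero_add, one_mul, zero_mul, mul_zero, sub_zero,
      sub_self] at hr ⊢
    rw [← hcz] at hr
    have hmul := phi_mul (K := K) hd h4 (k := 0) (k₂ := 1) (l := a1 • x + a2 • v) (l₂ := 0)
      heP (zero_mem (plane F e x v)) (hm2 a1 a2) (zero_mem _)
    rw [add_zero, add_zero, zero_add, ← hr] at hmul
    rw [← hmul]
    unfold phi
    rw [el_zero, el_zero, one_mul, mul_one, one_smul, ← el_commute
      (show SPair Q e c from ⟨hd.pair.left, (mem_core.1 hcW).1⟩)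
      (hts e heP x hxP).1 ((polar_comm Q _ _).trans hxc) (hts e heP v hvP).1
      ((polar_comm Q _ _).trans hvc)]
    exact hcK
  have Hx : phi Q e x v z ((0 : F) • e + (1 : F) • x + (0 : F) • v) a (d • x + (1 : F) • v) ∈ K := by
    have hr := phi_root hd h4 h2 0 1 0 d b a
    simp only [one_smul, zero_smul, add_zero, zero_add, one_mul, zero_mul, mul_zero, sub_zero,
      zero_sub] at hr ⊢
    rw [show -d = d by linear_combination -d * h2] at hr
    have hmul := phi_mul (K := K) hd h4 (k := 0) (k₂ := a) (l := v) (l₂ := d • x)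
      (zero_mem (plane F e x v)) hxP (Submodule.subset_span (by simp))
      (Submodule.smul_mem _ d (Submodule.subset_span (by simp)))
    rw [zero_add, zero_add, ← hr, add_comm v] at hmul
    rw [← hmul]
    unfold phi
    rw [el_zero, zero_smul, el_zero, one_mul, one_mul]
    exact hKx
  have Hv : phi Q e x v z ((0 : F) • e + (0 : F) • x + (1 : F) • v) a' ((1 : F) • x + d' • v) ∈ K := by
    have hr := phi_root hd h4 h2 0 0 1 d' a' b'
    simp only [one_smul, zero_smul, add_zero, zero_add, one_mul, zero_mul, mul_zero, sub_zero,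
      zero_sub] at hr ⊢
    rw [show -a' = a' by linear_combination -a' * h2, show -d' = d' by linear_combination -d' * h2,
      show d' • e + a' • x + b' • v = d' • e + b' • v + a' • x by abel] at hr
    have hmul := phi_mul (K := K) hd h4 (k := 0) (k₂ := a') (l := x) (l₂ := d' • v)
      (zero_mem (plane F e x v)) hvP (Submodule.subset_span (by simp))
      (Submodule.smul_mem _ d' (Submodule.subset_span (by simp)))
    rw [zero_add, zero_add, ← hr] at hmul
    rw [← hmul]
    unfold phi
    rw [el_zero, zero_smul, el_zero, one_mul, one_mul]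
    exact hKv
  -- a root element in `K` at a point of the plane
  have fin : ∀ y0 y1 y2 k0 k1 k2 : F, (y1 ≠ 0 ∨ y2 ≠ 0) →
      el Q (y0 • e + y1 • x + y2 • v) (z + (k0 • e + k1 • x + k2 • v)) ∈ K → False := by
    intro y0 y1 y2 k0 k1 k2 hy hK
    set y := y0 • e + y1 • x + y2 • v
    have hyP : y ∈ plane F e x v := hm3 y0 y1 y2
    have hy' : ∀ t : F, y ≠ t • e := off_point hd.pair hx hv hl hy
    have hQy := (hts y hyP y hyP).2
    have hy0 : y ≠ 0 := fun h0 => hy' 0 (by rw [h0, zero_smul])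
    obtain ⟨hpp, -⟩ := hst y hQy hy0 (small_of_not_line h hq hd hx hv hl hnotL hyP hy' hQy)
    obtain ⟨t, ht⟩ := hpp _ ⟨by
      rw [polar_add_right, (hts y hyP _ (hm3 k0 k1 k2)).1, add_zero]
      simp only [y, polar_add_left, polar_smul_left, (mem_core.1 h4.z_mem).1, h4.xz, h4.vz,
        smul_zero, add_zero], hK⟩
    have h1 := congrArg (polar Q z') ht
    simp only [y, polar_add_right, polar_smul_right, h4.zz.pol',
      (polar_comm Q z' e).trans (mem_core.1 h4.z'_mem).1, (polar_comm Q z' x).trans h4.xz',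
      (polar_comm Q z' v).trans h4.vz', smul_zero, add_zero, one_ne_zero] at h1
  have hd1 : ∀ s t : F, s ≠ t → t = 1 + s := fun s t hne => by
    have := hone (t - s) (sub_ne_zero.2 (Ne.symm hne))
    linear_combination this
  by_cases hA : a = a2
  · refine fin 1 1 0 0 (a1 + d) (1 + a2) (Or.inl one_ne_zero) ?_
    have hmem := K.mul_mem He Hx
    rw [phi_mul hd h4 (hm3 _ _ _) (hm3 _ _ _) (hm2 _ _) (hm2 _ _)] at hmem
    rw [phi_root hd h4 h2]
    convert hmem using 2 <;>
      first
        | (rw [hA]; ring1)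
        | (match_scalars <;> ring1)
        | ring1
  by_cases hB : a' = a1
  · refine fin 1 0 1 0 (1 + a1) (a2 + d') (Or.inr one_ne_zero) ?_
    have hmem := K.mul_mem He Hv
    rw [phi_mul hd h4 (hm3 _ _ _) (hm3 _ _ _) (hm2 _ _) (hm2 _ _)] at hmem
    rw [phi_root hd h4 h2]
    convert hmem using 2 <;>
      first
        | (rw [hB]; linear_combination (-1 - a1) * h2)
        | (match_scalars <;> linear_combination (0 : F) * h2)
        | ring1
  by_cases hC : d = d'
  · refine fin 0 1 1 (1 + d) (a + a') 0 (Or.inl one_ne_zero) ?_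
    have hmem := K.mul_mem Hx Hv
    rw [phi_mul hd h4 (hm3 _ _ _) (hm3 _ _ _) (hm2 _ _) (hm2 _ _)] at hmem
    rw [phi_root hd h4 h2]
    convert hmem using 2 <;>
      first
        | linear_combination (-a - a') * h2
        | (rw [← hC]; match_scalars <;> linear_combination (-1 - d) * h2)
        | (match_scalars <;> ring1)
  · have eA := hd1 a2 a (Ne.symm hA)
    have eB := hd1 a1 a' (Ne.symm hB)
    have eC := hd1 d d' hC
    refine fin 1 1 1 0 (1 + a1 + d) (a2 + d) (Or.inl one_ne_zero) ?_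
    have hmem := K.mul_mem (K.mul_mem He Hx) Hv
    rw [phi_mul hd h4 (hm3 _ _ _) (hm3 _ _ _) (hm2 _ _) (hm2 _ _),
      phi_mul hd h4 (add_mem (hm3 _ _ _) (hm3 _ _ _)) (hm3 _ _ _) (add_mem (hm2 _ _) (hm2 _ _))
        (hm2 _ _)] at hmem
    rw [phi_root hd h4 h2]
    convert hmem using 2 <;>
      first
        | (rw [eA, eB]; linear_combination (-2 - a1) * h2)
        | (rw [eC]; match_scalars <;> first | ring1 | linear_combination (-1 : F) * h2)
        | (match_scalars <;> ring1)

/-- The symmetric pairing of the lifts at a point. -/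
theorem cz_symm (hd : LiftData K e f) {u w : V} (hx : x ∈ core Q e f) (hx0 : x ≠ 0)
    (hQx : Q x = 0) (hu : u ∈ core Q e f) (hw : w ∈ core Q e f) (hxu : polar Q x u = 0)
    (hxw : polar Q x w = 0) (hcu : polar Q x (cz K e f (el Q x u)) = 0)
    (hcw : polar Q x (cz K e f (el Q x w)) = 0) :
    polar Q (cz K e f (el Q x u)) w = polar Q (cz K e f (el Q x w)) u := by
  have h := cz_comm hd (el_mem_fix2 hx hu ⟨hQx, hxu⟩) (el_mem_fix2 hx hw ⟨hQx, hxw⟩)
    (el_commute_same ⟨hQx, hxu⟩ ⟨hQx, hxw⟩)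
  rw [el_inv_apply_perp ⟨hQx, hxw⟩ hcu, el_inv_apply_perp ⟨hQx, hxu⟩ hcw, add_sub_cancel_left,
    add_sub_cancel_left] at h
  rw [polar_comm Q _ w, polar_comm Q (cz K e f (el Q x w)) u]
  exact smul_left_injective F hx0 h

/-- Over two elements, dimension eight: line lifts. -/
theorem lineLift_two (h : PlusData Q 4) (hq : Nat.card F = 2) (hst : SmallTriv K)
    (hd : LiftData K e f) : LineLift K e f := by
  classical
  intro x v hx hv hl
  by_contra hnotL
  obtain ⟨_, h2, hone⟩ := two_facts hq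
  have hk : ∀ t : F, t ≠ 0 → t = 1 ∨ t = -1 := fun t ht => Or.inl (hone t ht)
  have h8 : finrank F V = 8 := h.rank
  have h7 : 7 ≤ finrank F V := by omega
  obtain ⟨x', v', z, z', h4⟩ := exists_four h hq hd.pair hx hv hl
  obtain ⟨hcW, hcK⟩ := cz_spec hd (el_mem_fix2 hx hv hl.spair)
  obtain ⟨hxc, hvc⟩ := cz_perp_line hd h7 hx hv hl
  have hH := values_eq h hq hst hd h4
  have hcz : polar Q (cz K e f (el Q x v)) z = 1 := hone _ fun h0 =>
    hnotL (h4.on_line h.nd h8 hd hcW hxc hvc h0 (hH.symm.trans h0))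
  have hcz' : polar Q (cz K e f (el Q x v)) z' = 1 := hH ▸ hcz
  have hxr : ∀ t : F, x ≠ t • e := fun t ht => hl.ne (by
    have h1 := (mem_core.1 hx).2
    rw [ht, polar_smul_right, hd.pair.pol', smul_eq_mul, mul_one] at h1
    rw [ht, h1, zero_smul])
  obtain ⟨hpp, hlt⟩ := hst x hl.qa hl.ne (small_of_not_line h hq hd hx hv hl hnotL
    (Submodule.subset_span (by simp)) hxr hl.qa)
  have hdx : LiftData K x x' := ⟨h4.xx, h.nd, hpp, hlt⟩
  obtain ⟨m, hmP, hmW, hmK, hcm, hmem⟩ := lift_neighbour hd h7 hk h4.frame hdx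
  obtain ⟨p, hp, hm⟩ := h4.decomp h.nd h8 hd hmP
  obtain ⟨d, b, γ, hpd⟩ := Submodule.mem_span_triple.1 hp
  have hcp : polar Q (cz K e f (el Q x v)) p = 0 := by
    rw [← hpd]
    simp only [polar_add_right, polar_smul_right,
      (polar_comm Q _ e).trans (mem_core.1 hcW).1, (polar_comm Q _ x).trans hxc,
      (polar_comm Q _ v).trans hvc, smul_zero, add_zero]
  rw [hm, polar_add_right, polar_add_right, polar_smul_right, polar_smul_right, hcp, hcz, hcz',
    smul_eq_mul, smul_eq_mul, mul_one, mul_one, zero_add] at hcm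
  have heq : polar Q m z = polar Q m z' := by linear_combination hcm - polar Q m z' * h2
  have hone' : polar Q m z' = 1 := hone _ fun h0 => hnotL (hmem (by
    rw [heq, h0, zero_smul, zero_smul, add_zero, add_zero] at hm; rw [hm]; exact hp))
  rw [heq, hone', one_smul, one_smul, ← hpd] at hm
  have hb : b = 0 := by
    have h1 : polar Q x' m = 0 := (mem_core.1 hmW).2
    rw [hm] at h1
    simpa [polar_add_right, polar_smul_right, (polar_comm Q x' e).trans (mem_core.1 h4.x'_mem).1,
      h4.xx.pol', h4.x'v, h4.x'z, h4.x'z'] using h1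
  rw [hb, zero_smul, add_zero] at hm
  set w := z + z' + γ • v with hw
  have hwW : w ∈ core Q e f :=
    add_mem (add_mem h4.z_mem h4.z'_mem) (Submodule.smul_mem _ γ hv)
  have hxw : polar Q x w = 0 := by
    simp [hw, polar_add_right, polar_smul_right, h4.xz, h4.xz', hl.perp]
  have hxe : polar Q x e = 0 := (polar_comm Q _ _).trans (mem_core.1 hx).1
  have hSxw : SPair Q x w := ⟨hl.qa, hxw⟩
  have hneg : (-1 : F) = 1 := by linear_combination -h2
  have hCw : cz K e f (el Q x w) = v + d • x := by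
    refine cz_unique hd (el_mem_fix2 hx hwW hSxw)
      (add_mem hv (Submodule.smul_mem _ d hx)) ?_
    have hS1 : SPair Q x (d • e) := ⟨hl.qa, by rw [polar_smul_right, hxe, smul_zero]⟩
    have hS2 : SPair Q e (d • x) := ⟨hd.pair.left, by
      rw [polar_smul_right, (mem_core.1 hx).1, smul_zero]⟩
    have hS3 : SPair Q e v := ⟨hd.pair.left, (mem_core.1 hv).1⟩
    have hex : el Q x (d • e) = el Q e (d • x) := by
      by_cases hd0 : d = 0
      · rw [hd0, zero_smul, zero_smul, el_zero, el_zero]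
      rw [← el_smul_left hd0, el_swap hd.pair.left (by rw [Q_smul, hl.qa, mul_zero]) hS2.perp,
        ← neg_one_smul F (d • x), hneg, one_smul]
    have hkey : el Q e v * el Q x m = el Q x w * el Q e (v + d • x) := by
      rw [show m = w + d • e by rw [hm, hw]; abel, ← el_mul hSxw hS1, hex, ← mul_assoc,
        el_commute hSxw hxe ((polar_comm Q _ _).trans (mem_core.1 hwW).1) hl.perp
          (by simp [hw, polar_add_left, polar_smul_left, (polar_comm Q z v).trans h4.vz,
            (polar_comm Q z' v).trans h4.vz', polar_self', hl.qb]), mul_assoc, el_mul hS3 hS2]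
    rwa [hkey] at hmK
  -- the pairing
  let B : V → V → F := fun u r => polar Q (cz K e f (el Q x u)) r
  have hperp : ∀ u, u ∈ core Q e f → LPair Q x u → polar Q x (cz K e f (el Q x u)) = 0 ∧
      polar Q u (cz K e f (el Q x u)) = 0 := fun u hu hxu => cz_perp_line hd h7 hx hu hxu
  have hlz : LPair Q x z := lpair_of_partner h4.xx h4.zz.left (hyp_ne h4.zz).1 h4.xz h4.x'z
  have hlz' : LPair Q x z' := lpair_of_partner h4.xx h4.zz.right (hyp_ne h4.zz).2 h4.xz' h4.x'z'
  have hlv' : LPair Q x v' := lpair_of_partner h4.xx h4.vv.right (hyp_ne h4.vv).2 h4.xv' h4.x'v'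
  set w₁ := z + v' with hw₁
  have hw₁0 : w₁ ≠ 0 := fun h0 => by
    have h1 := congrArg (polar Q v) h0
    rw [hw₁, polar_add_right, h4.vz, h4.vv.pol, polar_zero_right, zero_add] at h1
    exact one_ne_zero h1
  have hQw₁ : Q w₁ = 0 := by
    rw [hw₁, Q_add, h4.zz.left, h4.vv.right, polar_comm Q z v', h4.v'z, add_zero, add_zero]
  have hlw₁ : LPair Q x w₁ := lpair_of_partner h4.xx hQw₁ hw₁0
    (by rw [hw₁, polar_add_right, h4.xz, h4.xv', add_zero])
    (by rw [hw₁, polar_add_right, h4.x'z, h4.x'v', add_zero])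
  have sym : ∀ {u r : V}, u ∈ core Q e f → r ∈ core Q e f → polar Q x u = 0 → polar Q x r = 0 →
      polar Q x (cz K e f (el Q x u)) = 0 → polar Q x (cz K e f (el Q x r)) = 0 → B u r = B r u :=
    fun hu hr h1 h2 h3 h4 => cz_symm hd hx hl.ne hl.qa hu hr h1 h2 h3 h4
  have symL : ∀ {u r : V}, u ∈ core Q e f → r ∈ core Q e f → LPair Q x u → LPair Q x r →
      B u r = B r u := fun hu hr h1 h2 =>
    sym hu hr h1.perp h2.perp (hperp _ hu h1).1 (hperp _ hr h2).1
  have hxw₀ : polar Q x (cz K e f (el Q x w)) = 0 := by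
    rw [hCw, polar_add_right, polar_smul_right, hl.perp, polar_self', hl.qa, mul_zero, smul_zero,
      add_zero]
  have symW : ∀ {u : V}, u ∈ core Q e f → LPair Q x u →
      B u w = polar Q (v + d • x) u := fun {u} hu h1 => by
    rw [sym hu hwW h1.perp hxw (hperp u hu h1).1 hxw₀]
    show polar Q (cz K e f (el Q x w)) u = _
    rw [hCw]
  have hBw : ∀ u, B u w = B u z + B u z' + γ * B u v := fun u => by
    show polar Q _ w = _
    rw [hw, polar_add_right, polar_add_right, polar_smul_right, smul_eq_mul]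
  -- instances of the value lemma
  have b1 : B z v = B z v' := values_eq h hq hst hd
    (show Four Q e f x z x' z' v v' from
      ⟨hx, h4.z_mem, h4.x'_mem, h4.z'_mem, hv, h4.v'_mem, h4.xx, h4.zz, h4.vv, h4.xz, h4.xz',
        h4.x'z, h4.x'z', hl.perp, h4.xv', h4.x'v, h4.x'v', (polar_comm Q _ _).trans h4.vz,
        (polar_comm Q _ _).trans h4.v'z, (polar_comm Q _ _).trans h4.vz',
        (polar_comm Q _ _).trans h4.v'z'⟩)
  have b2 : B z' v = B z' v' := values_eq h hq hst hd
    (show Four Q e f x z' x' z v v' from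
      ⟨hx, h4.z'_mem, h4.x'_mem, h4.z_mem, hv, h4.v'_mem, h4.xx,
        ⟨h4.zz.right, h4.zz.left, h4.zz.pol'⟩, h4.vv, h4.xz', h4.xz, h4.x'z', h4.x'z, hl.perp,
        h4.xv', h4.x'v, h4.x'v', (polar_comm Q _ _).trans h4.vz', (polar_comm Q _ _).trans h4.v'z',
        (polar_comm Q _ _).trans h4.vz, (polar_comm Q _ _).trans h4.v'z⟩)
  have b3 : B w₁ (v + z') = B w₁ z := values_eq h hq hst hd
    (show Four Q e f x w₁ x' v (v + z') z from
      ⟨hx, add_mem h4.z_mem h4.v'_mem, h4.x'_mem, hv, add_mem hv h4.z'_mem, h4.z_mem, h4.xx,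
        ⟨hQw₁, h4.vv.left, by
          rw [hw₁, polar_add_left, polar_comm Q z v, h4.vz, h4.vv.pol', zero_add]⟩,
        ⟨by rw [Q_add, h4.vv.left, h4.zz.right, h4.vz', add_zero, add_zero], h4.zz.left, by
          rw [polar_add_left, h4.vz, h4.zz.pol', zero_add]⟩,
        hlw₁.perp, hl.perp, by rw [hw₁, polar_add_right, h4.x'z, h4.x'v', add_zero], h4.x'v,
        by rw [polar_add_right, hl.perp, h4.xz', add_zero], h4.xz,
        by rw [polar_add_right, h4.x'v, h4.x'z', add_zero], h4.x'z,
        by rw [hw₁, polar_add_left, polar_add_right, polar_add_right, polar_comm Q z v, h4.vz,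
          h4.zz.pol, h4.vv.pol', h4.v'z']; linear_combination h2,
        by rw [hw₁, polar_add_left, h4.zz.pol_ee, h4.v'z, add_zero],
        by rw [polar_add_right, h4.vv.pol_ee, h4.vz', add_zero], h4.vz⟩)
  have hzv : B z v = 1 := (symL h4.z_mem hv hlz hl).trans hcz
  have hz'v : B z' v = 1 := (symL h4.z'_mem hv hlz' hl).trans hcz'
  have ez : B z z' + γ = 0 := by
    have h1 := hBw z
    rw [symW h4.z_mem hlz, hzv, show B z z = 0 from
      (polar_comm Q _ _).trans (hperp z h4.z_mem hlz).2, polar_add_left, polar_smul_left, h4.vz,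
      h4.xz] at h1
    simp only [smul_zero, add_zero, zero_add, mul_one] at h1
    exact h1.symm
  have ev : γ * B v v' = 1 := by
    have h1 := hBw v'
    rw [symW h4.v'_mem hlv', polar_add_left, polar_smul_left, h4.vv.pol, h4.xv',
      symL h4.v'_mem h4.z_mem hlv' hlz, symL h4.v'_mem h4.z'_mem hlv' hlz', ← b1, ← b2, hzv, hz'v,
      symL h4.v'_mem hv hlv' hl] at h1
    simp only [smul_zero, add_zero] at h1
    linear_combination -h1 - h2
  have hγ : γ = 1 := hone _ fun h0 => by rw [h0, zero_mul] at ev; exact zero_ne_one ev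
  rw [hγ, one_mul] at ev
  have hzz' : B z z' = 1 := by rw [hγ] at ez; linear_combination ez - h2
  have h1 : B w₁ (v + z') = 0 := by
    show polar Q _ (v + z') = 0
    rw [polar_add_right]
    show B w₁ v + B w₁ z' = 0
    rw [symL (add_mem h4.z_mem h4.v'_mem) hv hlw₁ hl,
      symL (add_mem h4.z_mem h4.v'_mem) h4.z'_mem hlw₁ hlz']
    show polar Q _ (z + v') + polar Q _ (z + v') = 0
    rw [polar_add_right, polar_add_right]
    show B v z + B v v' + (B z' z + B z' v') = 0
    rw [show B v z = 1 from hcz, ev, symL h4.z'_mem h4.z_mem hlz' hlz, hzz', ← b2, hz'v]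
    linear_combination 2 * h2
  have h1' : B w₁ z = 1 := by
    rw [symL (add_mem h4.z_mem h4.v'_mem) h4.z_mem hlw₁ hlz]
    show polar Q _ (z + v') = 1
    rw [polar_add_right]
    show B z z + B z v' = 1
    rw [show B z z = 0 from (polar_comm Q _ _).trans (hperp z h4.z_mem hlz).2, ← b1, hzv, zero_add]
  rw [b3, h1'] at h1
  exact one_ne_zero h1

end Cfsg.Agent.Lib.MinIndexOmega
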