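import Mathlib
import Cfsg.Agent.Lib.MinIndexOmega.TwoEight
import Cfsg.Agent.Lib.MinIndexOmega.OddThree

/-!
Lib/MinIndexOmega/PlusTwo: the plus series over two elements.
-/

set_option autoImplicit false
set_option linter.unusedSectionVars false

namespace Cfsg.Agent.Lib.MinIndexOmega

open Module QuadraticMap Cfsg.Agent.Lib.Forms Cfsg.Agent.Lib.OrthOmega Cfsg.Agent.Lib.AutPOmega

variable {F : Type*} [Field F] [Fintype F] {V : Type*} [AddCommGroup V] [Module F V]
variable [FiniteDimensional F V] {Q : QuadraticForm F V} {m : ℕ}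

/-- Few parameters in dimension eight, not all on the point. -/
theorem two_four_point (h : PlusData Q 4) (hq : Nat.card F = 2) {K : Subgroup (EG Q)} {e : V}
    (he0 : e ≠ 0) (he : Q e = 0) (hs : Nat.card (pp K he) ≤ Nat.card F ^ 4) {a : V}
    (ha : a ∈ pp K he) (ha' : ∀ t : F, a ≠ t • e) : 120 ≤ K.index := by
  classical
  haveI := finite_V F V
  haveI := finite_EG (Q := Q)
  obtain ⟨_, h2, -⟩ := two_facts hq
  have hn : 7 ≤ finrank F V := by rw [h.rank]; omega
  have hlev : (lev Q e 0).ncard + Nat.card F ^ 7 = levelCard Q 0 + Nat.card F ^ 6 :=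
    lev_even h.toEvenData (by omega) he0 he 0
  have hz : levelCard Q 0 + Nat.card F ^ 3 = Nat.card F ^ 7 + Nat.card F ^ 4 := h.zero
  have hL : ∀ d : F, d ≠ 0 → 56 ≤ (lev Q e d).ncard := fun d hd => by
    have h1 := h.toEvenData.lev_nonzero (by omega) he0 he hd
    rw [hq] at h1; norm_num at h1; exact h1
  let U : Submodule F V :=
    { carrier := (pp K he : Set V)
      add_mem' := fun ha hb => (pp K he).add_mem ha hb
      zero_mem' := zero_mem (pp K he)
      smul_mem' := fun t w hw => smul_mem_pp hq K he t hw }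
  have hcardU : Nat.card (pp K he) = Nat.card F ^ finrank F U := by
    rw [← Module.natCard_eq_pow_finrank (K := F)]
    exact Nat.card_congr (Equiv.refl _)
  have hk4 : finrank F U ≤ 4 := by
    rw [hcardU] at hs
    exact (Nat.pow_le_pow_iff_right (Finite.one_lt_card (α := F))).1 hs
  have h1 := cl_bound h.nd hn he0 he (K := K)
  rw [h.rank, hcardU, hq] at h1
  rw [hq] at hlev hz
  norm_num at hlev hz
  by_cases hall : ∀ w ∈ pp K he, Q w = 0
  · have hcl := card_cl_sing he0 ha ha' (hall a ha)
    rw [hq] at hcl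
    have hC : 70 ≤ (cl K he).ncard := by omega
    rcases (show finrank F U ≤ 2 ∨ finrank F U = 3 ∨ finrank F U = 4 by omega) with hk | hk | hk
    · have h2' : 2 ^ finrank F U ≤ 4 := (Nat.pow_le_pow_right (by omega) hk).trans (by norm_num)
      have h3 := h1.trans (Nat.mul_le_mul (Nat.mul_le_mul_left K.index h2')
        ((Nat.sub_le _ _).trans h2'))
      norm_num at h3
      omega
    · have hspan : finrank F (Submodule.span F (pp K he : Set V)) ≤ 3 :=
        (Submodule.finrank_mono (Submodule.span_le.2 (fun w hw => hw) :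
          Submodule.span F (pp K he : Set V) ≤ U)).trans hk.le
      have h3 := cl_bound_ts h.nd hn he0 he (by rw [hcardU, hk, hq]; norm_num) hspan
      rw [h.rank, hcardU, hk, hq] at h3
      norm_num at h3
      omega
    · have h4 := card_imgs_mul_le h.nd he0 he K
      rw [hcardU, hk, h.rank, hq] at h4
      have h5 := imgs_full h he he0 (by rw [hcardU, hk]) hall
      have h6 := relIndex_le_index K (pStab Q e)
      rw [hq] at h5
      norm_num at h4 h5
      omega
  · push Not at hall
    obtain ⟨b, hb, hb0⟩ := hall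
    have hcl := card_cl_aniso hb hb0 hL
    rw [gd_even h2, hq] at hcl
    rcases (show finrank F U ≤ 2 ∨ finrank F U = 3 ∨ finrank F U = 4 by omega) with hk | hk | hk
    · have h2' : 2 ^ finrank F U ≤ 4 := (Nat.pow_le_pow_right (by omega) hk).trans (by norm_num)
      have h3 := h1.trans (Nat.mul_le_mul (Nat.mul_le_mul_left K.index h2')
        ((Nat.sub_le _ _).trans h2'))
      norm_num at h3 hcl
      omega
    · have h3 := cl_bound_char h.nd hn Nat.prime_two he0 he (by rw [hcardU, hk, hq]; norm_num)
        (K := K)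
      rw [h.rank, hcardU, hk, hq] at h3
      norm_num at h3 hcl
      omega
    · have heU : e ∈ U := show e ∈ pp K he by simpa using smul_self_mem_pp K he (1 : F)
      obtain ⟨C, hC⟩ :=
        Submodule.exists_isCompl ((Submodule.span F ({e} : Set V)).comap U.subtype)
      obtain ⟨_, ⟨w, hwC, rfl⟩, hw0, hQw⟩ := exists_singular_any (Q := Q) (C.map U.subtype) (by
        rw [← (Submodule.equivMapOfInjective U.subtype Subtype.val_injective C).finrank_eq]
        have h1 := Submodule.finrank_add_eq_of_isCompl hC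
        have h2 : finrank F ((Submodule.span F ({e} : Set V)).comap U.subtype) = 1 := by
          rw [(Submodule.comapSubtypeEquivOfLe
            ((Submodule.span_singleton_le_iff_mem _ _).2 heU)).finrank_eq,
            finrank_span_singleton he0]
        omega)
      have hboth := card_cl_both he0 hb hb0 (show (w : V) ∈ pp K he from w.2) (fun t ht => hw0
        (congrArg Subtype.val ((Submodule.disjoint_def.1 hC.disjoint) w
          (Submodule.mem_span_singleton.2 ⟨t, ht.symm⟩) hwC))) hQw hL
      have h3 := cl_bound_char h.nd hn Nat.prime_two he0 he (by rw [hcardU, hk, hq]; norm_num)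
        (K := K)
      rw [h.rank, hcardU, hk, hq] at h3
      rw [gd_even h2, hq] at hboth
      norm_num at h3 hboth
      omega

/-- The plus series over two elements. -/
theorem plus_two_bound (h : PlusData Q m) (hm : 4 ≤ m) (hq : Nat.card F = 2)
    {K : Subgroup (EG Q)} (hK : K ≠ ⊤) : 2 ^ (m - 1) * (2 ^ m - 1) ≤ K.index := by
  classical
  obtain ⟨_, h2, -⟩ := two_facts hq
  have hn : 7 ≤ finrank F V := by rw [h.rank]; omega
  obtain ⟨e, he, he0, hs⟩ := exists_small h.nd hn hK
  rw [h.rank, show 2 * m / 2 = m by omega] at hs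
  have hz := h.zero
  rw [hq] at hz
  have e1 : 2 ^ (m - 1) * (2 ^ m - 1) + 2 ^ (m - 1) = 2 ^ (2 * m - 1) := by
    have : 1 ≤ 2 ^ m := Nat.one_le_pow _ _ (by omega)
    rw [← Nat.mul_succ, Nat.succ_eq_add_one, Nat.sub_add_cancel this, ← pow_add]
    congr 1; omega
  have e2 : 2 ^ m = 2 * 2 ^ (m - 1) := by rw [← pow_succ', show m - 1 + 1 = m by omega]
  set T := 2 ^ (m - 1) * (2 ^ m - 1)
  have hT1 : T ≤ 2 * Nat.card F ^ (finrank F V - 2) := by
    rw [hq, h.rank, ← pow_succ', show 2 * m - 2 + 1 = 2 * m - 1 by omega]; omega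
  have hT0 : T * (Nat.card F - 1) ≤ singCard Q := by
    rw [singCard_eq, hq]
    have : 1 ≤ 2 ^ (m - 1) := Nat.one_le_pow _ _ (by omega)
    omega
  have hT2 : ∀ c : F, c ≠ 0 → T * gd F ≤ levelCard Q c := fun c hc => by
    have h1 := h.nonzero c hc
    rw [hq] at h1
    rw [gd_even h2]; omega
  rcases (show 5 ≤ m ∨ m = 4 by omega) with h5 | rfl
  · by_cases hpp : ∀ w ∈ pp K he, ∃ t : F, w = t • e
    · exact bot_bound h.nd hn he0 he hpp
        (hasLevi_of_nine h.nd (by rw [h.rank]; omega) he0 he hpp) hT0 hT1 hT2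
    push Not at hpp
    obtain ⟨a, ha, ha'⟩ := hpp
    have hTle : T ≤ 2 ^ (3 * m - 6) :=
      le_trans (le_trans (Nat.le.intro e1) (Nat.pow_le_pow_right (by omega)
        (show 2 * m - 1 ≤ 3 * m - 6 by omega))) le_rfl
    refine hTle.trans ?_
    by_cases hall : ∀ w ∈ pp K he, Q w = 0
    · have hC := h.cl_sing_ge' hm he0 he ha ha' (hall a ha)
      have hdim := finrank_span_pp_le h.nd hall
      rw [h.rank] at hdim
      have h1 := even_ts h.toEvenData he0 he hm (show 2 * m + 1 ≤ 3 * m by omega) hC
        (show finrank F (Submodule.span F (pp K he : Set V)) ≤ m by omega)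
      rw [hq] at h1
      refine Nat.le_of_mul_le_mul_right (le_trans ?_ h1) (pow_pos (by omega) _)
      rw [← pow_add]
      exact Nat.pow_le_pow_right (by omega) (by omega)
    · push Not at hall
      obtain ⟨b, hb, hb0⟩ := hall
      have h1 := even_aniso h.toEvenData hm Nat.prime_two he0 he hs hb hb0
      rw [gd_even h2, hq, one_mul] at h1
      refine le_trans ?_ h1
      rw [show 3 * m - 6 = 3 * m - 7 + 1 by omega, pow_succ]
      omega
  · by_contra hcon
    have hT120 : T = 120 := by simp only [T]; norm_num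
    have hst : SmallTriv K := fun r hr hr0 hsr => by
      refine ⟨?_, ?_⟩
      · by_contra hpp
        push Not at hpp
        obtain ⟨a, ha, ha'⟩ := hpp
        exact hcon (hT120 ▸ two_four_point h hq hr0 hr hsr ha ha')
      · by_contra hlt
        push Not at hlt
        exact hcon (hT1.trans (hlt.trans (relIndex_le_index K _)))
    obtain ⟨hpp, -⟩ := hst e he he0 hs
    refine hcon (bot_bound h.nd hn he0 he hpp (fun hlt => ?_) hT0 hT1 hT2)
    obtain ⟨f, hp⟩ := exists_hypPair h.nd he0 he
    have hd : LiftData K e f := ⟨hp, h.nd, hpp, hlt⟩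
    exact hasLevi_of_lineLift hd hn (lineLift_two h hq hst hd)

end Cfsg.Agent.Lib.MinIndexOmega
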